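import Cfsg.Agent.Lib.Forms.Max.TensorWreath.Orth.Data

/-!
# The anisotropic part of the middle used for the root groups
-/

set_option autoImplicit false
set_option linter.unusedSectionVars false
set_option linter.unusedSimpArgs false

namespace Cfsg.Agent.TensorWreath.Or

open Matrix Cfsg.Agent.Aschbacher

variable {F : Type*} [Field F] {k : ℕ} {J : Matrix (Fin k) (Fin k) F} {a b : Fin k}

/-- an anisotropic line (degree three) or plane in the middle -/
structure Pln (J : Matrix (Fin k) (Fin k) F) (a b : Fin k) (f g : Fin k → F) : Prop where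
  hf : f ∈ mid F a b
  hg : g ∈ mid F a b
  hgf : frm J g f = 0
  hσ : frm J f f ≠ 0
  plane : (k = 3 ∧ g = 0) ∨ (4 ≤ k ∧ frm J g g ≠ 0 ∧ ∀ r : F, frm J f f + frm J g g * r ^ 2 ≠ 0)

theorem exists_pln [Fintype F] (hd : Hyp J a b) : ∃ f g, Pln J a b f g := by
  rcases (show k = 3 ∨ 4 ≤ k by have := hd.hk; omega) with h | h
  · obtain ⟨f, hf, hσ⟩ := exists_aniso hd
    exact ⟨f, 0, hf, zero_mem _, frm_zero_left _, hσ, Or.inl ⟨h, rfl⟩⟩
  · obtain ⟨f, hf, g, hg, hgf, hσ, hρ, hr⟩ := exists_plane hd h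
    exact ⟨f, g, hf, hg, hgf, hσ, Or.inr ⟨h, hρ, hr⟩⟩

variable {f g : Fin k → F}

theorem Pln.mem_mid (hp : Pln J a b f g) {u : Fin k → F} (hu : u ∈ Submodule.span F {f, g}) : u ∈ mid F a b := by
  obtain ⟨α, γ, rfl⟩ := Submodule.mem_span_pair.1 hu
  exact add_mem (Submodule.smul_mem _ _ hp.hf) (Submodule.smul_mem _ _ hp.hg)

theorem Pln.f_mem : f ∈ Submodule.span F ({f, g} : Set (Fin k → F)) := Submodule.subset_span (by simp)

theorem Pln.g_mem : g ∈ Submodule.span F ({f, g} : Set (Fin k → F)) := Submodule.subset_span (by simp)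

theorem Pln.aniso (hp : Pln J a b f g) (hd : Hyp J a b) {u : Fin k → F} (hu : u ∈ Submodule.span F {f, g})
    (h0 : u ≠ 0) : frm J u u ≠ 0 := by
  obtain ⟨α, γ, rfl⟩ := Submodule.mem_span_pair.1 hu
  intro hq
  simp only [frm_add_left, frm_add_right, frm_smul_left, frm_smul_right, hp.hgf, frm_comm hd.sym f g] at hq
  rcases hp.plane with ⟨-, rfl⟩ | ⟨-, hρ, hr⟩
  · simp only [smul_zero, add_zero] at h0
    rw [frm_zero_left] at hq
    have hα : α ≠ 0 := fun h => h0 (by rw [h, zero_smul])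
    exact mul_ne_zero (mul_ne_zero hα hα) hp.hσ (by linear_combination hq)
  · by_cases hα : α = 0
    · subst hα
      have hγ : γ ≠ 0 := fun h => h0 (by simp [h])
      exact mul_ne_zero (mul_ne_zero hγ hγ) hρ (by linear_combination hq)
    · exact hr (γ / α) (by field_simp; linear_combination hq)

end Cfsg.Agent.TensorWreath.Or
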