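import Cfsg.Agent.Lib.Forms.Max.TensorWreath.Orth.Setting
import Cfsg.Agent.Lib.Forms.Max.TensorWreath.Orth.Plane

/-!
# Wreath elements conjugate to the Siegel group of one slot
-/

set_option autoImplicit false
set_option linter.unusedSectionVars false
set_option linter.unusedSimpArgs false

namespace Cfsg.Agent.TensorWreath.Or

open Matrix Cfsg.Agent.Aschbacher

variable {F : Type*} [Field F] {k t : ℕ} {J : Matrix (Fin k) (Fin k) F} {a b : Fin k}

/-! ### vectors, contractions and uniqueness of the factors -/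

theorem exists_kernel2 (hk : 3 ≤ k) (φ χ : Fin k → F) : ∃ f : Fin k → F, f ≠ 0 ∧ φ ⬝ᵥ f = 0 ∧ χ ⬝ᵥ f = 0 := by
  let L : (Fin k → F) →ₗ[F] F × F :=
    { toFun := fun f => (φ ⬝ᵥ f, χ ⬝ᵥ f)
      map_add' := fun f g => by simp [dotProduct_add]
      map_smul' := fun c f => by simp [dotProduct_smul] }
  obtain ⟨f, hf, hf0⟩ := Submodule.exists_mem_ne_zero_of_ne_bot
    (LinearMap.ker_ne_bot_of_finrank_lt (f := L) (by
      rw [Module.finrank_prod, Module.finrank_self, Module.finrank_fintype_fun_eq_card, Fintype.card_fin]; omega))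
  exact ⟨f, hf0, congrArg Prod.fst (LinearMap.mem_ker.1 hf), congrArg Prod.snd (LinearMap.mem_ker.1 hf)⟩

theorem exists_dual' {f : Fin k → F} (hf : f ≠ 0) : ∃ ψ : Fin k → F, ψ ⬝ᵥ f = 1 := by
  obtain ⟨p, hp⟩ := Function.ne_iff.1 hf
  exact ⟨Pi.single p (f p)⁻¹, by rw [single_dotProduct, inv_mul_cancel₀ hp]⟩

/-- commuting unipotent matrices fix a common vector -/
theorem exists_common_fixed {ι : Type*} (p : ℕ) [Fact p.Prime] [CharP F p] (hk : 0 < k) (s : Finset ι)
    (A : ι → GL (Fin k) F) (hp : ∀ u ∈ s, A u ^ p = 1) (hc : ∀ u ∈ s, ∀ w ∈ s, Commute (A u) (A w)) :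
    ∃ f : Fin k → F, f ≠ 0 ∧ ∀ u ∈ s, (A u).val *ᵥ f = f := by
  classical
  haveI : Nonempty (Fin k) := ⟨⟨0, hk⟩⟩
  induction s using Finset.induction with
  | empty => exact ⟨Pi.single ⟨0, hk⟩ 1, by simp, by simp⟩
  | insert v s hv ih =>
    obtain ⟨f, hf0, hf⟩ := ih (fun u hu => hp u (Finset.mem_insert_of_mem hu))
      fun u hu w hw => hc u (Finset.mem_insert_of_mem hu) w (Finset.mem_insert_of_mem hw)
    set z := (A v).val - 1 with hz
    have hzp : z ^ p = 0 := by
      rw [hz, sub_pow_char_of_commute _ (Commute.one_right _), one_pow, ← Units.val_pow_eq_pow_val,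
        hp v (Finset.mem_insert_self _ _), Units.val_one, sub_self]
    have hex : ∃ n, z ^ (n + 1) *ᵥ f = 0 := ⟨p, by rw [pow_succ', hzp, mul_zero, zero_mulVec]⟩
    obtain ⟨n, hn, hmin⟩ : ∃ n, z ^ (n + 1) *ᵥ f = 0 ∧ ∀ q < n, z ^ (q + 1) *ᵥ f ≠ 0 :=
      ⟨Nat.find hex, Nat.find_spec hex, fun q hq => Nat.find_min hex hq⟩
    refine ⟨z ^ n *ᵥ f, ?_, fun u hu => ?_⟩
    · rcases n with _ | q
      · simpa using hf0
      · exact hmin q (Nat.lt_succ_self q)
    · rcases Finset.mem_insert.1 hu with rfl | hu'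
      · have h1 : ((A u).val - 1) *ᵥ (z ^ n *ᵥ f) = 0 := by rw [← hz, mulVec_mulVec, ← pow_succ', hn]
        rwa [sub_mulVec, one_mulVec, sub_eq_zero] at h1
      · have h1 : Commute (A u).val z := by
          have h2 : Commute (A u).val (A v).val :=
            (hc u hu v (Finset.mem_insert_self _ _)).map (Units.coeHom (Matrix (Fin k) (Fin k) F))
          exact h2.sub_right (Commute.one_right _)
        rw [mulVec_mulVec, (h1.pow_right n).eq, ← mulVec_mulVec, hf u hu']

/-- replacing one slot of a pair of pure vectors -/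
def ct (ψ f : Fin t → Fin k → F) (i : Fin t) :
    Matrix (Fin t → Fin k) (Fin t → Fin k) F →ₗ[F] Matrix (Fin k) (Fin k) F where
  toFun M := Matrix.of fun x y =>
    pvec (Function.update ψ i (Pi.single x 1)) ⬝ᵥ (M *ᵥ pvec (Function.update f i (Pi.single y 1)))
  map_add' M N := by ext x y; simp [add_mulVec, dotProduct_add]
  map_smul' c M := by ext x y; simp [smul_mulVec, dotProduct_smul]

/-- replacing two slots of a pair of pure vectors -/
def ct2 (ψ f : Fin t → Fin k → F) (i l : Fin t) (x y x' y' : Fin k) :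
    Matrix (Fin t → Fin k) (Fin t → Fin k) F →ₗ[F] F where
  toFun M := pvec (Function.update (Function.update ψ i (Pi.single x 1)) l (Pi.single x' 1)) ⬝ᵥ
    (M *ᵥ pvec (Function.update (Function.update f i (Pi.single y 1)) l (Pi.single y' 1)))
  map_add' M N := by simp [add_mulVec, dotProduct_add]
  map_smul' c M := by simp [smul_mulVec, dotProduct_smul]

theorem ct_pure {ψ f : Fin t → Fin k → F} (i : Fin t) {X : Fin t → Matrix (Fin k) (Fin k) F}
    (hψ : ∀ l, ψ l ⬝ᵥ f l = 1) (hX : ∀ l, l ≠ i → X l *ᵥ f l = f l) : ct ψ f i (pureTensor X) = X i := by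
  classical
  ext x y
  show pvec _ ⬝ᵥ (pureTensor X *ᵥ pvec _) = _
  rw [pure_mulVec_pvec, pvec_dot, ← Finset.mul_prod_erase _ _ (Finset.mem_univ i), Finset.prod_eq_one, mul_one]
  · simp [mulVec_single_one, single_dotProduct]
  · intro l hl
    rw [Function.update_of_ne (Finset.ne_of_mem_erase hl), Function.update_of_ne (Finset.ne_of_mem_erase hl),
      hX l (Finset.ne_of_mem_erase hl), hψ]

theorem ct2_pure {ψ f : Fin t → Fin k → F} {i l : Fin t} (hil : i ≠ l) (x y x' y' : Fin k)
    {X : Fin t → Matrix (Fin k) (Fin k) F}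
    (hψ : ∀ l, ψ l ⬝ᵥ f l = 1) (hX : ∀ q, q ≠ i → q ≠ l → X q *ᵥ f q = f q) :
    ct2 ψ f i l x y x' y' (pureTensor X) = X i x y * X l x' y' := by
  classical
  show pvec _ ⬝ᵥ (pureTensor X *ᵥ pvec _) = _
  rw [pure_mulVec_pvec, pvec_dot, ← Finset.mul_prod_erase _ _ (Finset.mem_univ i),
    ← Finset.mul_prod_erase _ _ (Finset.mem_erase.2 ⟨hil.symm, Finset.mem_univ l⟩), Finset.prod_eq_one, mul_one]
  · simp [mulVec_single_one, single_dotProduct, Function.update_of_ne hil]
  · intro q hq
    simp only [Finset.mem_erase] at hq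
    rw [Function.update_of_ne hq.1, Function.update_of_ne hq.2.1, Function.update_of_ne hq.1,
      Function.update_of_ne hq.2.1, hX q hq.2.1 hq.1, hψ]

theorem eq_one_of_pow_char [Finite F] (p : ℕ) [Fact p.Prime] [CharP F p] {c : F} (h : c ^ p = 1) : c = 1 :=
  frobenius_inj F p (by rw [frobenius_def, map_one, h])

theorem scalar_one [Finite F] (p : ℕ) [Fact p.Prime] [CharP F p] (hk : 0 < k) {c : F}
    (h : algebraMap F (Matrix (Fin k) (Fin k) F) c ^ p = 1) : algebraMap F (Matrix (Fin k) (Fin k) F) c = 1 := by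
  haveI : Nonempty (Fin k) := ⟨⟨0, hk⟩⟩
  rw [← map_pow, ← map_one (algebraMap F (Matrix (Fin k) (Fin k) F))] at h
  rw [eq_one_of_pow_char p ((algebraMap F (Matrix (Fin k) (Fin k) F)).injective h), map_one]

theorem unip_unique [Finite F] (p : ℕ) [Fact p.Prime] [CharP F p] (hk : 0 < k) {A B : Fin t → GL (Fin k) F}
    (hA : ∀ i, A i ^ p = 1) (hB : ∀ i, B i ^ p = 1) (h : pureGL A = pureGL B) : A = B := by
  funext i
  have h1 : pureGL (A * B⁻¹) = 1 := by rw [← pureGL_mul, ← pureGL_inv, h, mul_inv_cancel]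
  obtain ⟨c, -, hc⟩ := pure_scalar hk h1 i
  have e : (A i).val = algebraMap F _ c * (B i).val := by
    rw [← hc, ← Units.val_mul, Pi.mul_apply, Pi.inv_apply, inv_mul_cancel_right]
  have hp : algebraMap F (Matrix (Fin k) (Fin k) F) c ^ p = 1 := by
    have h2 := congrArg (· ^ p) e
    rwa [(Algebra.commute_algebraMap_left c _).mul_pow, ← Units.val_pow_eq_pow_val, ← Units.val_pow_eq_pow_val,
      hA, hB, Units.val_one, mul_one, eq_comm] at h2
  exact Units.ext (by rw [e, scalar_one p hk hp, one_mul])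

/-- the factors of a pure isometry of unipotent factors are isometries -/
theorem factor_iso [Finite F] (hd : Hyp J a b) (p : ℕ) [Fact p.Prime] [CharP F p] {A : Fin t → GL (Fin k) F}
    (hA : ∀ i, A i ^ p = 1) (h : pureGL A ∈ Iso (gram t J)) (i : Fin t) : A i ∈ Iso J := by
  classical
  haveI : Nonempty (Fin k) := ⟨a⟩
  rw [mem_Iso, pureGL_coe, pure_transpose, gram, ← map_mul, ← map_mul] at h
  have hentry : ∀ x y : Fin k, ((A i).valᵀ * J * (A i).val) x y *
      ∏ l ∈ Finset.univ.erase i, ((A l).valᵀ * J * (A l).val) a b = J x y := fun x y => by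
    have := congrFun (congrFun h (Function.update (fun _ => a) i x)) (Function.update (fun _ => b) i y)
    rw [pureTensor_apply, pureTensor_apply, ← Finset.mul_prod_erase _ _ (Finset.mem_univ i),
      ← Finset.mul_prod_erase _ _ (Finset.mem_univ i), Function.update_self, Function.update_self,
      Finset.prod_eq_one (f := fun l => J (Function.update (fun _ => a) i x l) (Function.update (fun _ => b) i y l))
        (fun l hl => by
          rw [Function.update_of_ne (Finset.ne_of_mem_erase hl), Function.update_of_ne (Finset.ne_of_mem_erase hl),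
            hd.jb, if_pos rfl]), mul_one] at this
    rw [← this]
    congr 1
    refine Finset.prod_congr rfl fun l hl => ?_
    rw [Function.update_of_ne (Finset.ne_of_mem_erase hl), Function.update_of_ne (Finset.ne_of_mem_erase hl)]
    rfl
  set C := ∏ l ∈ Finset.univ.erase i, ((A l).valᵀ * J * (A l).val) a b with hC
  have hC0 : C ≠ 0 := fun e => by
    have := hentry a b
    rw [e, mul_zero, hd.jb, if_pos rfl] at this
    exact zero_ne_one this
  have hM : (A i).valᵀ * J * (A i).val = C⁻¹ • J := by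
    ext x y
    rw [Matrix.smul_apply, smul_eq_mul, ← hentry x y]
    field_simp
  have hpow : ∀ n : ℕ, (A i ^ n).valᵀ * J * (A i ^ n).val = C⁻¹ ^ n • J := fun n => by
    induction n with
    | zero => simp
    | succ n ih =>
      rw [pow_succ, Units.val_mul, transpose_mul]
      calc (A i).valᵀ * (A i ^ n).valᵀ * J * ((A i ^ n).val * (A i).val)
          = (A i).valᵀ * ((A i ^ n).valᵀ * J * (A i ^ n).val) * (A i).val := by simp only [Matrix.mul_assoc]
        _ = _ := by rw [ih, mul_smul_comm, smul_mul_assoc, hM, smul_smul, ← pow_succ]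
  have h1 := hpow p
  rw [hA, Units.val_one, transpose_one, Matrix.one_mul, Matrix.mul_one] at h1
  have h2 : C⁻¹ ^ p = 1 := by
    have := congrFun (congrFun h1 a) b
    rw [Matrix.smul_apply, smul_eq_mul, hd.jb, if_pos rfl, mul_one] at this
    exact this.symm
  rw [mem_Iso, hM, eq_one_of_pow_char p h2, one_smul]

/-- a square zero skew operator in dimension three is zero -/
theorem skew_sq_zero (hS : Sym J) (hk : k = 3) {n : Matrix (Fin k) (Fin k) F} (hn : n ∈ skew J) (h0 : n * n = 0) :
    n = 0 := by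
  by_contra hne
  obtain ⟨x, hx⟩ : ∃ x, n *ᵥ x ≠ 0 := by
    by_contra h
    push Not at h
    exact hne (Matrix.ext_iff_mulVec.2 fun x => by rw [h, Matrix.zero_mulVec])
  set v := n *ᵥ x with hv
  have hrk : Module.finrank F (LinearMap.range n.mulVecLin) ≤ 1 := by
    have h1 := LinearMap.finrank_range_add_finrank_ker n.mulVecLin
    have h2 := Submodule.finrank_mono (show LinearMap.range n.mulVecLin ≤ LinearMap.ker n.mulVecLin by
      rintro _ ⟨y, rfl⟩
      show n *ᵥ (n *ᵥ y) = 0
      rw [mulVec_mulVec, h0, Matrix.zero_mulVec])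
    rw [Module.finrank_fintype_fun_eq_card, Fintype.card_fin] at h1
    omega
  have hspan : LinearMap.range n.mulVecLin = Submodule.span F {v} :=
    (Submodule.eq_of_le_of_finrank_le ((Submodule.span_singleton_le_iff_mem _ _).2 (LinearMap.mem_range_self n.mulVecLin x))
      (by rw [finrank_span_singleton (show n.mulVecLin x ≠ 0 from hx)]; exact hrk)).symm
  have hall : ∀ y, ∃ c : F, n *ᵥ y = c • v := fun y => by
    obtain ⟨c, hc⟩ := Submodule.mem_span_singleton.1 (hspan.le (LinearMap.mem_range_self n.mulVecLin y))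
    exact ⟨c, hc.symm⟩
  have hdiag : ∀ y, frm J y (n *ᵥ y) = 0 := fun y => by
    have h1 := (mem_skew_frm hS).1 hn y y
    rw [frm_comm hS (n *ᵥ y)] at h1
    have h2 : (2 : F) * frm J y (n *ᵥ y) = 0 := by linear_combination h1
    exact (mul_eq_zero.1 h2).resolve_left hS.two
  refine hx (frm_nd hS fun y => ?_)
  obtain ⟨c, hc⟩ := hall y
  have hcx : frm J x v = 0 := hdiag x
  have h1 := hdiag (x + y)
  rw [mulVec_add, frm_add_left, frm_add_right, frm_add_right, hdiag y, ← hv, hcx, hc, frm_smul_right, hcx,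
    mul_zero, zero_add, zero_add, add_zero] at h1
  rw [frm_comm hS, h1]

/-! ### a family of wreath elements with the relations of a Siegel group -/

variable [Fintype F] {pf pg : Fin k → F}

/-- the span of the plane -/
abbrev Pl (F : Type*) [Field F] {k : ℕ} (pf pg : Fin k → F) : Submodule F (Fin k → F) :=
  Submodule.span F ({pf, pg} : Set (Fin k → F))

/-- an orthogonal partner inside the plane -/
theorem exists_orth (hd : Hyp J a b) (hp : Pln J a b pf pg) (hk4 : 4 ≤ k) {v : Fin k → F} (hv : v ∈ Pl F pf pg)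
    (hv0 : v ≠ 0) : ∃ w ∈ Pl F pf pg, frm J v w = 0 ∧ frm J w w ≠ 0 := by
  have hg : frm J pg pg ≠ 0 := by
    rcases hp.plane with ⟨h, -⟩ | ⟨-, h, -⟩
    · omega
    · exact h
  have hm : frm J v pg • pf - frm J v pf • pg ∈ Pl F pf pg :=
    sub_mem (Submodule.smul_mem _ _ Pln.f_mem) (Submodule.smul_mem _ _ Pln.g_mem)
  refine ⟨_, hm, by simp only [frm_sub_right, frm_smul_right]; ring, hp.aniso hd hm fun h => ?_⟩
  have h1 := congrArg (fun z => frm J z pf) h
  have h2 := congrArg (fun z => frm J z pg) h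
  simp only [frm_sub_left, frm_smul_left, hp.hgf, frm_comm hd.sym pf pg, frm_zero_left, mul_zero, sub_zero, zero_sub,
    neg_eq_zero] at h1 h2
  have e1 := (mul_eq_zero.1 h1).resolve_right hp.hσ
  have e2 := (mul_eq_zero.1 h2).resolve_right hg
  obtain ⟨α, γ, hvc⟩ := Submodule.mem_span_pair.1 hv
  refine hp.aniso hd hv hv0 ?_
  nth_rewrite 2 [← hvc]
  rw [frm_add_right, frm_smul_right, frm_smul_right, e1, e2, mul_zero, mul_zero, add_zero]

theorem perm_trivial (hd : Hyp J a b) (hp : Pln J a b pf pg) (p : ℕ) [Fact p.Prime] [CharP F p] (y : (Fin k → F) → GL (Fin t → Fin k) F)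
    (E : Matrix (Fin t → Fin k) (Fin t → Fin k) F) (hW : ∀ u ∈ (Pl F pf pg), y u ∈ Wr F k t)
    (hmul : ∀ u ∈ (Pl F pf pg), ∀ w ∈ (Pl F pf pg), y (u + w) = y u * y w)
    (hsum : ∀ u ∈ (Pl F pf pg), (y u).val + (y (-u)).val = (2 : F) • 1 - frm J u u • E) :
    ∀ u ∈ (Pl F pf pg), ∃ c, y u = pureGL c := by
  classical
  have hk : 3 ≤ k := hd.hk
  have h2 := hd.sym.two
  have hp2 : p ≠ 2 := fun e => h2 (by subst e; exact CharTwo.two_eq_zero)
  choose! π c hy using fun u hu => exists_nf (hW u hu)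
  have hπ : ∀ u ∈ (Pl F pf pg), ∀ w ∈ (Pl F pf pg), π (u + w) = π u * π w := fun u hu w hw => by
    refine nf_unique (a := c (u + w)) (b := (c u ∘ π w) * c w) (by omega) ?_
    rw [← hy _ (add_mem hu hw), hmul u hu w hw, hy u hu, hy w hw, mul_nf]
  have hπ0 : π 0 = 1 := by
    have := hπ 0 (zero_mem _) 0 (zero_mem _)
    rw [add_zero] at this
    exact mul_eq_left.1 this.symm
  have hπneg : ∀ u ∈ (Pl F pf pg), π (-u) = (π u)⁻¹ := fun u hu =>
    eq_inv_of_mul_eq_one_left (by rw [← hπ _ (neg_mem hu) u hu, neg_add_cancel, hπ0])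
  have hπpow : ∀ u ∈ (Pl F pf pg), ∀ n : ℕ, π ((n : F) • u) = π u ^ n := fun u hu n => by
    induction n with
    | zero => simp [hπ0]
    | succ n ih => rw [Nat.cast_succ, add_smul, one_smul, hπ _ (Submodule.smul_mem _ _ hu) u hu, ih, pow_succ]
  have hodd : ∀ u ∈ (Pl F pf pg), ∀ i, π u i ≠ i → π u i ≠ (π u).symm i := by
    intro u hu i hi e
    have h1 : π u ^ p = 1 := by rw [← hπpow u hu, CharP.cast_eq_zero F p, zero_smul, hπ0]
    have h3 : (π u * π u) i = i := by
      rw [Equiv.Perm.mul_apply, e]; exact (π u).apply_symm_apply i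
    have hfix : ∀ q : ℕ, ((π u * π u) ^ q) i = i := fun q => by
      induction q with
      | zero => simp
      | succ q ih => rw [pow_succ, Equiv.Perm.mul_apply, h3, ih]
    obtain ⟨r, hr⟩ := (Fact.out : p.Prime).odd_of_ne_two hp2
    rw [hr, pow_succ', pow_mul, sq] at h1
    have h4 := congrArg (fun q : Equiv.Perm (Fin t) => q i) h1
    simp only [Equiv.Perm.mul_apply, Equiv.Perm.one_apply, hfix] at h4
    exact hi h4
  -- two moving parameters have equal values
  have key : ∀ u ∈ (Pl F pf pg), ∀ w ∈ (Pl F pf pg), ∀ i, π u i ≠ i → π w i ≠ i → frm J u u = frm J w w := by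
    intro u hu w hw i hui hwi
    have hmi : ∀ v ∈ (Pl F pf pg), π v i ≠ i → (π v).symm i ≠ i ∧ (π (-v)).symm i = π v i := fun v hv h =>
      ⟨fun e => h (by conv_lhs => rw [← e, Equiv.apply_symm_apply]), by rw [hπneg v hv]; rfl⟩
    let Ψi : Fin k → F := Pi.single a 1
    let χ : (Fin k → F) → Fin t → Fin k → F := fun v l =>
      if (π v).symm i = l then Ψi ᵥ* (c v l).val else if π v i = l then Ψi ᵥ* (c (-v) l).val else 0
    choose f hf0 hfu hfw using fun l => exists_kernel2 hk (χ u l) (χ w l)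
    let f' := Function.update f i (Pi.single a 1)
    have hf'0 : ∀ l, f' l ≠ 0 := fun l => by
      rcases eq_or_ne l i with rfl | hl
      · simp [f']
      · simp [f', Function.update_of_ne hl, hf0]
    choose ψ hψ using fun l => exists_dual' (hf'0 l)
    let Ψ := Function.update ψ i Ψi
    have hone : pvec Ψ ⬝ᵥ pvec f' = 1 := by
      rw [pvec_dot]
      refine Finset.prod_eq_one fun l _ => ?_
      rcases eq_or_ne l i with rfl | hl
      · simp [Ψ, Ψi, f']
      · simp [Ψ, Function.update_of_ne hl, hψ]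
    have hzero : ∀ v ∈ (Pl F pf pg), π v i ≠ i → (∀ l, χ v l ⬝ᵥ f l = 0) →
        pvec Ψ ⬝ᵥ ((y v).val *ᵥ pvec f') = 0 ∧ pvec Ψ ⬝ᵥ ((y (-v)).val *ᵥ pvec f') = 0 := by
      intro v hv hvi hχ
      obtain ⟨h1, h3⟩ := hmi v hv hvi
      constructor
      · rw [hy v hv, nf_mulVec_pvec, pvec_dot]
        refine Finset.prod_eq_zero (Finset.mem_univ i) ?_
        have := hχ ((π v).symm i)
        simp only [χ, if_pos] at this
        rw [show Ψ i = Ψi from Function.update_self .., show f' ((π v).symm i) = f ((π v).symm i) from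
          Function.update_of_ne h1 .., dotProduct_mulVec]
        exact this
      · rw [hy _ (neg_mem hv), nf_mulVec_pvec, pvec_dot]
        refine Finset.prod_eq_zero (Finset.mem_univ i) ?_
        have := hχ (π v i)
        simp only [χ, if_neg (hodd v hv i hvi).symm, if_pos] at this
        rw [h3, show Ψ i = Ψi from Function.update_self .., show f' (π v i) = f (π v i) from
          Function.update_of_ne hvi .., dotProduct_mulVec]
        exact this
    have hval : ∀ v ∈ (Pl F pf pg), π v i ≠ i → (∀ l, χ v l ⬝ᵥ f l = 0) →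
        frm J v v * (pvec Ψ ⬝ᵥ (E *ᵥ pvec f')) = 2 := by
      intro v hv hvi hχ
      have h := congrArg (fun M => pvec Ψ ⬝ᵥ (M *ᵥ pvec f')) (hsum v hv)
      obtain ⟨h1, h3⟩ := hzero v hv hvi hχ
      simp only [add_mulVec, sub_mulVec, smul_mulVec, one_mulVec, dotProduct_add, dotProduct_sub, dotProduct_smul,
        h1, h3, hone, smul_eq_mul] at h
      linear_combination h
    have h1 := hval u hu hui hfu
    have h3 := hval w hw hwi hfw
    exact mul_right_cancel₀ (fun e => h2 (by rw [e, mul_zero] at h1; exact h1.symm)) (h1.trans h3.symm)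
  intro u hu
  by_contra hcon
  have hπu : π u ≠ 1 := fun e => hcon ⟨c u, by rw [hy u hu, e, permGL_one, one_mul]⟩
  obtain ⟨i, hi⟩ : ∃ i, π u i ≠ i := by
    by_contra h
    push Not at h
    exact hπu (Equiv.ext h)
  -- the elements fixing `i` form a totally degenerate subgroup
  have hadd : ∀ v ∈ (Pl F pf pg), ∀ h ∈ (Pl F pf pg), π h i = i → π v i ≠ i → π (v + h) i ≠ i := by
    intro v hv h hh hhi hvi e
    rw [hπ v hv h hh, Equiv.Perm.mul_apply, hhi] at e
    exact hvi e
  have hkill : ∀ v ∈ (Pl F pf pg), π v i ≠ i → ∀ h ∈ (Pl F pf pg), π h i = i → frm J v h = 0 ∧ frm J h h = 0 := by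
    intro v hv hvi h hh hhi
    have e1 := key _ (add_mem hv hh) v hv i (hadd v hv h hh hhi hvi) hvi
    have e2 := key _ (add_mem hv (neg_mem hh)) v hv i (hadd v hv _ (neg_mem hh) (by
      rw [hπneg h hh]; exact Equiv.Perm.inv_eq_iff_eq.2 hhi.symm) hvi) hvi
    simp only [frm_add_left, frm_add_right, frm_neg_left, frm_neg_right, frm_comm hd.sym h v] at e1 e2
    have h4 : (2 : F) * (2 * frm J v h) = 0 := by linear_combination e1 - e2
    have h5 := (mul_eq_zero.1 ((mul_eq_zero.1 h4).resolve_left h2)).resolve_left h2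
    exact ⟨h5, by rw [h5] at e1; linear_combination e1⟩
  have hH : ∀ h ∈ (Pl F pf pg), π h i = i → h = 0 := fun h hh hhi => by
    by_contra h0
    exact hp.aniso hd hh h0 (hkill u hu hi h hh hhi).2
  have hconst : ∀ v ∈ (Pl F pf pg), v ≠ 0 → frm J v v = frm J u u := fun v hv hv0 =>
    key v hv u hu i (fun e => hv0 (hH v hv e)) hi
  obtain ⟨f, hf, hσ⟩ : ∃ f ∈ Pl F pf pg, frm J f f ≠ 0 := ⟨pf, Pln.f_mem, hp.hσ⟩
  have hf0 : f ≠ 0 := fun e => hσ (by rw [e, frm_zero_left])
  have hc : ∀ c : F, c ≠ 0 → c * c = 1 := fun c hc => by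
    have h1 := hconst (c • f) (Submodule.smul_mem _ _ hf) (smul_ne_zero hc hf0)
    rw [frm_smul_left, frm_smul_right, ← hconst f hf hf0] at h1
    exact mul_right_cancel₀ hσ (by linear_combination h1)
  have hk4 : 4 ≤ k := by
    rcases hd.big with hq | h4
    · exfalso
      apply hq
      obtain ⟨n, hn⟩ : ∃ n, n = Fintype.card F := ⟨_, rfl⟩
      have hle : Fintype.card F ≤ ({0, 1, -1} : Finset F).card := by
        rw [← Finset.card_univ]
        refine Finset.card_le_card fun c _ => ?_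
        rcases eq_or_ne c 0 with rfl | hc0
        · simp
        · rcases mul_self_eq_one_iff.1 (hc c hc0) with rfl | rfl <;> simp
      have hlt : 1 < Fintype.card F := Fintype.one_lt_card
      have hne : Fintype.card F ≠ 2 := fun e => h2 (by
        have := FiniteField.cast_card_eq_zero F
        rw [e] at this
        exact_mod_cast this)
      have : ({0, 1, -1} : Finset F).card ≤ 3 := Finset.card_le_three
      rw [Nat.card_eq_fintype_card]
      omega
    · exact h4
  obtain ⟨g, hg, hfg0, hρ⟩ := exists_orth hd hp hk4 hf hf0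
  have hgf : frm J g f = 0 := by rw [frm_comm hd.sym, hfg0]
  have hfg : f + g ≠ 0 := fun e => hσ (by
    have := congrArg (fun z => frm J z f) e
    simpa [frm_add_left, hgf, frm_zero_left] using this)
  have h1 := hconst (f + g) (add_mem hf hg) hfg
  rw [frm_add_left, frm_add_right, frm_add_right, hgf, frm_comm hd.sym f g, hgf, hconst f hf hf0,
    hconst g hg (fun e => hρ (by rw [e, frm_zero_left]))] at h1
  exact hσ (by rw [hconst f hf hf0]; linear_combination h1)

/-- unipotent factors of the family -/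
theorem exists_factors (hd : Hyp J a b) (hp : Pln J a b pf pg) (p : ℕ) [Fact p.Prime] [CharP F p] (y : (Fin k → F) → GL (Fin t → Fin k) F)
    (hI : ∀ u ∈ (Pl F pf pg), y u ∈ Iso (gram t J))
    (hmul : ∀ u ∈ (Pl F pf pg), ∀ w ∈ (Pl F pf pg), y (u + w) = y u * y w)
    (hpure : ∀ u ∈ (Pl F pf pg), ∃ c, y u = pureGL c) :
    ∃ A : (Fin k → F) → Fin t → GL (Fin k) F, (∀ u ∈ (Pl F pf pg), y u = pureGL (A u)) ∧
      (∀ u ∈ (Pl F pf pg), ∀ i, A u i ^ p = 1 ∧ A u i ∈ Iso J) ∧
      (∀ u ∈ (Pl F pf pg), ∀ w ∈ (Pl F pf pg), A (u + w) = A u * A w) := by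
  classical
  have hk : 0 < k := by have := hd.hk; omega
  haveI : Nonempty (Fin k) := ⟨a⟩
  have hy0 : y 0 = 1 := by
    have := hmul 0 (zero_mem _) 0 (zero_mem _)
    rw [add_zero] at this
    exact mul_eq_left.1 this.symm
  have hpow : ∀ u ∈ (Pl F pf pg), ∀ n : ℕ, y ((n : F) • u) = y u ^ n := fun u hu n => by
    induction n with
    | zero => simp [hy0]
    | succ n ih => rw [Nat.cast_succ, add_smul, one_smul, hmul _ (Submodule.smul_mem _ _ hu) u hu, ih, pow_succ]
  have hA : ∀ u ∈ (Pl F pf pg), ∃ A : Fin t → GL (Fin k) F, y u = pureGL A ∧ ∀ i, A i ^ p = 1 := by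
    intro u hu
    obtain ⟨c, hc⟩ := hpure u hu
    obtain ⟨B, hB, hB'⟩ := pure_unipotent (a := c) p hk (by
      rw [← hc, ← hpow u hu, CharP.cast_eq_zero F p, zero_smul, hy0])
    refine ⟨B, hc.trans hB.symm, fun i => Units.ext ?_⟩
    have h1 := hB' i
    rwa [sub_pow_char_of_commute _ (Commute.one_right _), one_pow, sub_eq_zero, ← Units.val_pow_eq_pow_val] at h1
  choose! A hyA hAp using hA
  refine ⟨A, hyA, fun u hu i => ⟨hAp u hu i, factor_iso hd p (hAp u hu) (hyA u hu ▸ hI u hu) i⟩, fun u hu w hw => ?_⟩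
  have hcomm : A u * A w * (A u)⁻¹ = A w := by
    refine unip_unique p hk (fun i => ?_) (hAp w hw) ?_
    · rw [Pi.mul_apply, Pi.mul_apply, Pi.inv_apply, conj_pow, hAp w hw, mul_one, mul_inv_cancel]
    · rw [← pureGL_mul, ← pureGL_mul, ← pureGL_inv, ← hyA u hu, ← hyA w hw, ← hmul u hu w hw, add_comm u w,
        hmul w hw u hu, mul_inv_cancel_right]
  refine unip_unique p hk (hAp _ (add_mem hu hw)) (fun i => ?_) ?_
  · have hc : Commute (A u i) (A w i) := by
      have := congrFun hcomm i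
      rw [Pi.mul_apply, Pi.mul_apply, Pi.inv_apply, mul_inv_eq_iff_eq_mul] at this
      exact this
    rw [Pi.mul_apply, hc.mul_pow, hAp u hu, hAp w hw, mul_one]
  · rw [← pureGL_mul, ← hyA u hu, ← hyA w hw, ← hyA _ (add_mem hu hw), hmul u hu w hw]

/-- only one slot moves, and the root operator lives there -/
theorem slot_root (hd : Hyp J a b) (hp : Pln J a b pf pg) (p : ℕ) [Fact p.Prime] [CharP F p] (ht : 0 < t)
    (y : (Fin k → F) → GL (Fin t → Fin k) F) (N : (Fin k → F) →ₗ[F] Matrix (Fin t → Fin k) (Fin t → Fin k) F)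
    (E : Matrix (Fin t → Fin k) (Fin t → Fin k) F) (hE : E ≠ 0)
    (hI : ∀ u ∈ (Pl F pf pg), y u ∈ Iso (gram t J))
    (hmul : ∀ u ∈ (Pl F pf pg), ∀ w ∈ (Pl F pf pg), y (u + w) = y u * y w)
    (hval : ∀ u ∈ (Pl F pf pg), (y u).val = 1 + N u - ((2 : F)⁻¹ * frm J u u) • E)
    (hpure : ∀ u ∈ (Pl F pf pg), ∃ c, y u = pureGL c) :
    ∃ (l : Fin t) (R : Matrix (Fin k) (Fin k) F), E = S l R ∧ R ∈ slf J := by
  classical
  have hk : 3 ≤ k := hd.hk
  have h2 := hd.sym.two
  haveI : Nonempty (Fin k) := ⟨a⟩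
  obtain ⟨A, hyA, hAp, hAmul⟩ := exists_factors hd hp p y hI hmul hpure
  let U : Finset (Fin k → F) := Finset.univ.filter (· ∈ (Pl F pf pg))
  have hfix : ∀ l, ∃ f : Fin k → F, f ≠ 0 ∧ ∀ u ∈ (Pl F pf pg), (A u l).val *ᵥ f = f := fun l => by
    obtain ⟨f, h0, h⟩ := exists_common_fixed p (by omega) U (fun u => A u l)
      (fun u hu => (hAp u (Finset.mem_filter.1 hu).2 l).1)
      (fun u hu w hw => by
        have hu := (Finset.mem_filter.1 hu).2
        have hw := (Finset.mem_filter.1 hw).2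
        show A u l * A w l = A w l * A u l
        rw [← Pi.mul_apply, ← Pi.mul_apply, ← hAmul u hu w hw, ← hAmul w hw u hu, add_comm])
    exact ⟨f, h0, fun u hu => h u (Finset.mem_filter.2 ⟨Finset.mem_univ _, hu⟩)⟩
  choose f hf0 hfix using hfix
  choose ψ hψ using fun l => exists_dual' (hf0 l)
  have hyv : ∀ u ∈ (Pl F pf pg), pureTensor (fun i => (A u i).val) = 1 + N u - ((2 : F)⁻¹ * frm J u u) • E :=
    fun u hu => by rw [← pureGL_coe, ← hyA u hu, hval u hu]
  have hone : (1 : Matrix (Fin t → Fin k) (Fin t → Fin k) F) = pureTensor (fun _ => 1) := (map_one _).symm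
  let n : Fin t → (Fin k → F) →ₗ[F] Matrix (Fin k) (Fin k) F := fun i => (ct ψ f i).comp N
  let R : Fin t → Matrix (Fin k) (Fin k) F := fun i => ct ψ f i E
  have hA : ∀ i, ∀ u ∈ (Pl F pf pg), (A u i).val = 1 + n i u - ((2 : F)⁻¹ * frm J u u) • R i := fun i u hu => by
    have h1 := congrArg (ct ψ f i) (hyv u hu)
    rw [map_sub, map_add, map_smul, ct_pure i hψ (fun l _ => hfix l u hu), hone,
      ct_pure i hψ (fun l _ => one_mulVec _)] at h1
    exact h1
  have hz : ∀ i, ∀ u ∈ (Pl F pf pg), ∀ w ∈ (Pl F pf pg),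
      ((A u i).val - 1) * ((A w i).val - 1) = (-frm J u w) • R i := fun i u hu w hw => by
    have h1 : (A (u + w) i).val = (A u i).val * (A w i).val := by rw [hAmul u hu w hw, Pi.mul_apply, Units.val_mul]
    rw [mul_sub, sub_mul, sub_mul, ← h1, one_mul, mul_one, one_mul, hA i _ (add_mem hu hw), hA i u hu, hA i w hw,
      map_add]
    simp only [frm_add_left, frm_add_right, frm_comm hd.sym w u]
    match_scalars <;> field_simp <;> ring
  have hRs : ∀ i, R i ∈ slf J := by
    intro i
    obtain ⟨u, hu, hσ⟩ := (⟨pf, Pln.f_mem, hp.hσ⟩ : ∃ u ∈ Pl F pf pg, frm J u u ≠ 0)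
    have hinv : (A (-u) i).val = ((A u i)⁻¹).val := by
      congr 1
      refine eq_inv_of_mul_eq_one_left (unip_unique (t := 1) p (by omega) (A := fun _ => A (-u) i * A u i) (B := 1)
        (fun _ => ?_) (fun _ => one_pow _) ?_ |> fun h => congrFun h 0)
      · rw [← Pi.mul_apply, ← hAmul _ (neg_mem hu) u hu, neg_add_cancel]
        exact (hAp 0 (zero_mem _) i).1
      · refine congrArg _ (funext fun _ => ?_)
        rw [← Pi.mul_apply, ← hAmul _ (neg_mem hu) u hu, neg_add_cancel, Pi.one_apply]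
        have h0 : A 0 * A 0 = A 0 := by rw [← hAmul 0 (zero_mem _) 0 (zero_mem _), add_zero]
        rw [mul_eq_left.1 h0, Pi.one_apply]
    have hJ : ∀ g : GL (Fin k) F, g ∈ Iso J → J * (g⁻¹).val = g.valᵀ * J := fun g hg => by
      conv_lhs => rw [show J = g.valᵀ * J * g.val from hg.symm]
      rw [Matrix.mul_assoc, ← Units.val_mul, mul_inv_cancel, Units.val_one, Matrix.mul_one]
    have e : frm J u u • R i = (2 : F) • 1 - ((A u i).val + (A (-u) i).val) := by
      rw [hA i u hu, hA i _ (neg_mem hu), map_neg, frm_neg_left, frm_neg_right, neg_neg]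
      match_scalars <;> field_simp <;> ring
    refine (Submodule.smul_mem_iff _ hσ).1 ?_
    rw [e]
    refine sub_mem (Submodule.smul_mem _ _ (one_slf hd.sym)) ?_
    rw [mem_slf, hinv, mul_add, hJ _ (hAp u hu i).2, transpose_add, transpose_mul, transpose_mul, transpose_transpose,
      hd.sym.symm, add_comm]
  have hskew : ∀ i, ∀ u ∈ (Pl F pf pg), R i = 0 → n i u ∈ skew J := by
    intro i u hu hR
    have e1 : (A u i).val = 1 + n i u := by rw [hA i u hu, hR, smul_zero, sub_zero]
    have e2 : n i u * n i u = 0 := by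
      have := hz i u hu u hu
      rwa [e1, add_sub_cancel_left, hR, smul_zero] at this
    have hT := congrArg (fun M => J * M) e2
    have h1 : (A u i).valᵀ * J * (A u i).val = J := (hAp u hu i).2
    rw [e1] at h1
    rw [mem_skew, transpose_mul, hd.sym.symm]
    simp only [transpose_add, transpose_one, add_mul, mul_add, one_mul, mul_one] at h1
    have h3 : (n i u)ᵀ * J + J * n i u + (n i u)ᵀ * J * n i u = 0 := by
      have h4 := sub_eq_zero.2 h1
      rw [← h4]; abel
    have h4 : (n i u)ᵀ * J * n i u = 0 := by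
      have h5 := congrArg (fun M => M * n i u) h3
      simp only [add_mul, zero_mul, Matrix.mul_assoc, e2, mul_zero, add_zero] at h5
      rw [Matrix.mul_assoc]; exact h5
    rw [h4, add_zero] at h3
    exact eq_neg_of_add_eq_zero_left h3
  -- two slots
  have hpair : ∀ i l, i ≠ l → ∀ u ∈ (Pl F pf pg), ∀ w ∈ (Pl F pf pg), frm J u w = 0 → ∀ x y x' y',
      ((A u i).val - 1) x y * ((A w l).val - 1) x' y' + ((A w i).val - 1) x y * ((A u l).val - 1) x' y' = 0 := by
    intro i l hil u hu w hw huw x z x' z'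
    have P : ∀ v ∈ (Pl F pf pg), (A v i).val x z * (A v l).val x' z' =
        ct2 ψ f i l x z x' z' 1 + ct2 ψ f i l x z x' z' (N v) -
          ((2 : F)⁻¹ * frm J v v) * ct2 ψ f i l x z x' z' E := fun v hv => by
      have h1 := congrArg (ct2 ψ f i l x z x' z') (hyv v hv)
      rw [map_sub, map_add, map_smul, smul_eq_mul, ct2_pure hil x z x' z' hψ (fun q _ _ => hfix q v hv)] at h1
      exact h1
    have c0 : ct2 ψ f i l x z x' z' 1 = (1 : Matrix (Fin k) (Fin k) F) x z * (1 : Matrix (Fin k) (Fin k) F) x' z' := by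
      rw [hone, ct2_pure hil x z x' z' hψ (fun q _ _ => one_mulVec _)]
    have hAadd : ∀ q, (A (u + w) q).val = (A u q).val + (A w q).val - 1 := fun q => by
      have h1 := hz q u hu w hw
      rw [huw, neg_zero, zero_smul, mul_sub, sub_mul, sub_mul, one_mul, mul_one, one_mul, sub_eq_zero] at h1
      rw [hAmul u hu w hw, Pi.mul_apply, Units.val_mul, ← sub_eq_zero]
      rw [← sub_eq_zero] at h1
      rw [← h1]; abel
    have e1 := P _ (add_mem hu hw)
    have e2 := P u hu
    have e3 := P w hw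
    rw [hAadd, hAadd, map_add, map_add, frm_add_left, frm_add_right, frm_add_right, frm_comm hd.sym w u, huw,
      c0] at e1
    rw [c0] at e2 e3
    simp only [Matrix.add_apply, Matrix.sub_apply] at e1 ⊢
    linear_combination e1 - e2 - e3
  have hoff : ∀ l, R l ≠ 0 → ∀ i, i ≠ l → ∀ u ∈ (Pl F pf pg), A u i = 1 := by
    intro l hl i hil u hu
    suffices hni : R i = 0 ∧ ∀ v ∈ (Pl F pf pg), n i v = 0 by
      refine Units.ext ?_
      rw [hA i u hu, hni.1, hni.2 u hu, smul_zero, sub_zero, add_zero, Units.val_one]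
    rcases Nat.lt_or_ge k 4 with hk3 | hk4
    · -- dimension three
      have hRi : R i = 0 := by
        by_contra hi
        obtain ⟨x, z, hxz⟩ : ∃ x z, R i x z ≠ 0 := by
          by_contra h; push Not at h; exact hi (Matrix.ext h)
        obtain ⟨x', z', hxz'⟩ : ∃ x z, R l x z ≠ 0 := by
          by_contra h; push Not at h; exact hl (Matrix.ext h)
        obtain ⟨f', hf', hσ⟩ := (⟨pf, Pln.f_mem, hp.hσ⟩ : ∃ u ∈ Pl F pf pg, frm J u u ≠ 0)
        set s := (2 : F)⁻¹ * frm J f' f' with hs
        have hs0 : s ≠ 0 := mul_ne_zero (inv_ne_zero h2) hσ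
        have Q : ∀ d : F, (2 : F) * d ^ 2 * (n i f' x z * n l f' x' z' - s * R i x z * (1 : Matrix (Fin k) (Fin k) F) x' z'
              - s * R l x' z' * (1 : Matrix (Fin k) (Fin k) F) x z + s * ct2 ψ f i l x z x' z' E) +
            2 * d ^ 4 * s ^ 2 * (R i x z * R l x' z') = 0 := by
          intro d
          have P : ∀ v ∈ (Pl F pf pg), (A v i).val x z * (A v l).val x' z' =
              ct2 ψ f i l x z x' z' 1 + ct2 ψ f i l x z x' z' (N v) -
                ((2 : F)⁻¹ * frm J v v) * ct2 ψ f i l x z x' z' E := fun v hv => by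
            have h1 := congrArg (ct2 ψ f i l x z x' z') (hyv v hv)
            rw [map_sub, map_add, map_smul, smul_eq_mul, ct2_pure hil x z x' z' hψ (fun q _ _ => hfix q v hv)] at h1
            exact h1
          have c0 : ct2 ψ f i l x z x' z' 1 =
              (1 : Matrix (Fin k) (Fin k) F) x z * (1 : Matrix (Fin k) (Fin k) F) x' z' := by
            rw [hone, ct2_pure hil x z x' z' hψ (fun q _ _ => one_mulVec _)]
          have m1 : d • f' ∈ (Pl F pf pg) := Submodule.smul_mem _ _ hf'
          have e1 := P _ m1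
          have e2 := P _ (neg_mem m1)
          rw [hA i _ m1, hA l _ m1, c0] at e1
          rw [hA i _ (neg_mem m1), hA l _ (neg_mem m1), c0] at e2
          simp only [map_neg, map_smul, frm_neg_left, frm_neg_right, neg_neg, frm_smul_left, frm_smul_right,
            Matrix.add_apply, Matrix.sub_apply, Matrix.smul_apply, Matrix.neg_apply, smul_eq_mul] at e1 e2
          rw [hs]
          linear_combination e1 + e2
        obtain ⟨d, hd0, hd1⟩ : ∃ d : F, d ≠ 0 ∧ d * d ≠ 1 := by
          by_contra h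
          push Not at h
          have hq := hd.big.resolve_right (by omega)
          apply hq
          have hle : Fintype.card F ≤ ({0, 1, -1} : Finset F).card := by
            rw [← Finset.card_univ]
            refine Finset.card_le_card fun c _ => ?_
            rcases eq_or_ne c 0 with rfl | hc0
            · simp
            · rcases mul_self_eq_one_iff.1 (h c hc0) with rfl | rfl <;> simp
          have hlt : 1 < Fintype.card F := Fintype.one_lt_card
          have hne : Fintype.card F ≠ 2 := fun e => h2 (by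
            have := FiniteField.cast_card_eq_zero F
            rw [e] at this
            exact_mod_cast this)
          have : ({0, 1, -1} : Finset F).card ≤ 3 := Finset.card_le_three
          rw [Nat.card_eq_fintype_card]
          omega
        have h3 : (2 : F) * d ^ 2 * (d * d - 1) * s ^ 2 * (R i x z * R l x' z') = 0 := by
          linear_combination Q d - d ^ 2 * Q 1
        exact mul_ne_zero (mul_ne_zero (mul_ne_zero (mul_ne_zero h2 (pow_ne_zero _ hd0)) (sub_ne_zero.2 hd1))
          (pow_ne_zero _ hs0)) (mul_ne_zero hxz hxz') h3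
      refine ⟨hRi, fun v hv => skew_sq_zero hd.sym (by omega) (hskew i v hv hRi) ?_⟩
      have := hz i v hv v hv
      rwa [hA i v hv, hRi, smul_zero, sub_zero, add_sub_cancel_left, smul_zero] at this
    · -- at least four
      have han : ∀ v ∈ (Pl F pf pg), frm J v v ≠ 0 → (A v i).val - 1 = 0 := by
        intro v hv hσ
        by_contra hne
        obtain ⟨x', z', hxz'⟩ : ∃ x z, ((A v i).val - 1) x z ≠ 0 := by
          by_contra h; push Not at h; exact hne (Matrix.ext h)
        obtain ⟨w, hw, hvw, hρ⟩ := exists_orth hd hp hk4 hv fun e => hσ (by rw [e, frm_zero_left])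
        obtain ⟨r, hr⟩ : ∃ r : F, (A w l).val - 1 = r • ((A v l).val - 1) := by
          refine ⟨-(((A w i).val - 1) x' z' / ((A v i).val - 1) x' z'), Matrix.ext fun x z => ?_⟩
          rw [Matrix.smul_apply, smul_eq_mul]
          have := hpair i l hil v hv w hw hvw x' z' x z
          field_simp
          linear_combination this
        have h1 := hz l v hv w hw
        rw [hr, mul_smul_comm, hz l v hv v hv, hvw, neg_zero, zero_smul, smul_smul, smul_eq_zero] at h1
        have hr0 : r = 0 := (mul_eq_zero.1 (h1.resolve_right hl)).resolve_right (neg_ne_zero.2 hσ)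
        have h3 := hz l w hw w hw
        rw [hr, hr0, zero_smul, mul_zero, eq_comm, smul_eq_zero] at h3
        exact hl (h3.resolve_left (neg_ne_zero.2 hρ))
      have hRi : R i = 0 := by
        obtain ⟨v, hv, hσ⟩ := (⟨pf, Pln.f_mem, hp.hσ⟩ : ∃ u ∈ Pl F pf pg, frm J u u ≠ 0)
        have := hz i v hv v hv
        rw [han v hv hσ, mul_zero, eq_comm, smul_eq_zero] at this
        exact this.resolve_left (neg_ne_zero.2 hσ)
      refine ⟨hRi, fun v hv => ?_⟩
      rcases eq_or_ne v 0 with rfl | hv0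
      · exact map_zero _
      have := han v hv (hp.aniso hd hv hv0)
      rwa [hA i v hv, hRi, smul_zero, sub_zero, add_sub_cancel_left] at this
  -- the slot
  have hfinish : ∀ l, (∀ i, i ≠ l → ∀ u ∈ (Pl F pf pg), A u i = 1) → E = S l (R l) := by
    intro l hl
    have hy : ∀ u ∈ (Pl F pf pg), (y u).val = S l (A u l).val := fun u hu => by
      rw [hyA u hu, ← sgl_coe, sgl_eq]
      congr 2
      funext i
      rcases eq_or_ne i l with rfl | hi
      · simp
      · simp [Pi.mulSingle_eq_of_ne hi, hl i hi u hu]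
    obtain ⟨u, hu, hσ⟩ := (⟨pf, Pln.f_mem, hp.hσ⟩ : ∃ u ∈ Pl F pf pg, frm J u u ≠ 0)
    have h1 : (y u).val + (y (-u)).val = S l (A u l).val + S l (A (-u) l).val := by
      rw [hy u hu, hy _ (neg_mem hu)]
    rw [hval u hu, hval _ (neg_mem hu), ← map_add (S l), hA l u hu, hA l _ (neg_mem hu), map_neg, map_neg,
      frm_neg_left, frm_neg_right, neg_neg] at h1
    simp only [map_add, map_sub, map_neg, map_smul, map_one] at h1
    have h3 : frm J u u • E = frm J u u • S l (R l) := by
      rw [← sub_eq_zero] at h1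
      rw [← sub_eq_zero]
      refine Eq.trans ?_ ((congrArg Neg.neg h1).trans neg_zero)
      match_scalars <;> field_simp <;> ring
    exact smul_right_injective _ hσ h3
  by_cases hex : ∃ l, R l ≠ 0
  · obtain ⟨l, hl⟩ := hex
    exact ⟨l, R l, hfinish l (hoff l hl), hRs l⟩
  exfalso
  push Not at hex
  haveI : Nonempty (Fin t → Fin k) := ⟨fun _ => a⟩
  suffices hsl : ∃ l, ∀ i, i ≠ l → ∀ u ∈ (Pl F pf pg), A u i = 1 by
    obtain ⟨l, hl⟩ := hsl
    exact hE (by rw [hfinish l hl, hex l, map_zero])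
  have hn : ∀ i, ∀ u ∈ (Pl F pf pg), (A u i).val - 1 = n i u := fun i u hu => by
    rw [hA i u hu, hex i, smul_zero, sub_zero, add_sub_cancel_left]
  have hnn : ∀ i, ∀ u ∈ (Pl F pf pg), n i u * n i u = 0 := fun i u hu => by
    rw [← hn i u hu, hz i u hu u hu, hex i, smul_zero]
  have hzero : ∀ i, (∀ u ∈ (Pl F pf pg), n i u = 0) → ∀ u ∈ (Pl F pf pg), A u i = 1 := fun i h u hu =>
    Units.ext (sub_eq_zero.1 ((hn i u hu).trans (h u hu)))
  by_cases hall : ∀ i, ∀ u ∈ (Pl F pf pg), n i u = 0
  · exact ⟨⟨0, ht⟩, fun i _ => hzero i (hall i)⟩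
  push Not at hall
  obtain ⟨l, u₀, hu₀, hl⟩ := hall
  refine ⟨l, fun i hil => hzero i ?_⟩
  rcases Nat.lt_or_ge k 4 with hk3 | hk4
  · intro u hu
    exact skew_sq_zero hd.sym (by omega) (hskew i u hu (hex i)) (hnn i u hu)
  -- the tensor products vanish
  have hprod : ∀ x z x' z', ∀ u ∈ (Pl F pf pg), n i u x z * n l u x' z' = 0 := by
    intro x z x' z'
    set e := ct2 ψ f i l x z x' z' E
    have hsq : ∀ u ∈ (Pl F pf pg), ∀ x z x' z', 2 * (n i u x z * n l u x' z') =
        -(frm J u u * ct2 ψ f i l x z x' z' E) := by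
      intro u hu x z x' z'
      have P : ∀ v ∈ (Pl F pf pg), (A v i).val x z * (A v l).val x' z' =
          ct2 ψ f i l x z x' z' 1 + ct2 ψ f i l x z x' z' (N v) -
            ((2 : F)⁻¹ * frm J v v) * ct2 ψ f i l x z x' z' E := fun v hv => by
        have h1 := congrArg (ct2 ψ f i l x z x' z') (hyv v hv)
        rw [map_sub, map_add, map_smul, smul_eq_mul, ct2_pure hil x z x' z' hψ (fun q _ _ => hfix q v hv)] at h1
        exact h1
      have c0 : ct2 ψ f i l x z x' z' 1 =
          (1 : Matrix (Fin k) (Fin k) F) x z * (1 : Matrix (Fin k) (Fin k) F) x' z' := by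
        rw [hone, ct2_pure hil x z x' z' hψ (fun q _ _ => one_mulVec _)]
      have e1 := P u hu
      have e2 := P _ (neg_mem hu)
      rw [hA i u hu, hA l u hu, c0] at e1
      rw [hA i _ (neg_mem hu), hA l _ (neg_mem hu), c0] at e2
      simp only [map_neg, frm_neg_left, frm_neg_right, neg_neg, hex, smul_zero, sub_zero,
        Matrix.add_apply, Matrix.neg_apply] at e1 e2
      linear_combination e1 + e2 - frm J u u * ct2 ψ f i l x z x' z' E * mul_inv_cancel₀ h2
    obtain ⟨f', hf', g', hg', hgf, hσ, hρ, hplane⟩ : ∃ f' ∈ Pl F pf pg, ∃ g' ∈ Pl F pf pg, frm J g' f' = 0 ∧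
        frm J f' f' ≠ 0 ∧ frm J g' g' ≠ 0 ∧ ∀ r : F, frm J f' f' + frm J g' g' * r ^ 2 ≠ 0 := by
      rcases hp.plane with ⟨h, -⟩ | ⟨-, h⟩
      · omega
      · exact ⟨pf, Pln.f_mem, pg, Pln.g_mem, hp.hgf, hp.hσ, h.1, h.2⟩
    have hfg : frm J f' g' = 0 := by rw [frm_comm hd.sym, hgf]
    have he : e = 0 := by
      by_contra he
      have hne : n i f' x z * n l f' x' z' ≠ 0 := fun h => mul_ne_zero hσ he (by
        have := hsq f' hf' x z x' z'
        rw [h, mul_zero] at this
        linear_combination this)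
      have h1 := hpair i l hil f' hf' g' hg' hfg x z x' z'
      rw [hn i f' hf', hn l g' hg', hn i g' hg', hn l f' hf'] at h1
      obtain ⟨ha', hb'⟩ := mul_ne_zero_iff.1 hne
      have hf2 : 2 * (n i f' x z * n l f' x' z') = -(frm J f' f' * e) := hsq f' hf' x z x' z'
      have hg2 : 2 * (n i g' x z * n l g' x' z') = -(frm J g' g' * e) := hsq g' hg' x z x' z'
      have hb0 : n l g' x' z' ≠ 0 := fun h => mul_ne_zero hρ he (by
        have := hg2
        rw [h, mul_zero, mul_zero] at this
        linear_combination this)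
      refine hplane (n l f' x' z' / n l g' x' z') ?_
      have h3 : (frm J f' f' * (n l g' x' z') ^ 2 + frm J g' g' * (n l f' x' z') ^ 2) * e = 0 := by
        linear_combination (n l g' x' z') ^ 2 * hf2 + (n l f' x' z') ^ 2 * hg2 -
          2 * n l f' x' z' * n l g' x' z' * h1
      have h4 := (mul_eq_zero.1 h3).resolve_right he
      field_simp
      linear_combination h4
    intro u hu
    have := hsq u hu x z x' z'
    rw [show ct2 ψ f i l x z x' z' E = 0 from he, mul_zero, neg_zero] at this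
    exact (mul_eq_zero.1 this).resolve_left h2
  intro u hu
  obtain ⟨x', z', hxz'⟩ : ∃ x z, n l u₀ x z ≠ 0 := by
    by_contra h; push Not at h; exact hl (Matrix.ext h)
  refine Matrix.ext fun x z => ?_
  rw [Matrix.zero_apply]
  have h1 := hprod x z x' z' u hu
  rcases mul_eq_zero.1 h1 with h | h
  · exact h
  · have h3 := hprod x z x' z' (u + u₀) (add_mem hu hu₀)
    have h4 := hprod x z x' z' u₀ hu₀
    have h5 := (mul_eq_zero.1 h4).resolve_right hxz'
    rw [map_add, map_add, Matrix.add_apply, Matrix.add_apply, h, h5, zero_add, add_zero] at h3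
    exact (mul_eq_zero.1 h3).resolve_right hxz'

/-! ### conjugates of a slot Siegel group -/

theorem sim_conj {ι : Type} [Fintype ι] [DecidableEq ι] {G : Matrix ι ι F} {g h : GL ι F} {m : F} (hm : m ≠ 0)
    (hg : g.valᵀ * G * g.val = m • G) (hh : h ∈ Iso G) : g⁻¹ * h * g ∈ Iso G := by
  have hgf : ∀ x y, frm G (g.val *ᵥ x) (g.val *ᵥ y) = m * frm G x y := fun x y => by
    rw [frm_mul, hg, frm, frm, smul_mulVec, dotProduct_smul, smul_eq_mul]
  refine mem_Iso_frm.2 fun x y => mul_left_cancel₀ hm ?_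
  rw [← hgf, Units.val_mul, Units.val_mul, ← mulVec_mulVec, ← mulVec_mulVec, cancelV', ← mulVec_mulVec,
    ← mulVec_mulVec, cancelV', iso_frm hh, hgf]

/-- the displacement of the Siegel elements along the pair -/
def QmL (J : Matrix (Fin k) (Fin k) F) (e : Fin k → F) : (Fin k → F) →ₗ[F] Matrix (Fin k) (Fin k) F where
  toFun u := Qm J u e
  map_add' u w := by simp only [Qm, op_add_left, op_add_right]; abel
  map_smul' c u := by simp only [Qm, op_smul_left, op_smul_right, RingHom.id_apply, smul_sub]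

/-- conjugates of the root operator of a slot are root operators of a slot -/
theorem conj_root (hd : Hyp J a b) (hp : Pln J a b pf pg) {g : GL (Fin t → Fin k) F} {m : F} (hm : m ≠ 0)
    (hg : g.valᵀ * gram t J * g.val = m • gram t J) (j : Fin t)
    (h : ∀ u (hu : u ∈ Submodule.span F ({pf, pg} : Set (Fin k → F))),
      g⁻¹ * sgl j (sg hd.sym (Pi.single a 1) u (frm_aa hd) (frm_au hd (hp.mem_mid hu))) * g ∈ Wr F k t) :
    ∃ (l : Fin t) (e : Fin k → F) (c : F), e ≠ 0 ∧ frm J e e = 0 ∧ c ≠ 0 ∧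
      conjMat g⁻¹ (S j (EA J a)) = S l (c • op J e e) := by
  classical
  obtain ⟨p, hchar⟩ := CharP.exists F
  haveI : Fact p.Prime := ⟨(CharP.char_is_prime_or_zero F p).resolve_right (CharP.char_ne_zero_of_finite F p)⟩
  haveI : Nonempty (Fin t → Fin k) := ⟨fun _ => a⟩
  haveI : Nonempty (Fin k) := ⟨a⟩
  let A0 : Fin k → F := Pi.single a 1
  let y : (Fin k → F) → GL (Fin t → Fin k) F := fun u =>
    if hu : frm J A0 u = 0 then g⁻¹ * sgl j (sg hd.sym A0 u (frm_aa hd) hu) * g else 1
  let E := conjMat g⁻¹ (S j (EA J a))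
  let N : (Fin k → F) →ₗ[F] Matrix (Fin t → Fin k) (Fin t → Fin k) F :=
    ((conjMat g⁻¹).toLinearMap ∘ₗ (S j).toLinearMap) ∘ₗ QmL J A0
  have hy : ∀ u (hu : u ∈ (Pl F pf pg)), y u = g⁻¹ * sgl j (sg hd.sym A0 u (frm_aa hd) (frm_au hd (hp.mem_mid hu))) * g :=
    fun u hu => dif_pos (frm_au hd (hp.mem_mid hu))
  have hI : ∀ u ∈ (Pl F pf pg), y u ∈ Iso (gram t J) := fun u hu => by
    rw [hy u hu]; exact sim_conj hm hg (sgl_iso j (sg_iso hd.sym _ _))
  have hmul : ∀ u ∈ (Pl F pf pg), ∀ w ∈ (Pl F pf pg), y (u + w) = y u * y w := fun u hu w hw => by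
    rw [hy _ (add_mem hu hw), hy u hu, hy w hw, ← sg_mul hd.sym (frm_aa hd) (frm_au hd (hp.mem_mid hu)) (frm_au hd (hp.mem_mid hw)), map_mul]
    simp only [A0, mul_assoc, mul_inv_cancel_left]
  have hval : ∀ u ∈ (Pl F pf pg), (y u).val = 1 + N u - ((2 : F)⁻¹ * frm J u u) • E := fun u hu => by
    rw [hy u hu]
    have h1 := conjMat_units g⁻¹ (sgl j (sg hd.sym A0 u (frm_aa hd) (frm_au hd (hp.mem_mid hu))))
    rw [inv_inv] at h1
    rw [← h1, sgl_coe, sg_coe, sgN]
    simp only [map_add, map_sub, map_one, map_smul]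
    rw [add_sub_assoc]
    rfl
  have hsum : ∀ u ∈ (Pl F pf pg), (y u).val + (y (-u)).val = (2 : F) • 1 - frm J u u • E := fun u hu => by
    rw [hval u hu, hval _ (neg_mem hu), map_neg, frm_neg_left, frm_neg_right, neg_neg]
    have := hd.sym.two
    match_scalars <;> field_simp <;> ring
  have hEA : EA J a ≠ 0 := fun e => by
    rw [EA_eq hd] at e
    simpa using congrFun (congrFun e a) b
  have hE : E ≠ 0 := fun e => hEA (algHom_matrix_injective (S (F := F) (m := k) j)
    ((conjMat g⁻¹).injective (e.trans ((map_zero _).symm.trans (congrArg (conjMat g⁻¹) (map_zero _).symm)))))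
  have hpure := perm_trivial hd hp p y E (fun u hu => by rw [hy u hu]; exact h u hu) hmul hsum
  obtain ⟨l, R, hER, hRs⟩ := slot_root hd hp p (Fin.pos j) y N E hE hI hmul hval hpure
  obtain ⟨t, rfl⟩ : ∃ s, t = s + 1 := ⟨t - 1, by have := Fin.pos j; omega⟩
  -- rank one
  have hR0 : R ≠ 0 := fun e => hE (by rw [hER, e, map_zero])
  obtain ⟨f, hf⟩ : ∃ f, R *ᵥ f ≠ 0 := by
    by_contra h
    push Not at h
    exact hR0 (Matrix.ext_iff_mulVec.2 fun x => by rw [h, Matrix.zero_mulVec])
  have hr : (S (0 : Fin (t + 1)) R).rank ≤ k ^ t := by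
    rw [← Equiv.swap_apply_right (0 : Fin (t + 1)) l, ← conj_perm_S, rank_conjMat, ← hER, rank_conjMat, EA, op]
    exact rank_S_le j _ _
  have hspan : ∀ x, ∃ r : F, R *ᵥ x = r • (R *ᵥ f) := fun x => by
    by_contra hx
    push Not at hx
    have h3 := rank_S0_ge (t := t) R ![f, x] (Fintype.linearIndependent_iff.2 fun c hc => by
      simp only [Fin.sum_univ_two, Matrix.cons_val_zero, Matrix.cons_val_one] at hc
      have hc1 : c 1 = 0 := by
        by_contra h
        refine hx (-((c 1)⁻¹ * c 0)) ?_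
        rw [neg_smul, ← smul_smul, eq_neg_of_add_eq_zero_left hc, smul_neg, neg_neg, inv_smul_smul₀ h]
      rw [hc1, zero_smul, add_zero] at hc
      have hc0 := (smul_eq_zero.1 hc).resolve_right hf
      intro q; fin_cases q <;> assumption)
    have := pow_pos (show 0 < k by have := hd.hk; omega) t
    omega
  set e := R *ᵥ f with he
  have hsa : ∀ x y, frm J x (R *ᵥ y) = frm J (R *ᵥ x) y := fun x y => by
    rw [frm, mulVec_mulVec, dotProduct_mulVec, ← mulVec_transpose, mem_slf.1 hRs, ← mulVec_mulVec, dotProduct_comm,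
      ← frm, frm_comm hd.sym]
  obtain ⟨w, hw⟩ := exists_frm_one hd.sym hf
  obtain ⟨c, hc⟩ := hspan w
  -- the operator is `c • op e e`
  have hRe : R = c • op J e e := by
    refine Matrix.ext_iff_mulVec.2 fun x => ?_
    rw [smul_mulVec, op_mulVec hd.sym, smul_smul]
    obtain ⟨r, hr'⟩ := hspan x
    have h1 := hsa w x
    rw [hr', hc, frm_smul_right, frm_smul_left, frm_comm hd.sym w, hw, mul_one] at h1
    rw [hr', h1]
  have hc0 : c ≠ 0 := fun h0 => hR0 (by rw [hRe, h0, zero_smul])
  refine ⟨l, e, c, hf, ?_, hc0, by rw [← hRe]; exact hER⟩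
  have hE2 : E * E = 0 := by
    show conjMat g⁻¹ (S j (EA J a)) * conjMat g⁻¹ (S j (EA J a)) = 0
    rw [← map_mul, ← map_mul, EA, op_mul hd.sym, frm_aa hd, zero_smul, map_zero, map_zero]
  rw [hER, ← map_mul] at hE2
  have hR2 := algHom_matrix_injective (S (F := F) (m := k) l) (hE2.trans (map_zero _).symm)
  rw [hRe, smul_mul_smul_comm, op_mul hd.sym, smul_smul, smul_eq_zero] at hR2
  rcases hR2 with h1 | h1
  · exact (mul_eq_zero.1 h1).resolve_left (mul_ne_zero hc0 hc0)
  · exact absurd (by rw [hRe, h1, smul_zero]) hR0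

end Cfsg.Agent.TensorWreath.Or
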