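import Cfsg.Agent.Lib.Forms.Max.TensorWreath.Orth.Products

/-!
# A root pattern with a single pair slot
-/

set_option autoImplicit false
set_option linter.unusedSectionVars false
set_option linter.unusedSimpArgs false

namespace Cfsg.Agent.TensorWreath.Or

open Matrix Cfsg.Agent.Aschbacher

variable {F : Type*} [Field F] {k t : ℕ} {J : Matrix (Fin k) (Fin k) F} {a b : Fin k}

theorem conjSub_conjSub (w v : GL (Fin t → Fin k) F) (G : Subgroup (GL (Fin t → Fin k) F)) :
    TensorWreath.conjSub w (TensorWreath.conjSub v G) = TensorWreath.conjSub (w * v) G := by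
  ext x; simp [mem_conjSub, mul_assoc]

theorem comm_val {g h : GL (Fin t → Fin k) F} {A B : Matrix (Fin t → Fin k) (Fin t → Fin k) F} (hg : g.val = 1 + A)
    (hh : h.val = 1 + B) (hAA : A * A = 0) (hBB : B * B = 0) (hABA : A * B * A = 0) (hBAB : B * A * B = 0) :
    (g * h * g⁻¹ * h⁻¹).val = 1 + (A * B - B * A) := by
  have ig : (g⁻¹).val = 1 - A := by
    refine Units.inv_eq_of_mul_eq_one_right ?_
    rw [hg, add_mul, one_mul, mul_sub, mul_one, hAA]
    abel
  have ih : (h⁻¹).val = 1 - B := by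
    refine Units.inv_eq_of_mul_eq_one_right ?_
    rw [hh, add_mul, one_mul, mul_sub, mul_one, hBB]
    abel
  simp only [Units.val_mul, hg, hh, ig, ih, mul_add, add_mul, mul_sub, sub_mul,
    one_mul, mul_one, hAA, hBB, hABA, hBAB, zero_mul, sub_zero, zero_sub]
  noncomm_ring [hAA, hBB, hABA, hBAB]

theorem pure_zero_of {X : Fin t → Matrix (Fin k) (Fin k) F} {i : Fin t} (h : X i = 0) : pureTensor X = 0 := by
  ext p q
  rw [pureTensor_apply, Matrix.zero_apply]
  exact Finset.prod_eq_zero (Finset.mem_univ i) (by rw [h, Matrix.zero_apply])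

/-- commutators of a pure displacement and its conjugate by flips and a permutation -/
theorem pure_comm {G : Subgroup (GL (Fin t → Fin k) F)} {P : Fin t → Matrix (Fin k) (Fin k) F}
    (hP : ∀ r : F, ∃ g ∈ G, g.val = 1 + r • pureTensor P) {w : GL (Fin t → Fin k) F} (hw : w ∈ G)
    {Q : Fin t → Matrix (Fin k) (Fin k) F} (hQ : conjMat w (pureTensor P) = pureTensor Q)
    {i j l m : Fin t} (hi : P i * P i = 0) (hj : Q j * Q j = 0) (hl : P l * Q l * P l = 0) (hm : Q m * P m * Q m = 0)
    (r : F) : ∃ g ∈ G, g.val = 1 + r • (pureTensor (P * Q) - pureTensor (Q * P)) := by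
  obtain ⟨g, hg, hgv⟩ := hP r
  obtain ⟨g1, hg1, hgv1⟩ := hP 1
  have hh : w * g1 * w⁻¹ ∈ G := mul_mem (mul_mem hw hg1) (inv_mem hw)
  have hhv : (w * g1 * w⁻¹).val = 1 + pureTensor Q := by
    rw [← conjMat_units, hgv1, one_smul, map_add, map_one, hQ]
  refine ⟨g * (w * g1 * w⁻¹) * g⁻¹ * (w * g1 * w⁻¹)⁻¹, mul_mem (mul_mem (mul_mem hg hh) (inv_mem hg)) (inv_mem hh), ?_⟩
  have z : ∀ {U : Fin t → Matrix (Fin k) (Fin k) F} {i : Fin t}, U i = 0 → pureTensor U = 0 := fun h => pure_zero_of h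
  rw [comm_val hgv hhv, smul_mul_assoc, mul_smul_comm, ← map_mul, ← map_mul, smul_sub]
  · rw [smul_mul_smul_comm, ← map_mul, z (i := i) hi, smul_zero]
  · rw [← map_mul, z (i := j) hj]
  · rw [smul_mul_assoc, mul_smul_comm, smul_mul_assoc, ← map_mul, ← map_mul, z (i := l) hl, smul_zero, smul_zero]
  · rw [mul_smul_comm, smul_mul_assoc, ← map_mul, ← map_mul, z (i := m) hm, smul_zero]

theorem smul_S0_lift (z : Matrix (Fin k) (Fin k) F) (c : F) (X : Matrix (Fin t → Fin k) (Fin t → Fin k) F) :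
    S (0 : Fin (t + 1)) z * lift (c • X) = c • (S 0 z * lift X) := by rw [map_smul, mul_smul_comm]

variable [Fintype F] (hd : Hyp J a b)
include hd

variable {G : Subgroup (GL (Fin (t + 1) → Fin k) F)}

theorem corners_inv (hG : Over J G) : InvS hd.sym (corners hd G) := fun j _ hx _ hY =>
  corners_conj hd (slot_normal hd hG j hx) hY

/-- a first pattern -/
theorem exists_pattern (hG : Over J G) {B : Matrix (Fin t → Fin k) (Fin t → Fin k) F} (hB : B ∈ corners hd G)
    (hB0 : B ≠ 0) :
    ∃ T : Fin t → Matrix (Fin k) (Fin k) F, (∀ i, Pat J a b (T i)) ∧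
      (∃ q, ∃ f ∈ mid F a b, frm J f f ≠ 0 ∧ T q = Qm J (Pi.single a 1) f) ∧ pureTensor T ∈ corners hd G := by
  classical
  let W : Submodule F (Unit → Matrix (Fin t → Fin k) (Fin t → Fin k) F) := (corners hd G).comap (LinearMap.proj ())
  have hinv : InvT hd.sym W := fun j x hx Y hY => corners_inv hd hG j x hx _ hY
  have hsep : SepT a b hd.sym W := by
    rcases Nat.lt_or_ge t 2 with ht | ht
    · rcases (show t = 0 ∨ t = 1 by omega) with ht | ht
      · exact Or.inr (Or.inr (Or.inl ht))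
      · exact Or.inr (Or.inr (Or.inr ⟨ht, Or.inl inferInstance⟩))
    · by_cases h4 : k = 4
      · exact Or.inr (Or.inl fun j h hne _ Y hY =>
          corners_conj hd (refl_normal hd hG (h4 ▸ by decide) ht j hne) hY)
      · exact Or.inl h4
  obtain ⟨lam, hlam, T, hT, -, hmem⟩ := extract hd t W hinv hsep (fun _ => B) hB ⟨(), fun c e => hB0
    (skew_slf_zero (gram_sym hd.sym) (corners_skew hd hG hB) (e ▸ (slf _).smul_mem c (one_slf (gram_sym hd.sym))))⟩
  have hT' : pureTensor T ∈ corners hd G :=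
    (Submodule.smul_mem_iff _ fun e => hlam (funext fun _ => e)).1 hmem
  refine ⟨T, hT, ?_, hT'⟩
  by_contra hc
  push Not at hc
  have hslf : pureTensor T ∈ slf (gram t J) := by
    have h := pure_parity (J := J) ∅ (X := T) (fun i hi => absurd hi (Finset.notMem_empty i)) fun i _ => by
      rcases hT i with h | h | ⟨f, hf, hσ, h⟩
      · rw [h]; exact one_slf hd.sym
      · rw [h]; exact op_slf hd.sym _
      · exact absurd h (hc i f hf hσ)
    rw [Finset.card_empty, pow_zero, one_smul] at h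
    exact mem_slf.2 h
  have hP : pureTensor T = 0 := skew_slf_zero (gram_sym hd.sym) (corners_skew hd hG hT') hslf
  have h0 : ∀ i, T i ≠ 0 := fun i e => by
    rcases hT i with h1 | h1 | ⟨f, hf, hσ, h1⟩ <;> rw [e] at h1
    · exact zero_ne_one (congrFun (congrFun h1 a) a |>.trans (Matrix.one_apply_eq a))
    · rw [EA_eq hd] at h1
      exact zero_ne_one (congrFun (congrFun h1 a) b |>.trans (Matrix.single_apply_same a b 1))
    · have h3 := Qa_inj hd hf h1.symm
      exact hσ (by rw [h3, frm_zero_left])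
  rcases Nat.eq_zero_or_pos t with rfl | ht
  · have := congrFun (congrFun hP default) default
    simp [pureTensor_apply] at this
  · refine putL_ne_zero (j := ⟨0, ht⟩) h0 (h0 ⟨0, ht⟩) ?_
    rw [putL_self, hP]

theorem root_flip {X : Matrix (Fin k) (Fin k) F} (hX : Pat J a b X) :
    ∃ x ∈ Sl hd.sym, (X = 1 → conjMat x X = 1) ∧ (X ≠ 1 → ∃ (e : Fin k → F) (v : F), e ≠ 0 ∧ frm J e e = 0 ∧ v ≠ 0 ∧
      frm J e ((X * conjMat x X) *ᵥ e) = v ∧ frm J e ((conjMat x X * X) *ᵥ e) = v) := by
  by_cases h1 : X = 1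
  · exact ⟨1, one_mem _, fun _ => by rw [h1, map_one], fun h => absurd h1 h⟩
  obtain ⟨x, hx, hv⟩ := pair_val hd (X := X) (Z := X) (by
    rcases hX.resolve_left h1 with h | ⟨f, hf, hσ, h⟩
    · exact Or.inl ⟨h, h⟩
    · exact Or.inr ⟨f, hf, f, hf, hσ, hσ, h, h⟩)
  exact ⟨x, hx, fun h => absurd h h1, fun _ => hv⟩

/-- the pattern operators of a conjugate -/
theorem corner_pure {T₁ T₂ : Fin t → Matrix (Fin k) (Fin k) F} (hT : ∀ (r : F), ∃ g ∈ G, g.val = 1 + r • (pureTensor (Fin.cons (EA J a) T₁) - pureTensor (Fin.cons (EA J a) T₂)))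
    : pureTensor T₁ + (-1 : F) • pureTensor T₂ ∈ corners hd G := fun c => by
  obtain ⟨g, hg, hgv⟩ := hT c
  refine ⟨g, hg, ?_⟩
  rw [hgv, smul_S0_lift, map_add, map_smul, neg_one_smul, mul_add, mul_neg, S0_lift_pure, S0_lift_pure, sub_eq_add_neg]

open scoped _root_.Classical in
set_option maxHeartbeats 800000 in
theorem idle_step (hG : Over J G) {T : Fin t → Matrix (Fin k) (Fin k) F} (hT : ∀ i, Pat J a b (T i))
    (hTm : pureTensor T ∈ corners hd G) {x : Fin t} {f : Fin k → F} (hf : f ∈ mid F a b) (hσ : frm J f f ≠ 0)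
    (hx : T x = Qm J (Pi.single a 1) f) {l : Fin t} (hl : T l = 1) :
    ∃ w ∈ W0 hd.sym (t + 1), pureTensor (fun i => if i = l ∨ (T i ≠ 1 ∧ i ≠ x) then EA J a else T i) ∈
      corners hd (TensorWreath.conjSub w G) := by
  classical
  have hk2 : 2 ≤ k := by have := hd.hk; omega
  have hlx : l ≠ x := fun e => by
    rw [e, hx] at hl
    exact pat_ne_one hd (Or.inr ⟨f, hf, hσ, rfl⟩) hl
  obtain ⟨π, h1, h2, h3, h4, hπ⟩ := cyc_mem_Om (F := F) (J := J) (k := k) (d := (0 : Fin (t + 1))) (l := l.succ)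
    (x := x.succ) (Fin.succ_ne_zero l).symm (fun e => hlx (Fin.succ_injective _ e)) (Fin.succ_ne_zero x).symm
  have s0 : π.symm 0 = x.succ := by rw [Equiv.symm_apply_eq, h3]
  have sl : π.symm l.succ = 0 := by rw [Equiv.symm_apply_eq, h1]
  have sx : π.symm x.succ = l.succ := by rw [Equiv.symm_apply_eq, h2]
  have so : ∀ i : Fin t, i ≠ l → i ≠ x → π.symm i.succ = i.succ := fun i hil hix => by
    rw [Equiv.symm_apply_eq, h4 _ (Fin.succ_ne_zero i) (fun e => hil (Fin.succ_injective _ e))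
      fun e => hix (Fin.succ_injective _ e)]
  obtain ⟨y, hy, r, hr, m1, m2, em, vm, hem, hQm, hvm, hm1, hm2⟩ := mixed_val hd hf hσ
  choose z hz hz1 hz2 using fun i => root_flip hd (hT i)
  let c : Fin (t + 1) → GL (Fin k) F := Fin.cons y fun i => if i = l ∨ i = x then 1 else z i
  have hc : ∀ i, c i ∈ Sl hd.sym := fun i => by
    induction i using Fin.cases with
    | zero => exact hy
    | succ i =>
      simp only [c, Fin.cons_succ]
      split_ifs
      exacts [one_mem _, hz i]
  let P : Fin (t + 1) → Matrix (Fin k) (Fin k) F := Fin.cons (EA J a) T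
  have hP : ∀ r : F, ∃ g ∈ G, g.val = 1 + r • pureTensor P := fun r => by
    obtain ⟨g, hg, hgv⟩ := hTm r
    exact ⟨g, hg, by rw [hgv, smul_S0_lift, S0_lift_pure]⟩
  let Q : Fin (t + 1) → Matrix (Fin k) (Fin k) F := fun i => conjMat (c i) (P (π.symm i))
  have q0 : Q 0 = conjMat y (Qm J (Pi.single a 1) f) := by simp [Q, c, P, s0, hx]
  have ql : Q l.succ = EA J a := by
    simp only [Q, c, P, sl, Fin.cons_succ, Fin.cons_zero, true_or, if_true]
    simp [conjMat_apply]
  have qx : Q x.succ = 1 := by simp [Q, c, P, sx, hl]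
  have qo : ∀ i : Fin t, i ≠ l → i ≠ x → Q i.succ = conjMat (z i) (T i) := fun i hil hix => by
    simp [Q, c, P, so i hil hix, hil, hix]
  have hw : pureGL c * permGL π ∈ G :=
    mul_mem (hG.pure (hS := hd.sym) hk2 hc) (hG.ge ⟨permGL_mem π, hπ⟩)
  have hQ : conjMat (pureGL c * permGL π) (pureTensor P) = pureTensor Q := by
    rw [conjMat_mul, conj_perm_pureT, conj_pure_pureT]
    rfl
  have hyf : conjMat y (Qm J (Pi.single a 1) f) ∈ skew J := conj_skew (Sl_le_Iso hd.sym hy) (Qm_skew hd.sym _ _)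
  have hcomm := pure_comm hP hw hQ (i := 0) (j := l.succ) (l := 0) (m := l.succ)
    (by simp [P, EA, op_mul hd.sym, frm_aa hd]) (by rw [ql, EA, op_mul hd.sym, frm_aa hd, zero_smul])
    (by rw [q0]; simp only [P, Fin.cons_zero]; exact op_skew_op hd.sym hyf _)
    (by rw [ql]; simp only [P, Fin.cons_succ, hl, mul_one]; rw [EA, op_mul hd.sym, frm_aa hd, zero_smul])
  set σ := Equiv.swap (0 : Fin (t + 1)) l.succ
  refine ⟨permGL σ, perm_mem_W0 σ, ?_⟩
  have hG' : Over J (TensorWreath.conjSub (permGL σ) G) := hG.conjSub (hS := hd.sym) (perm_mem_W0 σ)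
  let Y : Fin t → Matrix (Fin k) (Fin k) F := fun i => ((P * Q) ∘ σ.symm) i.succ
  let Y' : Fin t → Matrix (Fin k) (Fin k) F := fun i => ((Q * P) ∘ σ.symm) i.succ
  have hσ0 : ∀ U : Fin (t + 1) → Matrix (Fin k) (Fin k) F, U l.succ = EA J a →
      U ∘ σ.symm = Fin.cons (EA J a) fun i => (U ∘ σ.symm) i.succ := fun U hU => by
    funext i
    induction i using Fin.cases with
    | zero => simp [σ, hU]
    | succ i => simp
  have hY : pureTensor Y + (-1 : F) • pureTensor Y' ∈ corners hd (TensorWreath.conjSub (permGL σ) G) := by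
    refine corner_pure hd fun r => ?_
    obtain ⟨g, hg, hgv⟩ := hcomm r
    refine ⟨permGL σ * g * (permGL σ)⁻¹, conj_mem_conjSub hg, ?_⟩
    rw [← conjMat_units, hgv, map_add, map_one, map_smul, map_sub, conj_perm_pureT, conj_perm_pureT,
      hσ0 (P * Q) (by simp [P, ql, hl]), hσ0 (Q * P) (by simp [P, ql, hl])]
  have yl : Y l = EA J a * conjMat y (Qm J (Pi.single a 1) f) ∧ Y' l = conjMat y (Qm J (Pi.single a 1) f) * EA J a := by
    simp [Y, Y', σ, P, q0]
  have yx : Y x = T x ∧ Y' x = T x := by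
    have e : σ.symm x.succ = x.succ := by
      simp [σ, Equiv.swap_apply_of_ne_of_ne (Fin.succ_ne_zero x) fun e => hlx (Fin.succ_injective _ e).symm]
    simp [Y, Y', P, qx, e]
  have yo : ∀ i, i ≠ l → i ≠ x → Y i = T i * conjMat (z i) (T i) ∧ Y' i = conjMat (z i) (T i) * T i := by
    intro i hil hix
    have e : σ.symm i.succ = i.succ := by
      simp [σ, Equiv.swap_apply_of_ne_of_ne (Fin.succ_ne_zero i) fun e => hil (Fin.succ_injective _ e)]
    simp [Y, Y', P, qo i hil hix, e]
  set S := Finset.univ.filter fun i => i = l ∨ (T i ≠ 1 ∧ i ≠ x) with hS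
  have hmem : ∀ i, i ∈ S ↔ i = l ∨ (T i ≠ 1 ∧ i ≠ x) := fun i => by simp [hS]
  have hcol := collapse hd (corners_inv hd hG') Y Y' (fun i => if i = l then -1 else 1) S (fun i hi => by
    by_cases hil : i = l
    · subst hil
      exact ⟨em, vm, hem, hQm, hvm, by rw [yl.1]; exact hm1, by rw [yl.2, if_pos rfl, neg_one_mul]; exact hm2⟩
    · obtain ⟨h1, hix⟩ := ((hmem i).1 hi).resolve_left hil
      obtain ⟨e, v, he, hQe, hv, ev1, ev2⟩ := hz2 i h1
      exact ⟨e, v, he, hQe, hv, by rw [(yo i hil hix).1]; exact ev1,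
        by rw [(yo i hil hix).2, if_neg hil, one_mul]; exact ev2⟩) (-1) hY
  have hprod : ∏ i ∈ S, (if i = l then -1 else 1 : F) = -1 := by
    rw [Finset.prod_eq_single_of_mem l ((hmem l).2 (Or.inl rfl)) fun i _ hil => if_neg hil, if_pos rfl]
  rw [hprod, neg_one_mul, neg_neg, one_smul] at hcol
  have e1 : ∀ U : Fin t → Matrix (Fin k) (Fin k) F, (U = Y ∨ U = Y') →
      (fun i => if i ∈ S then EA J a else U i) = fun i => if i = l ∨ (T i ≠ 1 ∧ i ≠ x) then EA J a else T i := by
    intro U hU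
    funext i
    simp only [hmem]
    split_ifs with h
    · rfl
    push Not at h
    obtain ⟨hil, hi⟩ := h
    by_cases hix : i = x
    · rcases hU with rfl | rfl
      · rw [hix, yx.1]
      · rw [hix, yx.2]
    · have h1 : T i = 1 := by by_contra h1; exact hix (hi h1)
      rcases hU with rfl | rfl
      · rw [(yo i hil hix).1, hz1 i h1, h1, mul_one]
      · rw [(yo i hil hix).2, hz1 i h1, h1, mul_one]
  rw [e1 Y (Or.inl rfl), e1 Y' (Or.inr rfl), ← two_smul F] at hcol
  exact (Submodule.smul_mem_iff _ hd.sym.two).1 hcol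

theorem full_step (hG : Over J G) {T : Fin t → Matrix (Fin k) (Fin k) F} (hT : ∀ i, Pat J a b (T i))
    (h1 : ∀ i, T i ≠ 1) (hTm : pureTensor T ∈ corners hd G) {l x : Fin t} (hlx : l ≠ x) {f g : Fin k → F}
    (hf : f ∈ mid F a b) (hσ : frm J f f ≠ 0) (hg : g ∈ mid F a b) (hρ : frm J g g ≠ 0)
    (hl : T l = Qm J (Pi.single a 1) f) (hx : T x = Qm J (Pi.single a 1) g) :
    pureTensor (fun i => if i = l then Qm J (Pi.single a 1) f else EA J a) ∈ corners hd G := by
  classical
  have hk2 : 2 ≤ k := by have := hd.hk; omega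
  obtain ⟨π, p1, p2, p3, p4, hπ⟩ := cyc_mem_Om (F := F) (J := J) (k := k) (d := (0 : Fin (t + 1))) (l := l.succ)
    (x := x.succ) (Fin.succ_ne_zero l).symm (fun e => hlx (Fin.succ_injective _ e)) (Fin.succ_ne_zero x).symm
  have s0 : π.symm 0 = x.succ := by rw [Equiv.symm_apply_eq, p3]
  have sl : π.symm l.succ = 0 := by rw [Equiv.symm_apply_eq, p1]
  have sx : π.symm x.succ = l.succ := by rw [Equiv.symm_apply_eq, p2]
  have so : ∀ i : Fin t, i ≠ l → i ≠ x → π.symm i.succ = i.succ := fun i hil hix => by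
    rw [Equiv.symm_apply_eq, p4 _ (Fin.succ_ne_zero i) (fun e => hil (Fin.succ_injective _ e))
      fun e => hix (Fin.succ_injective _ e)]
  obtain ⟨y, hy, r, hr, m1, m2, -⟩ := mixed_val hd hg hρ
  obtain ⟨fl, hfl, fa, fb, fm⟩ := exists_flip hd hf hσ
  obtain ⟨u, hu, hpair⟩ := pair_val hd (X := T x) (Z := T l) (Or.inr ⟨g, hg, f, hf, hρ, hσ, hx, hl⟩)
  choose z hz hz1 hz2 using fun i => root_flip hd (hT i)
  let c : Fin (t + 1) → GL (Fin k) F := Fin.cons y fun i => if i = l then fl else if i = x then u else z i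
  have hc : ∀ i, c i ∈ Sl hd.sym := fun i => by
    induction i using Fin.cases with
    | zero => exact hy
    | succ i =>
      simp only [c, Fin.cons_succ]
      split_ifs
      exacts [hfl, hu, hz i]
  let P : Fin (t + 1) → Matrix (Fin k) (Fin k) F := Fin.cons (EA J a) T
  have hP : ∀ r : F, ∃ g ∈ G, g.val = 1 + r • pureTensor P := fun r => by
    obtain ⟨g', hg', hgv⟩ := hTm r
    exact ⟨g', hg', by rw [hgv, smul_S0_lift, S0_lift_pure]⟩
  let Q : Fin (t + 1) → Matrix (Fin k) (Fin k) F := fun i => conjMat (c i) (P (π.symm i))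
  have q0 : Q 0 = conjMat y (Qm J (Pi.single a 1) g) := by simp [Q, c, P, s0, hx]
  set rl := -2 / frm J f f with hrl
  have ql : Q l.succ = (rl * rl) • op J (Pi.single b 1) (Pi.single b 1) := by
    simp only [Q, c, P, sl, Fin.cons_succ, Fin.cons_zero, if_true]
    rw [EA, conj_op (Sl_le_Iso hd.sym hfl), fa, op_smul_left, op_smul_right, smul_smul]
  have qx : Q x.succ = conjMat u (T l) := by simp [Q, c, P, sx, hlx.symm]
  have qo : ∀ i : Fin t, i ≠ l → i ≠ x → Q i.succ = conjMat (z i) (T i) := fun i hil hix => by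
    simp [Q, c, P, so i hil hix, hil, hix]
  have hw : pureGL c * permGL π ∈ G :=
    mul_mem (hG.pure (hS := hd.sym) hk2 hc) (hG.ge ⟨permGL_mem π, hπ⟩)
  have hQ : conjMat (pureGL c * permGL π) (pureTensor P) = pureTensor Q := by
    rw [conjMat_mul, conj_perm_pureT, conj_pure_pureT]
    rfl
  have hyg : conjMat y (Qm J (Pi.single a 1) g) ∈ skew J := conj_skew (Sl_le_Iso hd.sym hy) (Qm_skew hd.sym _ _)
  obtain ⟨e, he, hev⟩ := pure_comm hP hw hQ (i := 0) (j := l.succ) (l := 0) (m := l.succ)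
    (by simp [P, EA, op_mul hd.sym, frm_aa hd])
    (by rw [ql, smul_mul_smul_comm, op_mul hd.sym, frm_bb hd, zero_smul, smul_zero])
    (by rw [q0]; simp only [P, Fin.cons_zero]; exact op_skew_op hd.sym hyg _)
    (by
      rw [ql]
      simp only [P, Fin.cons_succ, hl, smul_mul_assoc, mul_smul_comm, op_skew_op hd.sym (Qm_skew hd.sym _ _) _,
        smul_zero]) 1
  let Y : Fin t → Matrix (Fin k) (Fin k) F := fun i => (P * Q) i.succ
  let Y' : Fin t → Matrix (Fin k) (Fin k) F := fun i => (Q * P) i.succ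
  have hD : pureTensor (P * Q) - pureTensor (Q * P) =
      r • (S 0 (op J (Pi.single a 1) g) * lift (pureTensor Y) + S 0 (op J g (Pi.single a 1)) * lift (pureTensor Y')) := by
    have e1 : P * Q = Fin.cons (r • op J (Pi.single a 1) g) Y := by
      funext i
      induction i using Fin.cases with
      | zero => simp only [Pi.mul_apply, q0, Fin.cons_zero, P]; exact m1
      | succ i => simp [Y]
    have e2 : Q * P = Fin.cons ((-r) • op J g (Pi.single a 1)) Y' := by
      funext i
      induction i using Fin.cases with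
      | zero => simp only [Pi.mul_apply, q0, Fin.cons_zero, P]; exact m2
      | succ i => simp [Y']
    rw [e1, e2, ← S0_lift_pure, ← S0_lift_pure, map_smul, map_smul, smul_mul_assoc, smul_mul_assoc]
    module
  rw [one_smul, hD] at hev
  obtain ⟨hga, hgb⟩ := mem_mid.1 hg
  obtain ⟨hJa, hJb⟩ := Ju_mid hd hg
  have hblk : ∀ p q, (blk e.val - 1) p q =
      (r * op J (Pi.single a 1) g p q) • pureTensor Y + (r * op J g (Pi.single a 1) p q) • pureTensor Y' := by
    intro p q
    rw [hev, map_add, map_one, add_sub_cancel_left, map_smul, Matrix.smul_apply, map_add, Matrix.add_apply,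
      blk_S0_lift, blk_S0_lift, smul_add, smul_smul, smul_smul]
  have hshp : Shp a b (blk e.val - 1) := by
    intro p q hpq
    push Not at hpq
    rw [hblk, op_apply, op_apply, Ja hd]
    have e1 : (Pi.single a 1 : Fin k → F) p * (J *ᵥ g) q = 0 := by
      by_cases hp : p = a
      · rw [hpq.1 hp, hJa, mul_zero]
      · rw [Pi.single_eq_of_ne hp, zero_mul]
    have e2 : g p * (Pi.single b 1 : Fin k → F) q = 0 := by
      by_cases hq : q = b
      · rw [hpq.2 hq, hgb, zero_mul]
      · rw [Pi.single_eq_of_ne hq, mul_zero]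
    rw [e1, e2, mul_zero, zero_smul, zero_smul, add_zero]
  have hcor := corner_of_sg hd hG he hshp hg
  have hsum : ∑ p, (g p • (blk e.val - 1) a p + (J *ᵥ g) p • (blk e.val - 1) p b) =
      (r * frm J g g) • (pureTensor Y + (1 : F) • pureTensor Y') := by
    rw [show r * frm J g g = ∑ p, r * (g p * (J *ᵥ g) p) by
      rw [frm, dotProduct, Finset.mul_sum], Finset.sum_smul]
    refine Finset.sum_congr rfl fun p _ => ?_
    rw [hblk, hblk, op_apply, op_apply, op_apply, op_apply, Ja hd, Pi.single_eq_same, Pi.single_eq_same, hga, hJb]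
    simp only [mul_zero, zero_mul, zero_smul, add_zero, zero_add, smul_smul, one_mul, mul_one, one_smul]
    module
  rw [hsum] at hcor
  have hY := (Submodule.smul_mem_iff _ (mul_ne_zero hr hρ)).1 hcor
  have hcol := collapse hd (corners_inv hd hG) Y Y' (fun _ => 1) (Finset.univ.erase l) (fun i hi => by
    have hil := Finset.ne_of_mem_erase hi
    by_cases hix : i = x
    · subst hix
      obtain ⟨e, v, he, hQe, hv, ev1, ev2⟩ := hpair
      exact ⟨e, v, he, hQe, hv, by simp only [Y, P, Pi.mul_apply, Fin.cons_succ, qx]; exact ev1,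
        by simp only [Y', P, Pi.mul_apply, Fin.cons_succ, qx, one_mul]; exact ev2⟩
    · obtain ⟨e, v, he, hQe, hv, ev1, ev2⟩ := hz2 i (h1 i)
      exact ⟨e, v, he, hQe, hv, by simp only [Y, P, Pi.mul_apply, Fin.cons_succ, qo i hil hix]; exact ev1,
        by simp only [Y', P, Pi.mul_apply, Fin.cons_succ, qo i hil hix, one_mul]; exact ev2⟩) 1 hY
  rw [Finset.prod_const_one, one_mul, one_smul] at hcol
  let U : Fin t → Matrix (Fin k) (Fin k) F := fun _ => EA J a
  have e3 : ∀ V : Fin t → Matrix (Fin k) (Fin k) F,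
      pureTensor (fun i => if i ∈ Finset.univ.erase l then EA J a else V i) = putL l U (V l) := by
    intro V
    rw [putL_update]
    congr 1
    funext i
    rcases eq_or_ne i l with rfl | hi
    · simp
    · simp [hi, U, Function.update_of_ne hi]
  rw [e3, e3, ← map_add] at hcol
  have hYl : Y l + Y' l = (rl * rl) • Qm J (Pi.single b 1) f := by
    simp only [Y, Y', P, Pi.mul_apply, Fin.cons_succ, hl, ql, mul_smul_comm, smul_mul_assoc, Qm, mul_sub, sub_mul,
      op_mul hd.sym, frm_ub hd hf, frm_bu hd hf, frm_ab hd, frm_ba hd, zero_smul, one_smul, sub_zero, zero_sub]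
    module
  rw [hYl, map_smul] at hcol
  have hrl0 : rl * rl ≠ 0 :=
    mul_ne_zero (div_ne_zero (neg_ne_zero.2 hd.sym.two) hσ) (div_ne_zero (neg_ne_zero.2 hd.sym.two) hσ)
  have h5 := corners_inv hd hG l fl hfl _ ((Submodule.smul_mem_iff _ hrl0).1 hcol)
  have hff : fl.val *ᵥ f = -f := by rw [fm f hf, mul_div_assoc, div_self hσ]; module
  rw [conj_putL, conj_Qm (Sl_le_Iso hd.sym hfl), fb, hff, Qm_smul_left, ← neg_one_smul F f, Qm_smul_right, smul_smul,
    map_smul, Submodule.smul_mem_iff _ (mul_ne_zero (div_ne_zero (neg_ne_zero.2 hσ) hd.sym.two) (neg_ne_zero.2 one_ne_zero))] at h5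
  convert h5 using 1
  rw [putL_update]
  congr 1
  funext i
  rcases eq_or_ne i l with rfl | hi
  · simp
  · simp [hi, U, Function.update_of_ne hi]

omit hd in
/-- the number of idle slots -/
noncomputable def idle (T : Fin t → Matrix (Fin k) (Fin k) F) : ℕ := by
  classical exact (Finset.univ.filter fun i => T i = 1).card

theorem single_of_pattern (n : ℕ) : ∀ {G : Subgroup (GL (Fin (t + 1) → Fin k) F)}, Over J G →
    ∀ {T : Fin t → Matrix (Fin k) (Fin k) F}, idle T = n → (∀ i, Pat J a b (T i)) →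
      (∃ q, ∃ f ∈ mid F a b, frm J f f ≠ 0 ∧ T q = Qm J (Pi.single a 1) f) → pureTensor T ∈ corners hd G →
      ∃ w ∈ W0 hd.sym (t + 1), ∃ q : Fin t, ∃ f ∈ mid F a b, frm J f f ≠ 0 ∧
        pureTensor (fun i => if i = q then Qm J (Pi.single a 1) f else EA J a) ∈ corners hd (TensorWreath.conjSub w G) := by
  classical
  induction n using Nat.strong_induction_on with
  | _ n ih =>
  intro G hG T hn hT ⟨x, f, hf, hσ, hx⟩ hTm
  by_cases hl : ∃ l, T l = 1
  · obtain ⟨l, hl⟩ := hl
    obtain ⟨w, hw, hmem⟩ := idle_step hd hG hT hTm hf hσ hx hl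
    set T' := fun i => if i = l ∨ (T i ≠ 1 ∧ i ≠ x) then EA J a else T i with hT'
    have hlt : idle T' < n := by
      rw [← hn, idle, idle]
      refine Finset.card_lt_card (Finset.ssubset_iff_of_subset ?_ |>.2 ⟨l, ?_, ?_⟩)
      · intro i hi
        simp only [Finset.mem_filter, Finset.mem_univ, true_and, hT'] at hi ⊢
        split_ifs at hi with h
        · exact absurd hi (pat_ne_one hd (Or.inl rfl))
        · exact hi
      · simpa using hl
      · simp only [Finset.mem_filter, Finset.mem_univ, true_and, hT', true_or, if_true]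
        exact pat_ne_one hd (Or.inl rfl)
    have hlx : l ≠ x := fun e => by
      rw [e, hx] at hl
      exact pat_ne_one hd (Or.inr ⟨f, hf, hσ, rfl⟩) hl
    obtain ⟨w', hw', q, g, hg, hρ, hres⟩ := ih _ hlt (hG.conjSub hw) rfl
      (fun i => by simp only [hT']; split_ifs; exacts [Or.inr (Or.inl rfl), hT i])
      ⟨x, f, hf, hσ, by simp [hT', Ne.symm hlx, hx]⟩ hmem
    rw [conjSub_conjSub] at hres
    exact ⟨w' * w, mul_mem hw' hw, q, g, hg, hρ, hres⟩
  · push Not at hl
    by_cases hq : ∃ l, l ≠ x ∧ ∃ g ∈ mid F a b, frm J g g ≠ 0 ∧ T l = Qm J (Pi.single a 1) g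
    · obtain ⟨l, hlx, g, hg, hρ, hgl⟩ := hq
      refine ⟨1, one_mem _, l, g, hg, hρ, ?_⟩
      have e : TensorWreath.conjSub 1 G = G := by ext; simp [mem_conjSub]
      rw [e]
      exact full_step hd hG hT hl hTm hlx hg hρ hf hσ hgl hx
    · push Not at hq
      refine ⟨1, one_mem _, x, f, hf, hσ, ?_⟩
      have e : TensorWreath.conjSub 1 G = G := by ext; simp [mem_conjSub]
      rw [e]
      convert hTm using 1
      congr 1
      funext i
      by_cases hi : i = x
      · rw [if_pos hi, hi, hx]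
      · rw [if_neg hi]
        rcases (hT i).resolve_left (hl i) with h | ⟨g, hg, hρ, h⟩
        · exact h.symm
        · exact absurd h (hq i hi g hg hρ)

/-- overgroups with corners have a corner with a single pair slot -/
theorem exists_single (hG : Over J G) {B : Matrix (Fin t → Fin k) (Fin t → Fin k) F} (hB : B ∈ corners hd G)
    (hB0 : B ≠ 0) :
    ∃ w ∈ W0 hd.sym (t + 1), ∃ q : Fin t, ∃ f ∈ mid F a b, frm J f f ≠ 0 ∧
      pureTensor (fun i => if i = q then Qm J (Pi.single a 1) f else EA J a) ∈ corners hd (TensorWreath.conjSub w G) := by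
  obtain ⟨T, hT, hq, hTm⟩ := exists_pattern hd hG hB hB0
  exact single_of_pattern hd _ hG rfl hT hq hTm

end Cfsg.Agent.TensorWreath.Or
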