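import Cfsg.Agent.Lib.Forms.Max.TensorWreath.Orth.Shaped

/-!
# Components of an operator in one slot
-/

set_option autoImplicit false
set_option linter.unusedSectionVars false
set_option linter.unusedSimpArgs false

namespace Cfsg.Agent.TensorWreath.Or

open Matrix Cfsg.Agent.Aschbacher

variable {F : Type*} [Field F] {k t : ℕ} {J : Matrix (Fin k) (Fin k) F} {a b : Fin k}

/-- the component in slot `i` at fixed positions of the other slots -/
def comp (i : Fin t) (u v : Fin t → Fin k) :
    Matrix (Fin t → Fin k) (Fin t → Fin k) F →ₗ[F] Matrix (Fin k) (Fin k) F where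
  toFun M := Matrix.of fun x y => M (Function.update u i x) (Function.update v i y)
  map_add' M N := by ext x y; simp
  map_smul' c M := by ext x y; simp

theorem comp_apply (i : Fin t) (u v : Fin t → Fin k) (M : Matrix (Fin t → Fin k) (Fin t → Fin k) F) (x y : Fin k) :
    comp i u v M x y = M (Function.update u i x) (Function.update v i y) := rfl

theorem S_update (i : Fin t) (z : Matrix (Fin k) (Fin k) F) (u : Fin t → Fin k) (x : Fin k) (w : Fin t → Fin k) :
    S i z (Function.update u i x) w = (if w = Function.update u i (w i) then z x (w i) else 0) ∧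
      S i z w (Function.update u i x) = if w = Function.update u i (w i) then z (w i) x else 0 := by
  classical
  constructor <;> rw [S_apply] <;> simp only [Function.update_self] <;>
    refine if_congr ⟨fun h => funext fun l => ?_, fun h l hl => ?_⟩ rfl rfl
  · rcases eq_or_ne l i with rfl | hl
    · rw [Function.update_self]
    · rw [Function.update_of_ne hl, ← h l hl, Function.update_of_ne hl]
  · rw [h, Function.update_of_ne hl, Function.update_of_ne hl]
  · rcases eq_or_ne l i with rfl | hl
    · rw [Function.update_self]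
    · rw [Function.update_of_ne hl, h l hl, Function.update_of_ne hl]
  · rw [h, Function.update_of_ne hl, Function.update_of_ne hl]

theorem sum_update {M : Type*} [AddCommMonoid M] (i : Fin t) (u : Fin t → Fin k) (f : (Fin t → Fin k) → M)
    (hf : ∀ w, w ≠ Function.update u i (w i) → f w = 0) :
    ∑ w, f w = ∑ p, f (Function.update u i p) := by
  classical
  refine (Fintype.sum_of_injective (fun p => Function.update u i p) (Function.update_injective u i) _ _
    (fun w hw => hf w fun e => hw ⟨w i, e.symm⟩) fun p => rfl).symm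

theorem comp_S_mul (i : Fin t) (u v : Fin t → Fin k) (z : Matrix (Fin k) (Fin k) F)
    (M : Matrix (Fin t → Fin k) (Fin t → Fin k) F) : comp i u v (S i z * M) = z * comp i u v M := by
  ext x y
  rw [comp_apply, Matrix.mul_apply, sum_update i u _ fun w hw => by rw [(S_update i z u x w).1, if_neg hw, zero_mul],
    Matrix.mul_apply]
  exact Finset.sum_congr rfl fun p _ => by
    rw [(S_update i z u x _).1, Function.update_self, if_pos rfl, comp_apply]

theorem comp_mul_S (i : Fin t) (u v : Fin t → Fin k) (z : Matrix (Fin k) (Fin k) F)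
    (M : Matrix (Fin t → Fin k) (Fin t → Fin k) F) : comp i u v (M * S i z) = comp i u v M * z := by
  ext x y
  rw [comp_apply, Matrix.mul_apply, sum_update i v _ fun w hw => by rw [(S_update i z v y w).2, if_neg hw, mul_zero],
    Matrix.mul_apply]
  exact Finset.sum_congr rfl fun p _ => by
    rw [(S_update i z v y _).2, Function.update_self, if_pos rfl, comp_apply]

theorem comp_conj (i : Fin t) (u v : Fin t → Fin k) (x : GL (Fin k) F) (M : Matrix (Fin t → Fin k) (Fin t → Fin k) F) :
    comp i u v (conjMat (sgl i x) M) = conjMat x (comp i u v M) := by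
  rw [conjMat_apply, conjMat_apply, ← map_inv, sgl_coe, sgl_coe, comp_mul_S, comp_S_mul]

theorem comp_blk (i : Fin t) (p q : Fin k) (u v : Fin t → Fin k)
    (M : Matrix (Fin (t + 1) → Fin k) (Fin (t + 1) → Fin k) F) :
    comp i.succ (Fin.cons p u) (Fin.cons q v) M = comp i u v (blk M p q) := by
  ext x y
  rw [comp_apply, comp_apply, blk_apply, Fin.cons_update, Fin.cons_update]

theorem comp_zero (p q : Fin k) (u v : Fin t → Fin k)
    (M : Matrix (Fin (t + 1) → Fin k) (Fin (t + 1) → Fin k) F) (x y : Fin k) :
    comp 0 (Fin.cons p u) (Fin.cons q v) M x y = blk M x y u v := by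
  rw [comp_apply, blk_apply, Fin.update_cons_zero, Fin.update_cons_zero]

/-- operators which are selfadjoint in every slot are selfadjoint -/
theorem slf_of_comp : ∀ {t : ℕ} {M : Matrix (Fin t → Fin k) (Fin t → Fin k) F},
    (∀ i u v, comp i u v M ∈ slf J) → M ∈ slf (gram t J) := by
  intro t
  induction t with
  | zero =>
    intro M _
    rw [mem_slf]
    ext x y
    rw [Matrix.transpose_apply, Subsingleton.elim x y]
  | succ t ih =>
    intro M h
    have hb : ∀ p q, blk M p q ∈ slf (gram t J) := fun p q => ih fun i u v => by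
      rw [← comp_blk]; exact h _ _ _
    rw [mem_slf]
    refine (blk (F := F) (m := k) (t := t)).injective (Matrix.ext fun x y => ?_)
    have e : ∀ x y, blk (gram (t + 1) J * M) x y = gram t J * ∑ p, J x p • blk M p y := fun x y => by
      rw [map_mul, Matrix.mul_apply, Finset.mul_sum]
      exact Finset.sum_congr rfl fun p _ => by rw [blk_gram, smul_mul_assoc, mul_smul_comm]
    rw [blk_transpose, e, e, mem_slf.1 (Submodule.sum_mem _ fun p _ => Submodule.smul_mem _ _ (hb p x))]
    congr 1
    ext u v
    have h0 := congrFun (congrFun (mem_slf.1 (h 0 (Fin.cons x u) (Fin.cons x v))) x) y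
    simp only [Matrix.transpose_apply, Matrix.mul_apply, comp_zero] at h0
    simpa [Matrix.sum_apply] using h0

variable (hd : Hyp J a b)
include hd

/-- the centraliser of the root group inside the matrices of a slot -/
theorem cent_root {Z : Matrix (Fin k) (Fin k) F} (hE : EA J a * Z = Z * EA J a)
    (hN : ∀ u ∈ mid F a b, Qm J u (Pi.single a 1) * Z = Z * Qm J u (Pi.single a 1)) :
    ∃ (α γ : F) (g : Fin k → F), g ∈ mid F a b ∧ Z = α • 1 + γ • EA J a + Qm J g (Pi.single a 1) := by
  obtain ⟨w, hw⟩ : ∃ w, w = Z *ᵥ Pi.single b 1 := ⟨_, rfl⟩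
  have hgm : w - w a • Pi.single a 1 - w b • Pi.single b 1 ∈ mid F a b := sub_pair_mem hd w
  obtain ⟨g, hg⟩ : ∃ g, g = w - w a • Pi.single a 1 - w b • Pi.single b 1 := ⟨_, rfl⟩
  rw [← hg] at hgm
  refine ⟨w b, w a, g, hgm, Matrix.ext_iff_mulVec.2 fun x => ?_⟩
  have hZA : Z *ᵥ Pi.single a 1 = w b • Pi.single a 1 := by
    have := congrArg (fun M => M *ᵥ Pi.single b 1) hE
    simp only [← mulVec_mulVec, EA, op_mulVec hd.sym, frm_ab hd, one_smul, ← hw, frm_a hd] at this
    exact this.symm
  have hmm : x - x a • Pi.single a 1 - x b • Pi.single b 1 ∈ mid F a b := sub_pair_mem hd x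
  obtain ⟨m, hm⟩ : ∃ m, m = x - x a • Pi.single a 1 - x b • Pi.single b 1 := ⟨_, rfl⟩
  rw [← hm] at hmm
  have hZm : Z *ᵥ m = w b • m - frm J g m • Pi.single a 1 := by
    have := congrArg (fun M => M *ᵥ Pi.single b 1) (hN m hmm)
    simp only [← mulVec_mulVec, Qm_mulVec hd.sym, ← hw, frm_ab hd, frm_ub hd hmm, one_smul, zero_smul, sub_zero,
      frm_a hd, frm_comm hd.sym m w] at this
    have e : frm J g m = frm J w m := by
      rw [hg, frm_sub_left, frm_sub_left, frm_smul_left, frm_smul_left, frm_au hd hmm, frm_bu hd hmm, mul_zero,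
        mul_zero, sub_zero, sub_zero]
    rw [e]
    exact this.symm
  have ex : x = m + x a • Pi.single a 1 + x b • Pi.single b 1 := by rw [hm]; abel
  rw [ex]
  simp only [mulVec_add, mulVec_smul, add_mulVec, smul_mulVec, one_mulVec, EA, op_mulVec hd.sym, Qm_mulVec hd.sym, hZA,
    ← hw, hZm, frm_aa hd, frm_ab hd, frm_au hd hmm, frm_ua hd hgm, frm_ub hd hgm, zero_smul, smul_zero, one_smul]
  have ew : w = g + w a • Pi.single a 1 + w b • Pi.single b 1 := by rw [hg]; abel
  conv_lhs => arg 2; arg 2; rw [ew]
  module

omit hd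

end Cfsg.Agent.TensorWreath.Or
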