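import Cfsg.Agent.Lib.Forms.Max.TensorWreath.Elements
import Cfsg.Agent.Lib.Forms.Max.Tensor.OmegaRadical
import Cfsg.Agent.Lib.Forms.Spinor

/-!
# Rank one operators, Siegel elements and the group `Ω` of a symmetric Gram matrix
-/

set_option autoImplicit false
set_option linter.unusedSectionVars false
set_option linter.unusedSimpArgs false

namespace Cfsg.Agent.TensorWreath.Or

open Matrix Cfsg.Agent.Aschbacher

variable {F : Type*} [Field F] {ι : Type} [Fintype ι] [DecidableEq ι] {J : Matrix ι ι F}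

/-- the bilinear form with Gram matrix `J` -/
def frm (J : Matrix ι ι F) (x y : ι → F) : F := x ⬝ᵥ (J *ᵥ y)

/-- the rank one operator `v ↦ frm y v • x` -/
def op (J : Matrix ι ι F) (x y : ι → F) : Matrix ι ι F := vecMulVec x (J *ᵥ y)

/-- the operator of a pair of vectors -/
def Qm (J : Matrix ι ι F) (x y : ι → F) : Matrix ι ι F := op J x y - op J y x

/-- symmetric non-degenerate, odd characteristic -/
structure Sym (J : Matrix ι ι F) : Prop where
  symm : Jᵀ = J
  unit : IsUnit J
  two : (2 : F) ≠ 0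

theorem frm_add_left (x y z : ι → F) : frm J (x + y) z = frm J x z + frm J y z := add_dotProduct ..
theorem frm_add_right (x y z : ι → F) : frm J x (y + z) = frm J x y + frm J x z := by
  rw [frm, mulVec_add, dotProduct_add]; rfl
theorem frm_sub_left (x y z : ι → F) : frm J (x - y) z = frm J x z - frm J y z := sub_dotProduct ..
theorem frm_sub_right (x y z : ι → F) : frm J x (y - z) = frm J x y - frm J x z := by
  rw [frm, mulVec_sub, dotProduct_sub]; rfl
theorem frm_neg_left (x y : ι → F) : frm J (-x) y = -frm J x y := neg_dotProduct ..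
theorem frm_neg_right (x y : ι → F) : frm J x (-y) = -frm J x y := by
  rw [frm, mulVec_neg, dotProduct_neg]; rfl
theorem frm_smul_left (c : F) (x y : ι → F) : frm J (c • x) y = c * frm J x y := smul_dotProduct c x _
theorem frm_smul_right (c : F) (x y : ι → F) : frm J x (c • y) = c * frm J x y := by
  rw [frm, mulVec_smul, dotProduct_smul, smul_eq_mul]; rfl
theorem frm_zero_left (y : ι → F) : frm J 0 y = 0 := zero_dotProduct _
theorem frm_zero_right (x : ι → F) : frm J x 0 = 0 := by rw [frm, mulVec_zero, dotProduct_zero]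

theorem op_add_left (x y z : ι → F) : op J (x + y) z = op J x z + op J y z := add_vecMulVec ..
theorem op_add_right (x y z : ι → F) : op J x (y + z) = op J x y + op J x z := by
  rw [op, mulVec_add, vecMulVec_add]; rfl
theorem op_sub_left (x y z : ι → F) : op J (x - y) z = op J x z - op J y z := sub_vecMulVec ..
theorem op_sub_right (x y z : ι → F) : op J x (y - z) = op J x y - op J x z := by
  rw [op, mulVec_sub, vecMulVec_sub]; rfl
theorem op_neg_left (x y : ι → F) : op J (-x) y = -op J x y := neg_vecMulVec ..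
theorem op_neg_right (x y : ι → F) : op J x (-y) = -op J x y := by
  rw [op, mulVec_neg, vecMulVec_neg]; rfl
theorem op_smul_left (c : F) (x y : ι → F) : op J (c • x) y = c • op J x y := smul_vecMulVec ..
theorem op_smul_right (c : F) (x y : ι → F) : op J x (c • y) = c • op J x y := by
  rw [op, mulVec_smul, vecMulVec_smul]; rfl
theorem op_zero_left (y : ι → F) : op J 0 y = 0 := zero_vecMulVec _
theorem op_zero_right (x : ι → F) : op J x 0 = 0 := by rw [op, mulVec_zero, vecMulVec_zero]
theorem op_apply (x y : ι → F) (p q : ι) : op J x y p q = x p * (J *ᵥ y) q := rfl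

theorem single_dot (p : ι) (y : ι → F) : frm J (Pi.single p 1) y = (J *ᵥ y) p := by simp [frm]

variable (hS : Sym J)
include hS

theorem frm_comm (x y : ι → F) : frm J x y = frm J y x := by
  rw [frm, dotProduct_mulVec, ← mulVec_transpose, hS.symm, dotProduct_comm]; rfl

theorem frm_nd {x : ι → F} (h : ∀ y, frm J x y = 0) : x = 0 := by
  refine Matrix.mulVec_injective_of_isUnit hS.unit ?_
  rw [mulVec_zero]
  funext p
  rw [← single_dot, frm_comm hS, h]; rfl

theorem exists_frm_one {x : ι → F} (hx : x ≠ 0) : ∃ y, frm J x y = 1 := by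
  by_contra h
  push Not at h
  refine hx (frm_nd hS fun y => ?_)
  by_contra hy
  exact h ((frm J x y)⁻¹ • y) (by rw [frm_smul_right, inv_mul_cancel₀ hy])

theorem op_mulVec (x y v : ι → F) : op J x y *ᵥ v = frm J y v • x := by
  rw [op, vecMulVec_mulVec, op_smul_eq_smul, dotProduct_comm, frm_comm hS]; rfl

theorem op_mul (x y z w : ι → F) : op J x y * op J z w = frm J y z • op J x w := by
  refine Matrix.ext_of_mulVec_single fun i => ?_
  rw [← mulVec_mulVec, op_mulVec hS, op_mulVec hS, smul_mulVec, op_mulVec hS, frm_smul_right, smul_smul,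
    mul_comm]

theorem Qm_mulVec (x y v : ι → F) : Qm J x y *ᵥ v = frm J y v • x - frm J x v • y := by
  rw [Qm, sub_mulVec, op_mulVec hS, op_mulVec hS]

omit hS

/-! ### isometries -/

/-- the isometries -/
def Iso (J : Matrix ι ι F) : Subgroup (GL ι F) where
  carrier := {g | g.valᵀ * J * g.val = J}
  one_mem' := by simp
  mul_mem' {g h} hg hh := by
    show (g * h).valᵀ * J * (g * h).val = J
    rw [Units.val_mul, transpose_mul]
    calc h.valᵀ * g.valᵀ * J * (g.val * h.val)
        = h.valᵀ * (g.valᵀ * J * g.val) * h.val := by simp only [Matrix.mul_assoc]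
      _ = _ := by rw [hg, hh]
  inv_mem' {g} hg := by
    show (g⁻¹).valᵀ * J * (g⁻¹).val = J
    conv_lhs => rw [show J = g.valᵀ * J * g.val from hg.symm]
    rw [Matrix.mul_assoc, Matrix.mul_assoc, ← Units.val_mul, mul_inv_cancel, Units.val_one, Matrix.mul_one,
      ← Matrix.mul_assoc, ← transpose_mul, ← Units.val_mul, mul_inv_cancel, Units.val_one, transpose_one, Matrix.one_mul]

theorem mem_Iso {g : GL ι F} : g ∈ Iso J ↔ g.valᵀ * J * g.val = J := Iff.rfl

theorem frm_mul (M : Matrix ι ι F) (x y : ι → F) : frm J (M *ᵥ x) (M *ᵥ y) = frm (Mᵀ * J * M) x y := by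
  simp only [frm]
  rw [mulVec_mulVec, dotProduct_mulVec, ← mulVec_transpose, mulVec_mulVec, dotProduct_mulVec x, ← mulVec_transpose,
    transpose_mul, transpose_mul, transpose_mul, transpose_transpose, Matrix.mul_assoc]

theorem mem_Iso_frm {g : GL ι F} : g ∈ Iso J ↔ ∀ x y, frm J (g.val *ᵥ x) (g.val *ᵥ y) = frm J x y := by
  refine ⟨fun h x y => by rw [frm_mul, h], fun h => ?_⟩
  rw [mem_Iso]
  ext p q
  have := h (Pi.single p 1) (Pi.single q 1)
  rw [frm_mul] at this
  simpa [frm, mulVec_single_one] using this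

theorem iso_frm {g : GL ι F} (hg : g ∈ Iso J) (x y : ι → F) : frm J (g.val *ᵥ x) (g.val *ᵥ y) = frm J x y :=
  mem_Iso_frm.1 hg x y

theorem cancelV (g : GL ι F) (x : ι → F) : (g⁻¹).val *ᵥ (g.val *ᵥ x) = x := by
  rw [mulVec_mulVec, ← Units.val_mul, inv_mul_cancel, Units.val_one, one_mulVec]

theorem cancelV' (g : GL ι F) (x : ι → F) : g.val *ᵥ ((g⁻¹).val *ᵥ x) = x := by
  rw [mulVec_mulVec, ← Units.val_mul, mul_inv_cancel, Units.val_one, one_mulVec]

theorem mulVec_ne_zero (g : GL ι F) {x : ι → F} (hx : x ≠ 0) : g.val *ᵥ x ≠ 0 := fun h => hx (by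
  rw [← cancelV g x, h, mulVec_zero])

theorem conj_op {g : GL ι F} (hg : g ∈ Iso J) (x y : ι → F) :
    conjMat g (op J x y) = op J (g.val *ᵥ x) (g.val *ᵥ y) := by
  have h : (g⁻¹).valᵀ * J = J * g.val := by
    conv_lhs => rw [show J = g.valᵀ * J * g.val from (mem_Iso.1 hg).symm]
    rw [← Matrix.mul_assoc, ← Matrix.mul_assoc, ← transpose_mul, ← Units.val_mul, mul_inv_cancel, Units.val_one,
      transpose_one, Matrix.one_mul]
  rw [conjMat_apply, op, mul_vecMulVec, vecMulVec_mul, op]
  congr 1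
  rw [mulVec_mulVec, ← h, ← mulVec_mulVec, mulVec_transpose]

theorem conj_Qm {g : GL ι F} (hg : g ∈ Iso J) (x y : ι → F) :
    conjMat g (Qm J x y) = Qm J (g.val *ᵥ x) (g.val *ᵥ y) := by
  rw [Qm, map_sub, conj_op hg, conj_op hg]; rfl

/-- the displacement of a Siegel element -/
def sgN (J : Matrix ι ι F) (e u : ι → F) : Matrix ι ι F :=
  Qm J u e - ((2 : F)⁻¹ * frm J u u) • op J e e

/-- a Siegel element -/
def sg (hS : Sym J) (e u : ι → F) (he : frm J e e = 0) (hu : frm J e u = 0) : GL ι F where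
  val := 1 + sgN J e u
  inv := 1 + sgN J e (-u)
  val_inv := by
    have h2 := hS.two
    have hu' : frm J u e = 0 := by rw [frm_comm hS, hu]
    simp only [sgN, Qm, frm_neg_left, frm_neg_right, op_neg_left, op_neg_right, mul_add, add_mul, one_mul, mul_one,
      mul_sub, sub_mul, smul_mul_assoc, mul_smul_comm, mul_neg, neg_mul, op_mul hS, he, hu, hu', zero_smul, neg_neg,
      smul_zero]
    match_scalars <;> field_simp <;> ring
  inv_val := by
    have h2 := hS.two
    have hu' : frm J u e = 0 := by rw [frm_comm hS, hu]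
    simp only [sgN, Qm, frm_neg_left, frm_neg_right, op_neg_left, op_neg_right, mul_add, add_mul, one_mul, mul_one,
      mul_sub, sub_mul, smul_mul_assoc, mul_smul_comm, mul_neg, neg_mul, op_mul hS, he, hu, hu', zero_smul, neg_neg,
      smul_zero]
    match_scalars <;> field_simp <;> ring

variable {e u w : ι → F}

theorem sg_coe (hS : Sym J) (he : frm J e e = 0) (hu : frm J e u = 0) :
    (sg hS e u he hu).val = 1 + sgN J e u := rfl

theorem sg_mulVec (hS : Sym J) (he : frm J e e = 0) (hu : frm J e u = 0) (x : ι → F) :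
    (sg hS e u he hu).val *ᵥ x =
      x + frm J e x • u - frm J u x • e - ((2 : F)⁻¹ * frm J u u * frm J e x) • e := by
  rw [sg_coe, sgN, add_mulVec, one_mulVec, sub_mulVec, Qm_mulVec hS, smul_mulVec, op_mulVec hS, smul_smul]
  abel

theorem sg_congr (hS : Sym J) {e' u' : ι → F} (h1 : e = e') (h2 : u = u') (he : frm J e e = 0) (hu : frm J e u = 0) :
    sg hS e u he hu = sg hS e' u' (h1 ▸ he) (h1 ▸ h2 ▸ hu) := by subst h1 h2; rfl

theorem sg_mul (hS : Sym J) (he : frm J e e = 0) (hu : frm J e u = 0) (hw : frm J e w = 0) :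
    sg hS e u he hu * sg hS e w he hw = sg hS e (u + w) he (by rw [frm_add_right, hu, hw, add_zero]) := by
  have h2 := hS.two
  have hu' : frm J u e = 0 := by rw [frm_comm hS, hu]
  have hw' : frm J w e = 0 := by rw [frm_comm hS, hw]
  refine Units.ext ?_
  simp only [Units.val_mul, sg_coe, sgN, Qm, frm_add_left, frm_add_right, op_add_left, op_add_right, mul_add, add_mul,
    one_mul, mul_one, mul_sub, sub_mul, smul_mul_assoc, mul_smul_comm, op_mul hS, he, hu, hu', hw, hw', zero_smul,
    smul_zero, frm_comm hS w u]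
  match_scalars <;> field_simp <;> ring

theorem sg_zero (hS : Sym J) (he : frm J e e = 0) : sg hS e 0 he (frm_zero_right e) = 1 := by
  refine Units.ext ?_
  simp [sg_coe, sgN, Qm, op_zero_left, op_zero_right, frm_zero_left]

theorem sg_inv (hS : Sym J) (he : frm J e e = 0) (hu : frm J e u = 0) :
    (sg hS e u he hu)⁻¹ = sg hS e (-u) he (by rw [frm_neg_right, hu, neg_zero]) := Units.ext rfl

theorem sg_iso (hS : Sym J) (he : frm J e e = 0) (hu : frm J e u = 0) : sg hS e u he hu ∈ Iso J := by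
  have h2 := hS.two
  have hu' : frm J u e = 0 := by rw [frm_comm hS, hu]
  refine mem_Iso_frm.2 fun x y => ?_
  simp only [sg_mulVec, frm_add_left, frm_add_right, frm_sub_left, frm_sub_right, frm_smul_left, frm_smul_right,
    he, hu, hu', frm_comm hS x e, frm_comm hS x u]
  field_simp
  ring

theorem sg_conj (hS : Sym J) {g : GL ι F} (hg : g ∈ Iso J) (he : frm J e e = 0) (hu : frm J e u = 0) :
    g * sg hS e u he hu * g⁻¹ = sg hS (g.val *ᵥ e) (g.val *ᵥ u) (by rw [iso_frm hg, he]) (by rw [iso_frm hg, hu]) := by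
  refine Units.ext ?_
  rw [← conjMat_units, sg_coe, sg_coe, sgN, sgN, map_add, map_one, map_sub, map_smul, conj_Qm hg, conj_op hg,
    iso_frm hg]

/-! ### skew and self-adjoint operators -/

/-- the skew operators -/
def skew (J : Matrix ι ι F) : Submodule F (Matrix ι ι F) where
  carrier := {X | (J * X)ᵀ = -(J * X)}
  zero_mem' := by simp
  add_mem' {X Y} (hX : _ = _) (hY : _ = _) := by
    show _ = _
    rw [mul_add, transpose_add, hX, hY, neg_add]
  smul_mem' c X (hX : _ = _) := by
    show _ = _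
    rw [mul_smul_comm, transpose_smul, hX, smul_neg]

/-- the self-adjoint operators -/
def slf (J : Matrix ι ι F) : Submodule F (Matrix ι ι F) where
  carrier := {X | (J * X)ᵀ = J * X}
  zero_mem' := by simp
  add_mem' {X Y} (hX : _ = _) (hY : _ = _) := by
    show _ = _
    rw [mul_add, transpose_add, hX, hY]
  smul_mem' c X (hX : _ = _) := by
    show _ = _
    rw [mul_smul_comm, transpose_smul, hX]

theorem mem_skew {X : Matrix ι ι F} : X ∈ skew J ↔ (J * X)ᵀ = -(J * X) := Iff.rfl
theorem mem_slf {X : Matrix ι ι F} : X ∈ slf J ↔ (J * X)ᵀ = J * X := Iff.rfl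

theorem skew_slf_zero (hS : Sym J) {X : Matrix ι ι F} (h1 : X ∈ skew J) (h2 : X ∈ slf J) : X = 0 := by
  rw [mem_skew, mem_slf.1 h2] at h1
  have h : (2 : F) • (J * X) = 0 := by rw [two_smul]; nth_rewrite 2 [h1]; exact add_neg_cancel _
  exact hS.unit.mul_left_cancel (((smul_eq_zero.1 h).resolve_left hS.two).trans (mul_zero J).symm)

theorem one_slf (hS : Sym J) : (1 : Matrix ι ι F) ∈ slf J := by rw [mem_slf, mul_one, hS.symm]

theorem J_op_transpose (hS : Sym J) (x y : ι → F) : (J * op J x y)ᵀ = J * op J y x := by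
  rw [op, op, mul_vecMulVec, mul_vecMulVec, transpose_vecMulVec]

theorem Qm_skew (hS : Sym J) (x y : ι → F) : Qm J x y ∈ skew J := by
  rw [mem_skew, Qm, mul_sub, transpose_sub, J_op_transpose hS, J_op_transpose hS, neg_sub]

theorem op_slf (hS : Sym J) (x : ι → F) : op J x x ∈ slf J := J_op_transpose hS x x

theorem conj_J {g : GL ι F} (hg : g ∈ Iso J) (X : Matrix ι ι F) :
    J * conjMat g X = (g⁻¹).valᵀ * (J * X) * (g⁻¹).val := by
  have h : (g⁻¹).valᵀ * J = J * g.val := by
    conv_lhs => rw [show J = g.valᵀ * J * g.val from (mem_Iso.1 hg).symm]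
    rw [← Matrix.mul_assoc, ← Matrix.mul_assoc, ← transpose_mul, ← Units.val_mul, mul_inv_cancel, Units.val_one,
      transpose_one, Matrix.one_mul]
  rw [conjMat_apply, ← Matrix.mul_assoc (g⁻¹).valᵀ, h]
  simp only [Matrix.mul_assoc]

theorem conj_skew {g : GL ι F} (hg : g ∈ Iso J) {X : Matrix ι ι F} (hX : X ∈ skew J) :
    conjMat g X ∈ skew J := by
  rw [mem_skew, conj_J hg, transpose_mul, transpose_mul, transpose_transpose, mem_skew.1 hX]
  simp only [Matrix.neg_mul, Matrix.mul_neg, Matrix.mul_assoc]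

theorem conj_slf {g : GL ι F} (hg : g ∈ Iso J) {X : Matrix ι ι F} (hX : X ∈ slf J) :
    conjMat g X ∈ slf J := by
  rw [mem_slf, conj_J hg, transpose_mul, transpose_mul, transpose_transpose, mem_slf.1 hX]
  simp only [Matrix.mul_assoc]

/-! ### the quadratic form and `Ω` -/

/-- the quadratic form with polar form `frm J` -/
noncomputable def qf (J : Matrix ι ι F) : QuadraticForm F (ι → F) :=
  LinearMap.BilinMap.toQuadraticMap ((2 : F)⁻¹ • Matrix.toLinearMap₂' F J)

theorem qf_apply (x : ι → F) : qf J x = (2 : F)⁻¹ * frm J x x := by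
  show ((2 : F)⁻¹ • Matrix.toLinearMap₂' F J) x x = _
  rw [LinearMap.smul_apply, LinearMap.smul_apply, Matrix.toLinearMap₂'_apply', smul_eq_mul]; rfl

theorem polar_qf (hS : Sym J) (x y : ι → F) : QuadraticMap.polar (qf J) x y = frm J x y := by
  have h2 := hS.two
  rw [qf, LinearMap.BilinMap.polar_toQuadraticMap]
  simp only [LinearMap.smul_apply, Matrix.toLinearMap₂'_apply', smul_eq_mul]
  rw [show y ⬝ᵥ J *ᵥ x = frm J x y from frm_comm hS y x, show x ⬝ᵥ J *ᵥ y = frm J x y from rfl]
  field_simp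
  ring

theorem qf_nd (hS : Sym J) : (QuadraticMap.polarBilin (qf J)).Nondegenerate := by
  refine ⟨fun x hx => frm_nd hS fun y => ?_, fun y hy => frm_nd hS fun x => ?_⟩
  · rw [← polar_qf hS]; exact hx y
  · rw [frm_comm hS, ← polar_qf hS]; exact hy x

theorem mem_isoG_iff {g : GL ι F} (Q : (ι → F) → F) :
    g ∈ Cfsg.isometryGroup F Q ↔ ∀ x, Q (g.val *ᵥ x) = Q x :=
  ⟨fun h x => h x x, fun h x _ => h x⟩

theorem Iso_eq (hS : Sym J) : Iso J = Cfsg.isometryGroup F ⇑(qf J) := by
  ext g
  rw [mem_Iso_frm, mem_isoG_iff]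
  refine ⟨fun h x => by rw [qf_apply, qf_apply, h], fun h x y => ?_⟩
  rw [← polar_qf hS, ← polar_qf hS]
  simp only [QuadraticMap.polar, ← mulVec_add, h]

/-- the group `Ω` -/
def Om (J : Matrix ι ι F) : Subgroup (GL ι F) := ⁅Iso J, Iso J⁆

theorem Om_le_Iso : Om J ≤ Iso J := Subgroup.commutator_le.2 fun x hx y hy => by
  rw [commutatorElement_def]
  exact mul_mem (mul_mem (mul_mem hx hy) (inv_mem hx)) (inv_mem hy)

theorem Om_eq (hS : Sym J) : Om J = Cfsg.Geo.omegaGL ⇑(qf J) := by
  rw [Om, Iso_eq hS]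
  exact (Subgroup.map_subtype_commutator _).symm

theorem Om_comm {x y : GL ι F} (hx : x ∈ Iso J) (hy : y ∈ Iso J) : x * y * x⁻¹ * y⁻¹ ∈ Om J := by
  rw [← commutatorElement_def]
  exact Subgroup.commutator_mem_commutator hx hy

theorem Om_normal {g x : GL ι F} (hg : g ∈ Iso J) (hx : x ∈ Om J) : g * x * g⁻¹ ∈ Om J := by
  have h := mul_mem (Om_comm hg (Om_le_Iso hx)) hx
  rwa [inv_mul_cancel_right] at h

variable [Fintype F]

theorem sq_mem_Om (hS : Sym J) (hn : 2 ≤ Fintype.card ι) {g : GL ι F} (hg : g ∈ Iso J) : g * g ∈ Om J := by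
  rw [Om_eq hS]
  rw [Iso_eq hS] at hg
  refine ⟨⟨g, hg⟩ * ⟨g, hg⟩, ?_, rfl⟩
  show (⟨g, hg⟩ * ⟨g, hg⟩ : Cfsg.isometryGroup F ⇑(qf J)) ∈ Cfsg.Omega F ⇑(qf J)
  rw [← Forms.Spinor.ker_pairHom (qf_nd hS) hS.two hn, MonoidHom.mem_ker, map_mul]
  exact Prod.ext (Int.units_mul_self _) (Int.units_mul_self _)

theorem sg_mem_Om (hS : Sym J) (hn : 2 ≤ Fintype.card ι) (he : frm J e e = 0) (hu : frm J e u = 0) :
    sg hS e u he hu ∈ Om J := by
  have h : frm J e ((2 : F)⁻¹ • u) = 0 := by rw [frm_smul_right, hu, mul_zero]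
  have e1 := sg_mul hS he h h
  rw [sg_congr hS rfl (show (2 : F)⁻¹ • u + (2 : F)⁻¹ • u = u by
    rw [← add_smul, ← two_mul, mul_inv_cancel₀ hS.two, one_smul]) he] at e1
  rw [← e1]
  exact sq_mem_Om hS hn (sg_iso hS he h)

theorem omega_radical (hS : Sym J) (hn : 9 ≤ Fintype.card ι) {X : Submodule F (ι → F)} (hX : ∀ x ∈ X, frm J x x = 0)
    {g : GL ι F} (hg : g ∈ Iso J) (hfix : ∀ x ∈ X, g.val *ᵥ x = x)
    (hperp : ∀ z, (∀ x ∈ X, frm J z x = 0) → g.val *ᵥ z - z ∈ X) : g ∈ Om J := by
  rw [Om_eq hS]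
  refine Forms.Max.Orth.omega_of_radical (qf_nd hS) hn (fun x hx => by rw [qf_apply, hX x hx, mul_zero])
    ((mem_isoG_iff _).1 (Iso_eq hS ▸ hg)) hfix fun z hz => hperp z fun x hx => ?_
  rw [← polar_qf hS]; exact hz x hx

end Cfsg.Agent.TensorWreath.Or
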