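import Cfsg.Agent.Lib.Forms.Max.TensorWreath.Orth.Core
import Cfsg.Agent.Lib.Forms.Max.OrthOrth.Space

/-!
# An orthogonal space with a hyperbolic pair of basis vectors
-/

set_option autoImplicit false
set_option linter.unusedSectionVars false
set_option linter.unusedSimpArgs false

namespace Cfsg.Agent.TensorWreath.Or

open Matrix Cfsg.Agent.Aschbacher

variable {F : Type*} [Field F] {k : ℕ} {J : Matrix (Fin k) (Fin k) F} {a b : Fin k}

/-- a Gram matrix adapted to the hyperbolic pair `a`, `b`, of minus type in dimension four -/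
structure Hyp (J : Matrix (Fin k) (Fin k) F) (a b : Fin k) : Prop where
  sym : Sym J
  hk : 3 ≤ k
  hab : a ≠ b
  ja : ∀ p, J p a = if p = b then 1 else 0
  jb : ∀ p, J p b = if p = a then 1 else 0
  minus : k = 4 → ∀ u : Fin k → F, u a = 0 → u b = 0 → frm J u u = 0 → u = 0
  big : Nat.card F ≠ 3 ∨ 4 ≤ k

/-- the orthogonal of the pair -/
def mid (F : Type*) [Field F] {k : ℕ} (a b : Fin k) : Submodule F (Fin k → F) :=
  LinearMap.ker (LinearMap.proj a : (Fin k → F) →ₗ[F] F) ⊓ LinearMap.ker (LinearMap.proj b : (Fin k → F) →ₗ[F] F)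

theorem mem_mid {u : Fin k → F} : u ∈ mid F a b ↔ u a = 0 ∧ u b = 0 := Iff.rfl

/-- the root operator -/
abbrev EA (J : Matrix (Fin k) (Fin k) F) (a : Fin k) : Matrix (Fin k) (Fin k) F :=
  op J (Pi.single a 1) (Pi.single a 1)

/-- the group generated by the Siegel elements of a slot -/
def Sl (hS : Sym J) : Subgroup (GL (Fin k) F) :=
  Subgroup.closure {g | ∃ (e u : Fin k → F) (he : frm J e e = 0) (hu : frm J e u = 0), g = sg hS e u he hu}

theorem Sl_le_Iso (hS : Sym J) : Sl hS ≤ Iso J := (Subgroup.closure_le _).2 (by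
  rintro _ ⟨e, u, he, hu, rfl⟩; exact sg_iso hS he hu)

theorem sg_mem_Sl (hS : Sym J) {e u : Fin k → F} (he : frm J e e = 0) (hu : frm J e u = 0) :
    sg hS e u he hu ∈ Sl hS := Subgroup.subset_closure ⟨e, u, he, hu, rfl⟩

variable (hd : Hyp J a b)
include hd

theorem Ja : J *ᵥ Pi.single a 1 = Pi.single b 1 := by
  funext p; simp [mulVec_single_one, hd.ja, Pi.single_apply]

theorem Jb : J *ᵥ Pi.single b 1 = Pi.single a 1 := by
  funext p; simp [mulVec_single_one, hd.jb, Pi.single_apply]

theorem frm_a (x : Fin k → F) : frm J (Pi.single a 1) x = x b := by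
  rw [frm_comm hd.sym, frm, Ja hd, dotProduct_single, mul_one]

theorem frm_b (x : Fin k → F) : frm J (Pi.single b 1) x = x a := by
  rw [frm_comm hd.sym, frm, Jb hd, dotProduct_single, mul_one]

theorem frm_aa : frm J (Pi.single a 1) (Pi.single a 1) = 0 := by
  rw [frm_a hd, Pi.single_eq_of_ne hd.hab.symm]

theorem frm_bb : frm J (Pi.single b 1) (Pi.single b 1) = 0 := by
  rw [frm_b hd, Pi.single_eq_of_ne hd.hab]

theorem frm_ab : frm J (Pi.single a 1) (Pi.single b 1) = 1 := by rw [frm_a hd, Pi.single_eq_same]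

theorem frm_ba : frm J (Pi.single b 1) (Pi.single a 1) = 1 := by rw [frm_b hd, Pi.single_eq_same]

theorem frm_au {u : Fin k → F} (hu : u ∈ mid F a b) : frm J (Pi.single a 1) u = 0 := by
  rw [frm_a hd]; exact (mem_mid.1 hu).2

theorem frm_bu {u : Fin k → F} (hu : u ∈ mid F a b) : frm J (Pi.single b 1) u = 0 := by
  rw [frm_b hd]; exact (mem_mid.1 hu).1

theorem frm_ua {u : Fin k → F} (hu : u ∈ mid F a b) : frm J u (Pi.single a 1) = 0 := by
  rw [frm_comm hd.sym, frm_au hd hu]

theorem frm_ub {u : Fin k → F} (hu : u ∈ mid F a b) : frm J u (Pi.single b 1) = 0 := by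
  rw [frm_comm hd.sym, frm_bu hd hu]

theorem EA_eq : EA J a = Matrix.single a b 1 := by
  rw [EA, op, Ja hd, single_eq_single_vecMulVec_single]

theorem op_ab : op J (Pi.single a 1) (Pi.single b 1) = Matrix.single a a 1 := by
  rw [op, Jb hd, single_eq_single_vecMulVec_single]

theorem op_ba : op J (Pi.single b 1) (Pi.single a 1) = Matrix.single b b 1 := by
  rw [op, Ja hd, single_eq_single_vecMulVec_single]

/-- the projection to the orthogonal of the pair -/
theorem sub_pair_mem (x : Fin k → F) : x - x a • Pi.single a 1 - x b • Pi.single b 1 ∈ mid F a b :=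
  mem_mid.2 (by simp [hd.hab, hd.hab.symm])

theorem mid_nondeg {x : Fin k → F} (hx : x ∈ mid F a b) (h : ∀ y ∈ mid F a b, frm J x y = 0) : x = 0 := by
  refine frm_nd hd.sym fun z => ?_
  have := h _ (sub_pair_mem hd z)
  rwa [frm_sub_right, frm_sub_right, frm_smul_right, frm_smul_right, frm_ua hd hx, frm_ub hd hx, mul_zero, mul_zero,
    sub_zero, sub_zero] at this

theorem finrank_mid : k ≤ Module.finrank F (mid F a b) + 2 := by
  set L := (LinearMap.proj a : (Fin k → F) →ₗ[F] F).prod (LinearMap.proj b : (Fin k → F) →ₗ[F] F)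
  have h1 := LinearMap.finrank_range_add_finrank_ker L
  have h2 := Submodule.finrank_le (LinearMap.range L)
  have h3 : LinearMap.ker L = mid F a b := LinearMap.ker_prod ..
  rw [Module.finrank_prod, Module.finrank_self] at h2
  rw [Module.finrank_fintype_fun_eq_card, Fintype.card_fin, h3] at h1
  omega

/-- some projected middle vector is anisotropic -/
theorem exists_aniso_proj (P : (Fin k → F) →ₗ[F] (Fin k → F)) (hP : ∀ x ∈ mid F a b, P x ∈ mid F a b)
    (hPP : ∀ x ∈ mid F a b, ∀ y ∈ mid F a b, frm J (P x) (P y) = frm J (P x) y)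
    (hne : ∃ x ∈ mid F a b, P x ≠ 0) : ∃ x ∈ mid F a b, frm J (P x) (P x) ≠ 0 := by
  by_contra hc
  push Not at hc
  obtain ⟨x, hx, hx0⟩ := hne
  refine hx0 (mid_nondeg hd (hP x hx) fun y hy => ?_)
  have h := hc (x + y) (add_mem hx hy)
  rw [map_add, frm_add_left, frm_add_right, frm_add_right, hc x hx, hc y hy, frm_comm hd.sym (P y) (P x), hPP x hx y hy,
    zero_add, add_zero, ← two_mul] at h
  exact (mul_eq_zero.1 h).resolve_left hd.sym.two

/-- an anisotropic middle vector -/
theorem exists_aniso : ∃ f ∈ mid F a b, frm J f f ≠ 0 := by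
  obtain ⟨x, hx, h⟩ := exists_aniso_proj hd LinearMap.id (fun x hx => hx) (fun _ _ _ _ => rfl) (by
    by_contra hc
    push Not at hc
    have h0 : mid F a b = ⊥ := (Submodule.eq_bot_iff _).2 hc
    have h1 := finrank_mid hd
    have := hd.hk
    rw [h0, finrank_bot] at h1
    omega)
  exact ⟨x, hx, h⟩

/-- an anisotropic middle vector orthogonal to a given one -/
theorem exists_perp1 (h4 : 4 ≤ k) {f : Fin k → F} (hf : f ∈ mid F a b) (hσ : frm J f f ≠ 0) :
    ∃ g ∈ mid F a b, frm J g f = 0 ∧ frm J g g ≠ 0 := by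
  let P : (Fin k → F) →ₗ[F] (Fin k → F) :=
    { toFun := fun x => x - (frm J x f / frm J f f) • f
      map_add' := fun x y => by simp only [frm_add_left, add_div]; module
      map_smul' := fun c x => by simp only [frm_smul_left, RingHom.id_apply, mul_div_assoc]; module }
  have hPf : ∀ x, frm J (P x) f = 0 := fun x => by
    simp only [P, LinearMap.coe_mk, AddHom.coe_mk, frm_sub_left, frm_smul_left, div_mul_cancel₀ _ hσ, sub_self]
  obtain ⟨x, hx, h⟩ := exists_aniso_proj hd P (fun x hx => sub_mem hx (Submodule.smul_mem _ _ hf))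
    (fun x _ y _ => by
      conv_lhs => arg 3; simp only [P, LinearMap.coe_mk, AddHom.coe_mk]
      rw [frm_sub_right, frm_smul_right, hPf, mul_zero, sub_zero]) (by
    by_contra hc
    push Not at hc
    have hle : mid F a b ≤ Submodule.span F {f} := fun x hx => Submodule.mem_span_singleton.2 ⟨frm J x f / frm J f f, by
      have := hc x hx
      simp only [P, LinearMap.coe_mk, AddHom.coe_mk, sub_eq_zero] at this
      exact this.symm⟩
    have h1 := (Submodule.finrank_mono hle).trans (finrank_span_le_card ({f} : Set (Fin k → F)))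
    have := finrank_mid hd
    simp at h1
    omega)
  exact ⟨P x, sub_mem hx (Submodule.smul_mem _ _ hf), hPf x, h⟩

/-- an anisotropic middle vector orthogonal to two given ones -/
theorem exists_perp2 (h5 : 5 ≤ k) {f g : Fin k → F} (hf : f ∈ mid F a b) (hσ : frm J f f ≠ 0)
    (hg : g ∈ mid F a b) (hρ : frm J g g ≠ 0) (hfg : frm J g f = 0) :
    ∃ h ∈ mid F a b, frm J h f = 0 ∧ frm J h g = 0 ∧ frm J h h ≠ 0 := by
  let P : (Fin k → F) →ₗ[F] (Fin k → F) :=
    { toFun := fun x => x - (frm J x f / frm J f f) • f - (frm J x g / frm J g g) • g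
      map_add' := fun x y => by simp only [frm_add_left, add_div]; module
      map_smul' := fun c x => by simp only [frm_smul_left, RingHom.id_apply, mul_div_assoc]; module }
  have hPf : ∀ x, frm J (P x) f = 0 ∧ frm J (P x) g = 0 := fun x => by
    constructor <;>
    simp only [P, LinearMap.coe_mk, AddHom.coe_mk, frm_sub_left, frm_smul_left, div_mul_cancel₀ _ hσ,
      div_mul_cancel₀ _ hρ, hfg, frm_comm hd.sym f g, mul_zero, sub_zero, sub_self]
  have hPm : ∀ x ∈ mid F a b, P x ∈ mid F a b := fun x hx =>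
    sub_mem (sub_mem hx (Submodule.smul_mem _ _ hf)) (Submodule.smul_mem _ _ hg)
  obtain ⟨x, hx, h⟩ := exists_aniso_proj hd P hPm
    (fun x _ y _ => by
      conv_lhs => arg 3; simp only [P, LinearMap.coe_mk, AddHom.coe_mk]
      rw [frm_sub_right, frm_sub_right, frm_smul_right, frm_smul_right, (hPf x).1, (hPf x).2, mul_zero, mul_zero,
        sub_zero, sub_zero]) (by
    by_contra hc
    push Not at hc
    have hle : mid F a b ≤ Submodule.span F {f, g} := fun x hx => Submodule.mem_span_pair.2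
      ⟨frm J x f / frm J f f, frm J x g / frm J g g, by
      have := hc x hx
      simp only [P, LinearMap.coe_mk, AddHom.coe_mk, sub_sub, sub_eq_zero] at this
      exact this.symm⟩
    classical
    have h1 := (Submodule.finrank_mono hle).trans (finrank_span_le_card ({f, g} : Set (Fin k → F)))
    have := finrank_mid hd
    have h2 : ({f, g} : Set (Fin k → F)).toFinset.card ≤ 2 := by
      rw [Set.toFinset_insert, Set.toFinset_singleton]
      exact Finset.card_le_two
    omega)
  exact ⟨P x, hPm x hx, (hPf x).1, (hPf x).2, h⟩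

/-- the anisotropic middle vectors span -/
theorem aniso_span {T : Submodule F (Fin k → F)} (hT : ∀ f ∈ mid F a b, frm J f f ≠ 0 → f ∈ T) :
    mid F a b ≤ T := by
  intro w hw
  by_cases hσ : frm J w w = 0
  swap
  · exact hT w hw hσ
  obtain ⟨f, hf, hf0⟩ := exists_aniso hd
  by_cases h : frm J (f + w) (f + w) = 0
  · by_cases h' : frm J (f - w) (f - w) = 0
    · exfalso
      simp only [frm_add_left, frm_add_right, frm_sub_left, frm_sub_right, hσ, frm_comm hd.sym w f] at h h'
      exact mul_ne_zero hd.sym.two hf0 (by linear_combination h + h')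
    · have := sub_mem (hT f hf hf0) (hT _ (sub_mem hf hw) h')
      simpa using this
  · have := sub_mem (hT _ (add_mem hf hw) h) (hT f hf hf0)
    simpa using this

/-- vectors not orthogonal to a given one detect the middle -/
theorem exists_aniso_pairing {w : Fin k → F} (hw : w ∈ mid F a b) (h0 : w ≠ 0) :
    ∃ f ∈ mid F a b, frm J f f ≠ 0 ∧ frm J w f ≠ 0 := by
  by_contra hc
  push Not at hc
  refine h0 (mid_nondeg hd hw fun y hy => ?_)
  exact aniso_span hd (T := LinearMap.ker (Matrix.toLinearMap₂' F J w))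
    (fun f hf hne => LinearMap.mem_ker.2 (by rw [Matrix.toLinearMap₂'_apply']; exact hc f hf hne)) hy |>
      fun h => by rw [LinearMap.mem_ker, Matrix.toLinearMap₂'_apply'] at h; exact h

section Fin
variable [Fintype F]

/-- a plane represents all values -/
theorem exists_value_plane {ρ τ : F} (hρ : ρ ≠ 0) (hτ : τ ≠ 0) (v : F) : ∃ α γ : F, ρ * α ^ 2 + τ * γ ^ 2 = v := by
  open Polynomial in
  obtain ⟨α, γ, h⟩ := FiniteField.exists_root_sum_quadratic (f := C ρ * X ^ 2) (g := C τ * X ^ 2 - C v)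
    (degree_C_mul_X_pow 2 hρ) (by
      rw [degree_sub_eq_left_of_degree_lt, degree_C_mul_X_pow 2 hτ]
      · rfl
      · rw [degree_C_mul_X_pow 2 hτ]
        exact lt_of_le_of_lt (degree_C_le (a := v)) (show (0 : WithBot ℕ) < ((2 : ℕ) : WithBot ℕ) from WithBot.coe_lt_coe.2 two_pos))
    (FiniteField.odd_card_of_char_ne_two fun h => hd.sym.two (by
      have : CharP F 2 := h ▸ ringChar.charP F
      exact CharTwo.two_eq_zero))
  simp only [Polynomial.eval_mul, Polynomial.eval_C, Polynomial.eval_pow, Polynomial.eval_X, Polynomial.eval_sub] at h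
  exact ⟨α, γ, by linear_combination h⟩

/-- a middle vector of given value orthogonal to a given one -/
theorem exists_perp_value (h5 : 5 ≤ k) {f : Fin k → F} (hf : f ∈ mid F a b) (hσ : frm J f f ≠ 0) (v : F) :
    ∃ g ∈ mid F a b, frm J g f = 0 ∧ frm J g g = v := by
  obtain ⟨g, hg, hgf, hρ⟩ := exists_perp1 hd (by omega) hf hσ
  obtain ⟨h, hh, hhf, hhg, hτ⟩ := exists_perp2 hd h5 hf hσ hg hρ hgf
  obtain ⟨α, γ, e⟩ := exists_value_plane hd hρ hτ v
  refine ⟨α • g + γ • h, add_mem (Submodule.smul_mem _ _ hg) (Submodule.smul_mem _ _ hh), ?_, ?_⟩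
  · rw [frm_add_left, frm_smul_left, frm_smul_left, hgf, hhf, mul_zero, mul_zero, add_zero]
  · simp only [frm_add_left, frm_add_right, frm_smul_left, frm_smul_right, hhg, frm_comm hd.sym g h]
    linear_combination e

/-- an anisotropic plane in the middle -/
theorem exists_plane (h4 : 4 ≤ k) :
    ∃ f ∈ mid F a b, ∃ g ∈ mid F a b, frm J g f = 0 ∧ frm J f f ≠ 0 ∧ frm J g g ≠ 0 ∧
      ∀ r : F, frm J f f + frm J g g * r ^ 2 ≠ 0 := by
  obtain ⟨f, hf, hσ⟩ := exists_aniso hd
  rcases (show k = 4 ∨ 5 ≤ k by omega) with h | h5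
  · obtain ⟨g, hg, hgf, hρ⟩ := exists_perp1 hd h4 hf hσ
    refine ⟨f, hf, g, hg, hgf, hσ, hρ, fun r hr => ?_⟩
    have hu := hd.minus h (f + r • g) (by simp [(mem_mid.1 hf).1, (mem_mid.1 hg).1])
      (by simp [(mem_mid.1 hf).2, (mem_mid.1 hg).2]) (by
        simp only [frm_add_left, frm_add_right, frm_smul_left, frm_smul_right, hgf, frm_comm hd.sym f g]
        linear_combination hr)
    have := congrArg (fun x => frm J x f) hu
    simp only [frm_add_left, frm_smul_left, hgf, mul_zero, add_zero, frm_zero_left] at this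
    exact hσ this
  · obtain ⟨ν, hν⟩ := FiniteField.exists_nonsquare (F := F) fun h => hd.sym.two (by
      have : CharP F 2 := h ▸ ringChar.charP F
      exact CharTwo.two_eq_zero)
    have hν0 : ν ≠ 0 := fun h => hν (h ▸ ⟨0, by simp⟩)
    obtain ⟨g, hg, hgf, hρ⟩ := exists_perp_value hd h5 hf hσ (-ν / frm J f f)
    refine ⟨f, hf, g, hg, hgf, hσ, by rw [hρ]; exact div_ne_zero (neg_ne_zero.2 hν0) hσ, fun r hr => ?_⟩
    rw [hρ] at hr
    field_simp at hr
    have hr0 : r ≠ 0 := fun h => by rw [h] at hr; exact mul_ne_zero hσ hσ (by linear_combination hr)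
    exact hν ⟨frm J f f / r, by field_simp; linear_combination -hr⟩

end Fin

/-- singular vectors off the orthogonal of `a` span -/
theorem span_iso_off {T : Submodule F (Fin k → F)}
    (hT : ∀ u ∈ mid F a b, Pi.single b 1 + u - ((2 : F)⁻¹ * frm J u u) • Pi.single a 1 ∈ T) : T = ⊤ := by
  have hB : Pi.single b 1 ∈ T := by simpa [frm_zero_left] using hT 0 (zero_mem _)
  have hu : ∀ u ∈ mid F a b, u ∈ T ∧ frm J u u • Pi.single a 1 ∈ T := fun u hu => by
    have h1 := hT u hu
    have h2 := hT (-u) (neg_mem hu)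
    rw [frm_neg_left, frm_neg_right, neg_neg] at h2
    have h2' := hd.sym.two
    refine ⟨?_, ?_⟩
    · have := T.smul_mem (2 : F)⁻¹ (T.sub_mem h1 h2)
      convert this using 1
      match_scalars <;> field_simp <;> ring
    · have := T.sub_mem (T.add_mem hB hB) (T.add_mem h1 h2)
      convert this using 1
      match_scalars <;> field_simp <;> ring
  obtain ⟨f, hf, hσ⟩ := exists_aniso hd
  have hA : Pi.single a 1 ∈ T := (Submodule.smul_mem_iff _ hσ).1 (hu f hf).2
  refine eq_top_iff.2 fun x _ => ?_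
  have := T.add_mem (T.add_mem (hu _ (sub_pair_mem hd x)).1 (T.smul_mem (x a) hA)) (T.smul_mem (x b) hB)
  convert this using 1
  abel

/-! ### elements of the slot group -/

theorem sga_aux {u : Fin k → F} (hu : u ∈ mid F a b) :
    frm J (Pi.single a 1) (Pi.single a 1) = 0 ∧ frm J (Pi.single a 1) u = 0 := ⟨frm_aa hd, frm_au hd hu⟩

/-- exchanging the pair, reversing one middle vector -/
theorem exists_flip {f : Fin k → F} (hf : f ∈ mid F a b) (hσ : frm J f f ≠ 0) :
    ∃ x ∈ Sl hd.sym, x.val *ᵥ Pi.single a 1 = (-2 / frm J f f) • Pi.single b 1 ∧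
      x.val *ᵥ Pi.single b 1 = (-frm J f f / 2) • Pi.single a 1 ∧
      ∀ m ∈ mid F a b, x.val *ᵥ m = m - (2 * frm J f m / frm J f f) • f := by
  have h2 := hd.sym.two
  obtain ⟨v, hv⟩ : ∃ v, v = (2 / frm J f f) • f := ⟨_, rfl⟩
  have hvm : v ∈ mid F a b := hv ▸ Submodule.smul_mem _ _ hf
  refine ⟨sg hd.sym _ f (frm_aa hd) (frm_au hd hf) * sg hd.sym _ v (frm_bb hd) (frm_bu hd hvm) *
    sg hd.sym _ f (frm_aa hd) (frm_au hd hf),
    mul_mem (mul_mem (sg_mem_Sl _ _ _) (sg_mem_Sl _ _ _)) (sg_mem_Sl _ _ _), ?_, ?_, fun m hm => ?_⟩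
  all_goals
    subst hv
    simp only [Units.val_mul, ← mulVec_mulVec, sg_mulVec, mulVec_add, mulVec_sub, mulVec_smul, frm_add_right,
      frm_sub_right, frm_smul_right, frm_smul_left, frm_aa hd, frm_bb hd, frm_ab hd, frm_ba hd, frm_au hd hf,
      frm_bu hd hf, frm_ua hd hf, frm_ub hd hf]
    try simp only [frm_au hd hm, frm_bu hd hm, frm_ua hd hm, frm_ub hd hm]
    match_scalars <;> field_simp <;> ring

/-- the reflection of the middle -/
def refl (J : Matrix (Fin k) (Fin k) F) (f m : Fin k → F) : Fin k → F := m - (2 * frm J f m / frm J f f) • f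

/-- elements fixing both lines of the pair -/
theorem exists_levi {f g : Fin k → F} (hf : f ∈ mid F a b) (hσ : frm J f f ≠ 0) (hg : g ∈ mid F a b)
    (hρ : frm J g g ≠ 0) :
    ∃ x ∈ Sl hd.sym, x.val *ᵥ Pi.single a 1 = (frm J f f / frm J g g) • Pi.single a 1 ∧
      x.val *ᵥ Pi.single b 1 = (frm J g g / frm J f f) • Pi.single b 1 ∧
      ∀ m ∈ mid F a b, x.val *ᵥ m = refl J f (refl J g m) := by
  have h2 := hd.sym.two
  obtain ⟨x, hx, xa, xb, xm⟩ := exists_flip hd hf hσ
  obtain ⟨y, hy, ya, yb, ym⟩ := exists_flip hd hg hρ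
  refine ⟨x * y, mul_mem hx hy, ?_, ?_, fun m hm => ?_⟩
  · rw [Units.val_mul, ← mulVec_mulVec, ya, mulVec_smul, xb, smul_smul]; congr 1; field_simp
  · rw [Units.val_mul, ← mulVec_mulVec, yb, mulVec_smul, xa, smul_smul]; congr 1; field_simp
  · rw [Units.val_mul, ← mulVec_mulVec, ym m hm, xm _ (sub_mem hm (Submodule.smul_mem _ _ hg))]; rfl

/-- torus elements with square parameter -/
theorem exists_torus {l : F} (hl : l ≠ 0) :
    ∃ x ∈ Sl hd.sym, x.val *ᵥ Pi.single a 1 = (l * l) • Pi.single a 1 ∧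
      x.val *ᵥ Pi.single b 1 = (l * l)⁻¹ • Pi.single b 1 ∧ ∀ m ∈ mid F a b, x.val *ᵥ m = m := by
  have h2 := hd.sym.two
  obtain ⟨f, hf, hσ⟩ := exists_aniso hd
  have hρ : frm J (l⁻¹ • f) (l⁻¹ • f) ≠ 0 := by
    rw [frm_smul_left, frm_smul_right]; exact mul_ne_zero (inv_ne_zero hl) (mul_ne_zero (inv_ne_zero hl) hσ)
  obtain ⟨x, hx, xa, xb, xm⟩ := exists_levi hd hf hσ (Submodule.smul_mem _ l⁻¹ hf) hρ
  refine ⟨x, hx, ?_, ?_, fun m hm => ?_⟩
  · rw [xa]; congr 1; rw [frm_smul_left, frm_smul_right]; field_simp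
  · rw [xb]; congr 1; rw [frm_smul_left, frm_smul_right]; field_simp
  · rw [xm m hm, refl, refl, frm_sub_right, frm_smul_right, frm_smul_right, frm_smul_left, frm_smul_left,
      frm_smul_right]
    match_scalars <;> field_simp <;> ring

theorem eich_eq {u w : Fin k → F} (hu : qf J u = 0) (huw : QuadraticMap.polar (qf J) u w = 0) :
    (Classical.Orth.eich u w hu huw : GL (Fin k) F) ∈ Sl hd.sym := by
  have he : frm J u u = 0 := by
    rw [qf_apply] at hu; exact (mul_eq_zero.1 hu).resolve_left (inv_ne_zero hd.sym.two)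
  have hw : frm J u w = 0 := by rw [← polar_qf hd.sym]; exact huw
  have e : (Classical.Orth.eich u w hu huw : GL (Fin k) F) = sg hd.sym u w he hw := by
    refine Units.ext (Matrix.ext_of_mulVec_single fun i => ?_)
    rw [← Forms.Reflections.act_apply, Classical.Orth.act_eich, sg_mulVec, polar_qf hd.sym, polar_qf hd.sym, qf_apply,
      frm_comm hd.sym _ u, frm_comm hd.sym _ w]
  rw [e]
  exact sg_mem_Sl _ _ _

/-- singular lines are permuted transitively -/
theorem exists_moveS [Fintype F] {e : Fin k → F} (he : e ≠ 0) (hQ : frm J e e = 0) :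
    ∃ x ∈ Sl hd.sym, ∃ c : F, c ≠ 0 ∧ x.val *ᵥ e = c • Pi.single a 1 := by
  obtain ⟨g, hg, c, hc, hgc⟩ := Forms.Max.OrthOrth.exists_move (qf_nd hd.sym) hd.hk he
    (by rw [qf_apply, hQ, mul_zero]) (e := Pi.single a 1) (by simp) (by rw [qf_apply, frm_aa hd, mul_zero])
  refine ⟨(g : GL (Fin k) F), ?_, c, hc, by rw [← Forms.Reflections.act_apply]; exact hgc⟩
  have hle : Classical.Orth.eGroup (qf J) ⊤ ≤ (Sl hd.sym).comap (Cfsg.isometryGroup F ⇑(qf J)).subtype :=
    (Subgroup.closure_le _).2 (by rintro _ ⟨u, w, hu, huw, -, -, rfl⟩; exact eich_eq hd hu huw)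
  exact hle hg

omit hd

/-- a reflection -/
def rfl' (hS : Sym J) (f : Fin k → F) (hσ : frm J f f ≠ 0) : GL (Fin k) F where
  val := 1 - (2 / frm J f f) • op J f f
  inv := 1 - (2 / frm J f f) • op J f f
  val_inv := by
    simp only [sub_mul, mul_sub, one_mul, mul_one, smul_mul_assoc, mul_smul_comm, op_mul hS]
    match_scalars <;> field_simp <;> ring
  inv_val := by
    simp only [sub_mul, mul_sub, one_mul, mul_one, smul_mul_assoc, mul_smul_comm, op_mul hS]
    match_scalars <;> field_simp <;> ring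

theorem rfl'_mulVec (hS : Sym J) (f : Fin k → F) (hσ : frm J f f ≠ 0) (x : Fin k → F) :
    (rfl' hS f hσ).val *ᵥ x = refl J f x := by
  show (1 - (2 / frm J f f) • op J f f) *ᵥ x = _
  rw [sub_mulVec, one_mulVec, smul_mulVec, op_mulVec hS, smul_smul, refl]
  congr 2; field_simp

theorem rfl'_iso (hS : Sym J) (f : Fin k → F) (hσ : frm J f f ≠ 0) : rfl' hS f hσ ∈ Iso J := by
  refine mem_Iso_frm.2 fun x y => ?_
  simp only [rfl'_mulVec, refl, frm_sub_left, frm_sub_right, frm_smul_left, frm_smul_right, frm_comm hS x f]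
  field_simp
  ring

end Cfsg.Agent.TensorWreath.Or
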