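import Cfsg.Agent.Lib.Forms.Max.TensorWreath.Orth.Setting

/-!
# Isometries preserving the sum of the skew operators of the slots

The slot summands are the minimal ideals of the sum for the commutator product, hence permuted, and
the skew operators of one slot generate all operators of that slot.
-/

set_option autoImplicit false
set_option linter.unusedSectionVars false

namespace Cfsg.Agent.TensorWreath.Or

open Matrix Cfsg.Agent.Aschbacher

section Gen
variable {F : Type*} [Field F] {ι : Type} [Fintype ι] [DecidableEq ι] {J : Matrix ι ι F}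

theorem mul_op (X : Matrix ι ι F) (x y : ι → F) : X * op J x y = op J (X *ᵥ x) y := mul_vecMulVec ..

theorem op_mul_skew (hS : Sym J) {X : Matrix ι ι F} (hX : X ∈ skew J) (x y : ι → F) :
    op J x y * X = -op J x (X *ᵥ y) := by
  refine Matrix.ext_of_mulVec_single fun i => ?_
  rw [← mulVec_mulVec, op_mulVec hS, neg_mulVec, op_mulVec hS, ← neg_smul, (mem_skew_frm hS).1 hX y]

theorem skew_bracket (hS : Sym J) {X Y : Matrix ι ι F} (hX : X ∈ skew J) (hY : Y ∈ skew J) :
    X * Y - Y * X ∈ skew J := by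
  refine (mem_skew_frm hS).2 fun x y => ?_
  have h := (mem_skew_frm hS).1 hX
  have h' := (mem_skew_frm hS).1 hY
  simp only [sub_mulVec, ← mulVec_mulVec, frm_sub_left, frm_sub_right]
  rw [h, h' (X *ᵥ x), h' x, h (Y *ᵥ x)]
  ring

/-- conjugation by a Siegel element is quadratic on the skew operators -/
theorem conj_sg_skew (hS : Sym J) {e u : ι → F} (he : frm J e e = 0) (hu : frm J e u = 0)
    {X : Matrix ι ι F} (hX : X ∈ skew J) :
    conjMat (sg hS e u he hu) X = X + (Qm J u e * X - X * Qm J u e) +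
      (2 : F)⁻¹ • (Qm J u e * (Qm J u e * X - X * Qm J u e) - (Qm J u e * X - X * Qm J u e) * Qm J u e) := by
  have h2 := hS.two
  have hu' : frm J u e = 0 := by rw [frm_comm hS, hu]
  have hN : Qm J u e * Qm J u e = (-frm J u u) • op J e e := by
    simp [Qm, sub_mul, mul_sub, op_mul hS, he, hu, hu']
  have hXe : frm J e (X *ᵥ e) = 0 := by
    have h := (mem_skew_frm hS).1 hX e e
    rw [frm_comm hS (X *ᵥ e) e, eq_neg_iff_add_eq_zero, ← two_mul] at h
    exact (mul_eq_zero.1 h).resolve_left h2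
  have h4 : op J e e * X * op J e e = 0 := by rw [op_sandwich hS, hXe, zero_smul]
  have h3 : Qm J u e * X * op J e e = op J e e * X * Qm J u e := by
    rw [mul_assoc, mul_op, mul_op, op_mul_skew hS hX, neg_mul, Qm, mul_sub, op_mul hS, op_mul hS,
      sub_mulVec, op_mulVec hS, op_mulVec hS, hXe, zero_smul, zero_sub, op_neg_left, op_smul_left,
      frm_comm hS (X *ᵥ e) e, hXe, zero_smul, sub_eq_add_neg, neg_add, neg_neg, frm_comm hS u]
    simp
  rw [conjMat_apply, sg_inv, sg_coe, sg_coe]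
  have hm : sgN J e (-u) = -Qm J u e - ((2 : F)⁻¹ * frm J u u) • op J e e := by
    simp only [sgN, Qm, frm_neg_left, frm_neg_right, neg_neg, op_neg_left, op_neg_right]
    module
  rw [hm, sgN]
  simp only [add_mul, mul_add, one_mul, mul_one, sub_mul, mul_sub, neg_mul, mul_neg, smul_mul_assoc,
    mul_smul_comm, smul_sub, smul_neg, ← mul_assoc, hN, smul_mul_assoc]
  rw [mul_assoc X (Qm J u e) (Qm J u e), hN, mul_smul_comm, h3, h4]
  match_scalars <;> field_simp <;> ring

end Gen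

variable {F : Type*} [Field F] {k t : ℕ} {J : Matrix (Fin k) (Fin k) F} {a b : Fin k}

/-- the sum of the skew operators of the slots -/
def Lsk (t : ℕ) (J : Matrix (Fin k) (Fin k) F) : Submodule F (Matrix (Fin t → Fin k) (Fin t → Fin k) F) :=
  ⨆ j : Fin t, (skew J).map (S j).toLinearMap

theorem S_mem_Lsk (j : Fin t) {X : Matrix (Fin k) (Fin k) F} (hX : X ∈ skew J) : S j X ∈ Lsk t J :=
  le_iSup (fun j : Fin t => (skew J).map (S j).toLinearMap) j ⟨X, hX, rfl⟩

variable (hd : Hyp J a b)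
include hd

theorem bracket_slot (j : Fin t) {X : Matrix (Fin k) (Fin k) F} (hX : X ∈ skew J)
    {y : Matrix (Fin t → Fin k) (Fin t → Fin k) F} (hy : y ∈ Lsk t J) :
    ∃ Z ∈ skew J, S j X * y - y * S j X = S j Z := by
  refine Submodule.iSup_induction (fun j : Fin t => (skew J).map (S j).toLinearMap)
    (motive := fun y => ∃ Z ∈ skew J, S j X * y - y * S j X = S j Z) hy ?_ ?_ ?_
  · rintro i _ ⟨Y, hY, rfl⟩
    show ∃ Z ∈ skew J, S j X * S i Y - S i Y * S j X = S j Z
    rcases eq_or_ne i j with rfl | hij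
    · exact ⟨X * Y - Y * X, skew_bracket hd.sym hX hY, by rw [map_sub, map_mul, map_mul]⟩
    · exact ⟨0, zero_mem _, by rw [S_comm hij.symm, sub_self, map_zero]⟩
  · exact ⟨0, zero_mem _, by rw [mul_zero, zero_mul, sub_self, map_zero]⟩
  · rintro y y' ⟨Z, hZ, e⟩ ⟨Z', hZ', e'⟩
    exact ⟨Z + Z', add_mem hZ hZ', by rw [map_add, ← e, ← e', mul_add, add_mul]; abel⟩

theorem skew_nonabelian : ∃ X ∈ skew J, ∃ Y ∈ skew J, X * Y - Y * X ≠ 0 := by
  obtain ⟨f, hf, hσ⟩ := exists_aniso hd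
  refine ⟨Qm J (Pi.single a 1) (Pi.single b 1), Qm_skew hd.sym _ _, Qm J (Pi.single a 1) f, Qm_skew hd.sym _ _,
    fun h => hσ ?_⟩
  have := congrArg (fun M => frm J f (M *ᵥ Pi.single b 1)) h
  simpa [sub_mulVec, ← mulVec_mulVec, Qm_mulVec hd.sym, frm_aa hd, frm_bb hd, frm_ab hd, frm_ba hd, frm_au hd hf,
    frm_bu hd hf, frm_ua hd hf, frm_ub hd hf, mulVec_sub, mulVec_neg, mulVec_smul, frm_sub_right, frm_neg_right,
    frm_smul_right, frm_zero_right, -mulVec_single] using this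

variable [Fintype F]

/-- the skew operators form a simple algebra for the commutator -/
theorem skew_simple {U : Submodule F (Matrix (Fin k) (Fin k) F)} (hle : U ≤ skew J) (hne : U ≠ ⊥)
    (hU : ∀ X ∈ U, ∀ Y ∈ skew J, X * Y - Y * X ∈ U) : skew J ≤ U := by
  refine skew_top hd (fun x hx => ?_) hle hne
  induction hx using Subgroup.closure_induction'' with
  | mem x hx =>
    obtain ⟨e, u, he, hu, rfl⟩ := hx
    intro X hX
    rw [conj_sg_skew hd.sym he hu (hle hX)]
    have h1 : Qm J u e * X - X * Qm J u e ∈ U := by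
      rw [← neg_sub]; exact U.neg_mem (hU X hX _ (Qm_skew hd.sym u e))
    refine U.add_mem (U.add_mem hX h1) (U.smul_mem _ ?_)
    rw [← neg_sub]; exact U.neg_mem (hU _ h1 _ (Qm_skew hd.sym u e))
  | inv_mem x hx =>
    obtain ⟨e, u, he, hu, rfl⟩ := hx
    intro X hX
    rw [sg_inv, conj_sg_skew hd.sym he (by rw [frm_neg_right, hu, neg_zero]) (hle hX)]
    have h1 : Qm J (-u) e * X - X * Qm J (-u) e ∈ U := by
      rw [← neg_sub]; exact U.neg_mem (hU X hX _ (Qm_skew hd.sym _ e))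
    refine U.add_mem (U.add_mem hX h1) (U.smul_mem _ ?_)
    rw [← neg_sub]; exact U.neg_mem (hU _ h1 _ (Qm_skew hd.sym _ e))
  | one => intro X hX; simpa [conjMat_apply] using hX
  | mul x y _ _ hx hy => intro X hX; rw [conjMat_mul]; exact hx _ (hy X hX)

/-- the skew operators generate all operators -/
theorem skew_generates {A : Subalgebra F (Matrix (Fin k) (Fin k) F)} (hA : ∀ X ∈ skew J, X ∈ A)
    (M : Matrix (Fin k) (Fin k) F) : M ∈ A := by
  obtain ⟨f, hf, hσ⟩ := exists_aniso hd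
  have hQ : ∀ x y, Qm J x y ∈ A := fun x y => hA _ (Qm_skew hd.sym x y)
  have hE : EA J a ∈ A := by
    have h := A.smul_mem (A.mul_mem (hQ f (Pi.single a 1)) (hQ f (Pi.single a 1))) (-frm J f f)⁻¹
    rwa [(NE_zero hd hf).2.2.2, inv_smul_smul₀ (neg_ne_zero.2 hσ)] at h
  have hab : op J (Pi.single a 1) (Pi.single b 1) ∈ A := by
    have h := A.smul_mem (A.mul_mem (A.mul_mem hE (hQ (Pi.single b 1) f)) (hQ f (Pi.single b 1))) (frm J f f)⁻¹
    simpa [EA, Qm, sub_mul, mul_sub, op_mul hd.sym, frm_aa hd, frm_ab hd, frm_au hd hf, frm_ub hd hf,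
      smul_smul, inv_mul_cancel₀ hσ] using h
  have hax : ∀ x, op J (Pi.single a 1) x ∈ A := fun x => by
    have h := A.add_mem (A.mul_mem hE (hQ (Pi.single b 1) x)) (A.smul_mem hab (frm J (Pi.single a 1) x))
    simpa [EA, Qm, mul_sub, op_mul hd.sym, frm_ab hd] using h
  have hxa : ∀ x, op J x (Pi.single a 1) ∈ A := fun x => by
    have h := A.add_mem (hQ x (Pi.single a 1)) (hax x)
    simpa [Qm] using h
  have hxb : ∀ x, op J x (Pi.single b 1) ∈ A := fun x => by
    have hxf : op J x f ∈ A := by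
      have h := A.mul_mem (hxa x) (hQ (Pi.single b 1) f)
      simpa [Qm, mul_sub, op_mul hd.sym, frm_ab hd, frm_au hd hf] using h
    have h := A.smul_mem (A.mul_mem hxf (hQ f (Pi.single b 1))) (frm J f f)⁻¹
    simpa [Qm, mul_sub, op_mul hd.sym, frm_ub hd hf, smul_smul, inv_mul_cancel₀ hσ] using h
  have hxy : ∀ x y, op J x y ∈ A := fun x y => by
    have h := A.add_mem (A.mul_mem (hxa x) (hQ (Pi.single b 1) y)) (A.smul_mem (hxb x) (frm J (Pi.single a 1) y))
    simpa [Qm, mul_sub, op_mul hd.sym, frm_ab hd] using h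
  obtain ⟨U, hU⟩ := hd.sym.unit
  induction M using Matrix.induction_on' with
  | h_zero => exact zero_mem _
  | h_add p q hp hq => exact add_mem hp hq
  | h_std_basis i j c =>
    rw [show Matrix.single i j c = c • op J (Pi.single i 1) ((U⁻¹).val *ᵥ Pi.single j 1) by
      rw [op, ← hU, cancelV', ← single_eq_single_vecMulVec_single, Matrix.smul_single, smul_eq_mul, mul_one]]
    exact A.smul_mem (hxy _ _) c

/-- elements mapping the skew operators of the slots into their sum are wreath elements -/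
theorem mem_of_Lsk (ht : 0 < t) {g : GL (Fin t → Fin k) F}
    (h : ∀ j, ∀ X ∈ skew J, conjMat g (S j X) ∈ Lsk t J) : g ∈ Wr F k t := by
  classical
  have hk0 : 0 < k := by have := hd.hk; omega
  have : Nonempty (Fin t → Fin k) := ⟨fun _ => ⟨0, hk0⟩⟩
  have hSinj : ∀ j : Fin t, Function.Injective (S (F := F) (m := k) j) := fun j =>
    algHom_matrix_injective (S (F := F) (m := k) j)
  let φ : Matrix (Fin t → Fin k) (Fin t → Fin k) F →ₗ[F] Matrix (Fin t → Fin k) (Fin t → Fin k) F :=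
    (conjMat g).toLinearMap
  have hφinj : Function.Injective φ := (conjMat g).injective
  have hmul : ∀ x y, φ (x * y - y * x) = φ x * φ y - φ y * φ x := fun x y => by
    show conjMat g _ = conjMat g _ * conjMat g _ - conjMat g _ * conjMat g _
    rw [map_sub, map_mul, map_mul]
  have hle : (Lsk t J).map φ ≤ Lsk t J := by
    rw [Lsk, Submodule.map_iSup]
    refine iSup_le fun j => ?_
    rintro _ ⟨_, ⟨X, hX, rfl⟩, rfl⟩
    exact h j X hX
  have heq : (Lsk t J).map φ = Lsk t J :=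
    Submodule.eq_of_le_of_finrank_eq hle
      ((Submodule.equivMapOfInjective φ hφinj (Lsk t J)).finrank_eq.symm)
  -- each image contains a slot
  have hslot : ∀ j : Fin t, ∃ i : Fin t, ∀ Y ∈ skew J, ∃ X ∈ skew J, φ (S j X) = S i Y := by
    intro j
    obtain ⟨X₀, hX₀, Y₀, hY₀, hne⟩ := skew_nonabelian hd
    have hmeet : ∃ i, ∃ Y ∈ skew J, φ (S j X₀) * S i Y - S i Y * φ (S j X₀) ≠ 0 := by
      by_contra hc
      push Not at hc
      have hall : ∀ y ∈ Lsk t J, φ (S j X₀) * y - y * φ (S j X₀) = 0 := fun y hy => by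
        refine Submodule.iSup_induction (fun i : Fin t => (skew J).map (S i).toLinearMap)
          (motive := fun y => φ (S j X₀) * y - y * φ (S j X₀) = 0) hy ?_ ?_ ?_
        · rintro i _ ⟨Y, hY, rfl⟩; exact hc i Y hY
        · rw [mul_zero, zero_mul, sub_self]
        · intro y y' e e'; rw [mul_add, add_mul, add_sub_add_comm, e, e', add_zero]
      refine hne (hSinj j (hφinj ?_))
      rw [map_sub, map_mul, map_mul, hmul, map_zero, map_zero]
      exact hall _ (heq ▸ ⟨_, S_mem_Lsk j hY₀, rfl⟩)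
    obtain ⟨i, Y₁, hY₁, hne₁⟩ := hmeet
    refine ⟨i, ?_⟩
    let U : Submodule F (Matrix (Fin k) (Fin k) F) :=
      skew J ⊓ (((skew J).map (S j).toLinearMap).map φ).comap (S i).toLinearMap
    have hUmem : ∀ {Y}, Y ∈ U ↔ Y ∈ skew J ∧ ∃ X ∈ skew J, φ (S j X) = S i Y := fun {Y} => by
      refine Submodule.mem_inf.trans (and_congr_right fun _ => ?_)
      constructor
      · rintro ⟨_, ⟨X, hX, rfl⟩, e⟩; exact ⟨X, hX, e⟩
      · rintro ⟨X, hX, e⟩; exact ⟨_, ⟨X, hX, rfl⟩, e⟩
    have hstep : ∀ X ∈ skew J, ∀ Y ∈ skew J, ∃ X' ∈ skew J, φ (S j X) * S i Y - S i Y * φ (S j X) = φ (S j X') := by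
      intro X hX Y hY
      obtain ⟨y, hy, hyY⟩ : S i Y ∈ (Lsk t J).map φ := by rw [heq]; exact S_mem_Lsk i hY
      obtain ⟨Z, hZ, e⟩ := bracket_slot hd j hX hy
      exact ⟨Z, hZ, by rw [← hyY, ← hmul, e]⟩
    have hU : ∀ X ∈ U, ∀ Y ∈ skew J, X * Y - Y * X ∈ U := fun W hW Y hY => by
      obtain ⟨hWs, X, hX, e⟩ := hUmem.1 hW
      obtain ⟨X', hX', e'⟩ := hstep X hX Y hY
      exact hUmem.2 ⟨skew_bracket hd.sym hWs hY, X', hX', by rw [map_sub, map_mul, map_mul, ← e, e']⟩
    have hU0 : U ≠ ⊥ := fun e0 => by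
      obtain ⟨X', hX', e⟩ := hstep X₀ hX₀ Y₁ hY₁
      obtain ⟨Z, hZ, e'⟩ := bracket_slot hd i hY₁ (y := φ (S j X₀)) (heq ▸ ⟨_, S_mem_Lsk j hX₀, rfl⟩)
      have hmem : -Z ∈ U := hUmem.2 ⟨neg_mem hZ, X', hX', by rw [map_neg, ← e', neg_sub, e]⟩
      rw [e0, Submodule.mem_bot, neg_eq_zero] at hmem
      exact hne₁ (by rw [← neg_sub, e', hmem, map_zero, neg_zero])
    exact fun Y hY => (hUmem.1 (skew_simple hd inf_le_left hU0 hU hY)).2
  choose σ hσ using hslot
  have hσinj : Function.Injective σ := fun j l e => by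
    by_contra hjl
    obtain ⟨X, hX, Y, hY, hne⟩ := skew_nonabelian hd
    obtain ⟨X', -, ex⟩ := hσ j X hX
    obtain ⟨Y', -, ey⟩ := hσ l Y hY
    refine hne (hSinj (σ j) ?_)
    rw [map_sub, map_mul, map_mul, ← ex, e, ← ey, ← hmul, S_comm hjl, sub_self, map_zero, map_zero]
  refine mem_of_slots hk0 ht (Equiv.ofBijective σ hσinj.bijective_of_finite) fun j z => ?_
  have heq' : (skew J).map (S (σ j)).toLinearMap = ((skew J).map (S j).toLinearMap).map φ := by
    refine Submodule.eq_of_le_of_finrank_eq ?_ ?_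
    · rintro _ ⟨Y, hY, rfl⟩
      obtain ⟨X, hX, e⟩ := hσ j Y hY
      exact ⟨_, ⟨X, hX, rfl⟩, e⟩
    · rw [← (Submodule.equivMapOfInjective _ hφinj _).finrank_eq,
        ← (Submodule.equivMapOfInjective (S j).toLinearMap (hSinj j) _).finrank_eq,
        ← (Submodule.equivMapOfInjective (S (σ j)).toLinearMap (hSinj (σ j)) _).finrank_eq]
  let A : Subalgebra F (Matrix (Fin k) (Fin k) F) :=
    (S (σ j)).range.comap ((conjMat g).toAlgHom.comp (S j))
  have hA : ∀ X ∈ skew J, X ∈ A := fun X hX => by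
    obtain ⟨Y, -, e⟩ : φ (S j X) ∈ (skew J).map (S (σ j)).toLinearMap := by
      rw [heq']; exact ⟨_, ⟨X, hX, rfl⟩, rfl⟩
    exact ⟨Y, e⟩
  obtain ⟨y, hy⟩ := skew_generates hd hA z
  exact ⟨y, hy.symm⟩

end Cfsg.Agent.TensorWreath.Or
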