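import Cfsg.Agent.Lib.Forms.Max.TensorWreath.Orth.Setting

/-!
# Shaped elements and the corners of an overgroup
-/

set_option autoImplicit false
set_option linter.unusedSectionVars false
set_option linter.unusedSimpArgs false

namespace Cfsg.Agent.TensorWreath.Or

open Matrix Cfsg.Agent.Aschbacher

section Ring
variable {k : ℕ} {a b : Fin k} {R : Type*} [Ring R]

theorem shp_cases {X : Matrix (Fin k) (Fin k) R} (hX : Shp a b X) (x y : Fin k) :
    X x y = 0 ∨ (x = a ∧ y ≠ a) ∨ (y = b ∧ x ≠ b) := or_iff_not_imp_right.2 (hX x y)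

theorem shp_aa (hab : a ≠ b) {X : Matrix (Fin k) (Fin k) R} (hX : Shp a b X) : X a a = 0 ∧ X b b = 0 :=
  ⟨hX a a (by rintro (⟨-, h⟩ | ⟨h, -⟩); exacts [h rfl, hab h]),
    hX b b (by rintro (⟨h, -⟩ | ⟨-, h⟩); exacts [hab h.symm, h rfl])⟩

theorem shp_mul_one (hab : a ≠ b) {X Y : Matrix (Fin k) (Fin k) R} (hX : Shp a b X) (hY : Shp a b Y) :
    X * Y = Matrix.single a b ((X * Y) a b) := by
  ext x y
  rw [Matrix.single_apply]
  split_ifs with h
  · rw [h.1, h.2]
  rw [Matrix.mul_apply]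
  refine Finset.sum_eq_zero fun p _ => ?_
  rcases shp_cases hX x p with h1 | h1
  · rw [h1, zero_mul]
  rcases shp_cases hY p y with h2 | h2
  · rw [h2, mul_zero]
  exfalso
  rcases h1 with ⟨hx, hp⟩ | ⟨hp, hx⟩ <;> rcases h2 with ⟨hp', hy⟩ | ⟨hy, hp'⟩
  · exact hp hp'
  · exact h ⟨hx.symm, hy.symm⟩
  · exact hab (hp'.symm.trans hp)
  · exact hp' hp

theorem single_mul_shp (hab : a ≠ b) {V : Matrix (Fin k) (Fin k) R} (hV : Shp a b V) (m : R) :
    Matrix.single a b m * V = 0 := by
  ext x y : 1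
  rcases eq_or_ne x a with rfl | hx
  · rw [Matrix.single_mul_apply_same, hV b y, mul_zero, Matrix.zero_apply]
    rintro (⟨h, -⟩ | ⟨-, h⟩)
    exacts [hab h.symm, h rfl]
  · rw [Matrix.single_mul_apply_of_ne _ _ _ _ _ hx, Matrix.zero_apply]

theorem shp_single (hab : a ≠ b) (m : R) : Shp a b (Matrix.single a b m) := fun x y h => by
  rw [Matrix.single_apply, if_neg]
  rintro ⟨rfl, rfl⟩
  exact h (Or.inl ⟨rfl, hab.symm⟩)

theorem shp_add {X Y : Matrix (Fin k) (Fin k) R} (hX : Shp a b X) (hY : Shp a b Y) : Shp a b (X + Y) :=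
  fun x y h => by rw [Matrix.add_apply, hX x y h, hY x y h, add_zero]

theorem shp_neg {X : Matrix (Fin k) (Fin k) R} (hX : Shp a b X) : Shp a b (-X) :=
  fun x y h => by rw [Matrix.neg_apply, hX x y h, neg_zero]

/-- the commutator of two shaped unipotents -/
theorem shp_comm (hab : a ≠ b) {X Y : Matrix (Fin k) (Fin k) R} (hX : Shp a b X) (hY : Shp a b Y) :
    (1 + Matrix.single a b ((X * Y) a b - (Y * X) a b)) * ((1 + Y) * (1 + X)) = (1 + X) * (1 + Y) := by
  have h1 := shp_mul_one hab hX hY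
  have h2 := shp_mul_one hab hY hX
  set u := (X * Y) a b
  set v := (Y * X) a b
  rw [show Matrix.single a b (u - v) = Matrix.single a b u - Matrix.single a b v from
    map_sub (Matrix.singleAddMonoidHom a b) _ _]
  simp only [add_mul, sub_mul, mul_add, one_mul, mul_one, ← mul_assoc, single_mul_shp hab hY,
    single_mul_shp hab hX, zero_mul, add_zero, sub_zero, zero_add]
  rw [h1, h2]
  abel

/-- the inverse of a shaped unipotent -/
theorem shp_inv (hab : a ≠ b) {X : Matrix (Fin k) (Fin k) R} (hX : Shp a b X) :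
    (1 + X) * (1 + (-X + Matrix.single a b ((X * X) a b))) = 1 := by
  have h1 := shp_mul_one hab hX hX
  have h3 : X * Matrix.single a b ((X * X) a b) = 0 := by
    rw [← h1, ← mul_assoc, h1, single_mul_shp hab hX]
  set u := (X * X) a b
  simp only [add_mul, mul_add, one_mul, mul_one, mul_neg, h3, h1]
  abel

/-- products of shaped unipotents -/
theorem shp_prod (hab : a ≠ b) {X Y : Matrix (Fin k) (Fin k) R} (hX : Shp a b X) (hY : Shp a b Y) :
    (1 + X) * (1 + Y) = 1 + (X + Y + Matrix.single a b ((X * Y) a b)) := by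
  have h1 := shp_mul_one hab hX hY
  set u := (X * Y) a b
  simp only [add_mul, mul_add, one_mul, mul_one, h1]
  abel

end Ring

variable {F : Type*} [Field F] {k t : ℕ} {J : Matrix (Fin k) (Fin k) F} {a b : Fin k}

theorem blk_liftW_conj (v : GL (Fin t → Fin k) F) (M : Matrix (Fin (t + 1) → Fin k) (Fin (t + 1) → Fin k) F)
    (x y : Fin k) : blk (conjMat (liftW v) M) x y = conjMat v (blk M x y) := by
  rw [conjMat_apply, conjMat_apply, ← map_inv, liftW_coe, liftW_coe, map_mul, map_mul, blk_lift, blk_lift,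
    Matrix.mul_diagonal, Matrix.diagonal_mul]

theorem blk_sgl0 (s : GL (Fin k) F) (x y : Fin k) :
    blk (sgl (0 : Fin (t + 1)) s).val x y = s.val x y • 1 := by
  rw [sgl_coe, blk_S_zero, Matrix.map_apply, Algebra.algebraMap_eq_smul_one]

theorem blk_sgl0_sub (s : GL (Fin k) F) :
    blk (sgl (0 : Fin (t + 1)) s).val - 1 = (s.val - 1).map (algebraMap F _) := by
  rw [← blk_S_zero, map_sub, map_one, map_sub, map_one, sgl_coe]

variable (hd : Hyp J a b)
include hd

theorem J_entries {m : Fin k} (ha : m ≠ a) (hb : m ≠ b) : J m a = 0 ∧ J m b = 0 ∧ J a m = 0 ∧ J b m = 0 := by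
  have hsym : ∀ p q, J p q = J q p := fun p q => congrFun (congrFun hd.sym.symm q) p
  refine ⟨?_, ?_, ?_, ?_⟩
  · rw [hd.ja, if_neg hb]
  · rw [hd.jb, if_neg ha]
  · rw [hsym, hd.ja, if_neg hb]
  · rw [hsym, hd.jb, if_neg ha]

theorem Ju_mid {u : Fin k → F} (hu : u ∈ mid F a b) : (J *ᵥ u) a = 0 ∧ (J *ᵥ u) b = 0 := by
  rw [← single_dot, ← single_dot, frm_au hd hu, frm_bu hd hu]; exact ⟨rfl, rfl⟩

/-- the displacement of a Siegel element in coordinates -/
theorem sgN_apply {u : Fin k → F} (x y : Fin k) :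
    sgN J (Pi.single a 1) u x y = (if y = b then u x else 0) - (if x = a then (J *ᵥ u) y else 0) -
      (if x = a ∧ y = b then (2 : F)⁻¹ * frm J u u else 0) := by
  simp only [sgN, Qm, op, Matrix.sub_apply, Matrix.smul_apply, vecMulVec_apply, Ja hd, Pi.single_apply, smul_eq_mul]
  split_ifs <;> simp_all

theorem sgN_shp {u : Fin k → F} (hu : u ∈ mid F a b) : Shp a b (sgN J (Pi.single a 1) u) := by
  intro x y h
  push Not at h
  obtain ⟨hua, hub⟩ := mem_mid.1 hu
  rw [sgN_apply hd]
  by_cases hx : x = a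
  · have hy := h.1 hx
    simp [hx, hy, hd.hab, (Ju_mid hd hu).1]
  · by_cases hy : y = b
    · have hx' := h.2 hy
      simp [hx, hy, hx', hub, hd.hab.symm]
    · simp [hx, hy]

theorem sg_shp {u : Fin k → F} (hu : u ∈ mid F a b) :
    Shp a b (blk (sgl (0 : Fin (t + 1)) (sg hd.sym _ u (frm_aa hd) (frm_au hd hu))).val - 1) := by
  intro x y h
  rw [blk_sgl0_sub, sg_coe, add_sub_cancel_left, Matrix.map_apply, sgN_shp hd hu x y h, map_zero]

/-- the last column of a shaped isometry -/
theorem shp_rel {z : GL (Fin (t + 1) → Fin k) F} (hz : z ∈ Iso (gram (t + 1) J)) (hs : Shp a b (blk z.val - 1))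
    {m : Fin k} (ha : m ≠ a) (hb : m ≠ b) :
    ((blk z.val - 1) a m)ᵀ * gram t J + gram t J * ∑ q, J m q • (blk z.val - 1) q b = 0 := by
  classical
  set X := blk z.val - 1 with hX
  have hZ : blk z.val = 1 + X := by rw [hX]; abel
  obtain ⟨hma, hmb, ham, -⟩ := J_entries hd ha hb
  have hab : J a b = 1 := by rw [hd.jb, if_pos rfl]
  have h := iso_blk hz m b
  rw [hmb, zero_smul, Finset.sum_comm] at h
  rw [← h, hZ]
  have e1 : ∀ p, (1 + X : Matrix (Fin k) (Fin k) _) p m = (if p = m then 1 else 0) + if p = a then X a m else 0 := by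
    intro p
    rw [Matrix.add_apply, Matrix.one_apply]
    congr 1
    split_ifs with hp
    · rw [hp]
    · refine hs p m ?_
      rintro (⟨h', -⟩ | ⟨h', -⟩); exacts [hp h', hb h']
  have e2 : ∀ q, ∀ c : F, (q = b → c = 0) → c • (gram t J * (1 + X : Matrix (Fin k) (Fin k) _) q b) =
      c • (gram t J * X q b) := by
    intro q c hc
    rcases eq_or_ne q b with rfl | hq
    · rw [hc rfl, zero_smul, zero_smul]
    · rw [Matrix.add_apply, Matrix.one_apply_ne hq, zero_add]
  simp only [e1]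
  rw [Finset.sum_comm, Finset.sum_eq_add (a := a) (b := m) (Ne.symm ha)
    (fun p _ hp => Finset.sum_eq_zero fun q _ => by simp [hp.1, hp.2]) (by simp) (by simp)]
  congr 1
  · rw [Finset.sum_eq_single b (fun q _ hq => by rw [show J a q = 0 by
        rw [← congrFun (congrFun hd.sym.symm a) q, transpose_apply, hd.ja, if_neg hq], zero_smul]) (by simp),
      hab, one_smul, if_neg (Ne.symm ha), if_pos rfl, zero_add, Matrix.add_apply, Matrix.one_apply_eq,
      (shp_aa hd.hab hs).2, add_zero, mul_one]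
  · rw [Finset.mul_sum]
    refine Finset.sum_congr rfl fun q _ => ?_
    rw [if_pos rfl, if_neg ha, add_zero, transpose_one, one_mul, e2 q _ (fun h' => by rw [h', hmb]), mul_smul_comm]

theorem corner_blk {g : GL (Fin (t + 1) → Fin k) F} {B : Matrix (Fin t → Fin k) (Fin t → Fin k) F} :
    g.val = 1 + S 0 (EA J a) * lift B ↔ blk g.val = 1 + Matrix.single a b B := by
  have e : blk (S (0 : Fin (t + 1)) (EA J a) * lift B) = Matrix.single a b B := by
    ext x y : 1
    rw [blk_S0_lift, EA_eq hd, Matrix.single_apply, Matrix.single_apply, ite_smul, one_smul, zero_smul]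
  rw [← e, ← map_one (blk (F := F) (m := k) (t := t)), ← map_add]
  exact ((blk (F := F) (m := k) (t := t)).injective.eq_iff).symm

theorem corner_sq (B C : Matrix (Fin t → Fin k) (Fin t → Fin k) F) :
    S (0 : Fin (t + 1)) (EA J a) * lift B * (S 0 (EA J a) * lift C) = 0 := by
  rw [S0_lift_mul, show EA J a * EA J a = 0 by rw [EA, op_mul hd.sym, frm_aa hd, zero_smul], map_zero, zero_mul]

/-- corners of isometries are skew -/
theorem corner_skew {g : GL (Fin (t + 1) → Fin k) F} (hg : g ∈ Iso (gram (t + 1) J))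
    {B : Matrix (Fin t → Fin k) (Fin t → Fin k) F} (h : g.val = 1 + S 0 (EA J a) * lift B) :
    B ∈ skew (gram t J) := by
  classical
  have h' := (corner_blk hd).1 h
  have e := iso_blk hg b b
  rw [hd.jb, if_neg hd.hab.symm, zero_smul] at e
  have hp : ∀ p, p ≠ a → p ≠ b → blk g.val p b = 0 := fun p ha hb => by
    rw [h', Matrix.add_apply, Matrix.one_apply_ne hb, Matrix.single_apply, if_neg (fun h => ha h.1.symm), add_zero]
  have hA : blk g.val a b = B := by
    rw [h', Matrix.add_apply, Matrix.one_apply_ne hd.hab, Matrix.single_apply_same, zero_add]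
  have hB : blk g.val b b = 1 := by
    rw [h', Matrix.add_apply, Matrix.one_apply_eq, Matrix.single_apply, if_neg (fun h => hd.hab h.1), add_zero]
  rw [Finset.sum_eq_add (a := a) (b := b) hd.hab (fun p _ hp' => Finset.sum_eq_zero fun q _ => by
      rw [hp p hp'.1 hp'.2, transpose_zero, zero_mul, zero_mul, smul_zero]) (by simp) (by simp),
    Finset.sum_eq_single b (fun q _ hq => by
      rw [show J a q = 0 by rw [← congrFun (congrFun hd.sym.symm a) q, transpose_apply, hd.ja, if_neg hq], zero_smul])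
      (by simp),
    Finset.sum_eq_single a (fun q _ hq => by
      rw [show J b q = 0 by rw [← congrFun (congrFun hd.sym.symm b) q, transpose_apply, hd.jb, if_neg hq], zero_smul])
      (by simp), hA, hB, hd.jb, if_pos rfl, hd.ja, if_pos rfl, one_smul, one_smul, transpose_one, one_mul, mul_one] at e
  rw [mem_skew, transpose_mul, (gram_sym hd.sym).symm]
  exact eq_neg_of_add_eq_zero_left e

variable [Fintype F] {G : Subgroup (GL (Fin (t + 1) → Fin k) F)}

/-- scaling the pair of the first slot -/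
theorem torus_conj (hG : Over J G) {l : F} (hl : l ≠ 0) :
    ∃ w ∈ G, ∀ (M : Matrix (Fin (t + 1) → Fin k) (Fin (t + 1) → Fin k) F),
      (∀ y, y ≠ a → y ≠ b → blk (conjMat w M) a y = (l * l) • blk M a y) ∧
      blk (conjMat w M) a b = (l * l * (l * l)) • blk M a b ∧
      (Shp a b (blk M - 1) → Shp a b (blk (conjMat w M) - 1)) := by
  classical
  obtain ⟨x, hx, xa, xb, xm⟩ := exists_torus hd hl
  let d : Fin k → F := fun p => if p = a then l * l else if p = b then (l * l)⁻¹ else 1
  have hx' : x.val = Matrix.diagonal d := by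
    refine Matrix.ext_of_mulVec_single fun q => ?_
    rw [Matrix.diagonal_mulVec_single, mul_one]
    rcases eq_or_ne q a with rfl | ha
    · rw [xa, ← Pi.single_smul, smul_eq_mul, mul_one]; simp [d]
    rcases eq_or_ne q b with rfl | hb
    · rw [xb, ← Pi.single_smul, smul_eq_mul, mul_one]; simp [d, hd.hab.symm]
    rw [xm _ (mem_mid.2 ⟨Pi.single_eq_of_ne (Ne.symm ha) _, Pi.single_eq_of_ne (Ne.symm hb) _⟩)]
    simp [d, ha, hb]
  have hd0 : ∀ p, d p ≠ 0 := fun p => by simp only [d]; split_ifs <;> simp [hl]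
  have hxi : (x⁻¹).val = Matrix.diagonal fun p => (d p)⁻¹ := by
    refine Units.inv_eq_of_mul_eq_one_right ?_
    rw [hx', Matrix.diagonal_mul_diagonal, ← Matrix.diagonal_one]
    exact congrArg _ (funext fun p => mul_inv_cancel₀ (hd0 p))
  refine ⟨sgl 0 x, hG.slot (by have := hd.hk; omega) 0 hx, fun M => ?_⟩
  have key : ∀ p q, blk (conjMat (sgl (0 : Fin (t + 1)) x) M) p q = (d p * (d q)⁻¹) • blk M p q := by
    intro p q
    rw [conjMat_apply, ← map_inv, map_mul, map_mul, sgl_coe, sgl_coe, blk_S_zero, blk_S_zero, hx', hxi,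
      Matrix.diagonal_map (map_zero _), Matrix.diagonal_map (map_zero _), Matrix.mul_diagonal, Matrix.diagonal_mul]
    rw [← Algebra.commutes, ← mul_assoc, ← map_mul, ← Algebra.smul_def, mul_comm]
  refine ⟨fun y ha hb => ?_, ?_, fun hM p q hpq => ?_⟩
  · rw [key]; simp [d, ha, hb]
  · rw [key]; simp [d, hd.hab.symm]
  · have := hM p q hpq
    rw [Matrix.sub_apply, sub_eq_zero] at this
    rw [Matrix.sub_apply, key, this, Matrix.one_apply]
    split_ifs with h
    · rw [h, mul_inv_cancel₀ (hd0 q), one_smul, sub_self]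
    · rw [smul_zero, sub_self]

omit [Fintype F] in
/-- every scalar is a difference of two squares -/
theorem exists_sq_sub (c : F) : ∃ r s : F, c = r * r - s * s :=
  ⟨(c + 1) / 2, (c - 1) / 2, by have := hd.sym.two; field_simp; ring⟩

omit [Fintype F] hd in
/-- a corner element -/
def IsCorner (J : Matrix (Fin k) (Fin k) F) (a : Fin k) (G : Subgroup (GL (Fin (t + 1) → Fin k) F))
    (B : Matrix (Fin t → Fin k) (Fin t → Fin k) F) : Prop :=
  ∃ g ∈ G, g.val = 1 + S 0 (EA J a) * lift B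

omit [Fintype F] in
theorem IsCorner.add {B C : Matrix (Fin t → Fin k) (Fin t → Fin k) F} (h : IsCorner J a G B) (h' : IsCorner J a G C) :
    IsCorner J a G (B + C) := by
  obtain ⟨g, hg, hgv⟩ := h
  obtain ⟨g', hg', hgv'⟩ := h'
  refine ⟨g * g', mul_mem hg hg', ?_⟩
  rw [Units.val_mul, hgv, hgv', mul_add, mul_one, add_mul, one_mul, corner_sq hd, add_zero, map_add, mul_add,
    add_assoc]

/-- the largest space of corner elements -/
def corners (G : Subgroup (GL (Fin (t + 1) → Fin k) F)) : Submodule F (Matrix (Fin t → Fin k) (Fin t → Fin k) F) where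
  carrier := {B | ∀ c : F, IsCorner J a G (c • B)}
  zero_mem' c := ⟨1, one_mem _, by rw [smul_zero, map_zero, mul_zero, add_zero, Units.val_one]⟩
  add_mem' {B C} hB hC c := by
    have h := IsCorner.add hd (hB c) (hC c)
    rwa [← smul_add] at h
  smul_mem' r B hB c := by rw [smul_smul]; exact hB (c * r)

omit [Fintype F] in
theorem mem_corners {B : Matrix (Fin t → Fin k) (Fin t → Fin k) F} :
    B ∈ corners hd G ↔ ∀ c : F, IsCorner J a G (c • B) := Iff.rfl

omit [Fintype F] in
theorem corners_skew (hG : Over J G) {B : Matrix (Fin t → Fin k) (Fin t → Fin k) F} (hB : B ∈ corners hd G) :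
    B ∈ skew (gram t J) := by
  obtain ⟨g, hg, hgv⟩ := hB 1
  rw [one_smul] at hgv
  exact corner_skew hd (hG.iso hg) hgv

omit [Fintype F] in
theorem IsCorner.conj {v : GL (Fin t → Fin k) F} (hv : ∀ g ∈ G, liftW v * g * (liftW v)⁻¹ ∈ G)
    {B : Matrix (Fin t → Fin k) (Fin t → Fin k) F} (h : IsCorner J a G B) : IsCorner J a G (conjMat v B) := by
  obtain ⟨g, hg, hgv⟩ := h
  refine ⟨_, hv g hg, (corner_blk hd).2 (Matrix.ext fun x y => ?_)⟩
  rw [← conjMat_units, blk_liftW_conj, (corner_blk hd).1 hgv]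
  simp only [Matrix.add_apply, Matrix.one_apply, Matrix.single_apply, map_add, apply_ite (conjMat v), map_one, map_zero]

omit [Fintype F] in
theorem corners_conj {v : GL (Fin t → Fin k) F} (hv : ∀ g ∈ G, liftW v * g * (liftW v)⁻¹ ∈ G)
    {B : Matrix (Fin t → Fin k) (Fin t → Fin k) F} (h : B ∈ corners hd G) : conjMat v B ∈ corners hd G := fun c => by
  rw [← map_smul]; exact IsCorner.conj hd hv (h c)

theorem slot_normal (hG : Over J G) (j : Fin t) {x : GL (Fin k) F} (hx : x ∈ Sl hd.sym) :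
    ∀ g ∈ G, liftW (sgl j x) * g * (liftW (sgl j x))⁻¹ ∈ G := fun g hg => by
  have h := hG.slot (by have := hd.hk; omega) j.succ hx
  rw [liftW_sgl]
  exact mul_mem (mul_mem h hg) (inv_mem h)

theorem refl_normal (hG : Over J G) (hke : Even k) (ht : 2 ≤ t) (j : Fin t) {h : Fin k → F} (hσ : frm J h h ≠ 0) :
    ∀ g ∈ G, liftW (sgl j (rfl' hd.sym h hσ)) * g * (liftW (sgl j (rfl' hd.sym h hσ)))⁻¹ ∈ G := fun g hg => by
  have h1 : liftW (sgl j (rfl' hd.sym h hσ)) ∈ G := by
    rw [liftW_sgl]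
    exact hG.ge ⟨sgl_mem _ _, refl_slot_Om hd hke ht hσ _⟩
  exact mul_mem (mul_mem h1 hg) (inv_mem h1)

/-- with at least four dimensions every corner element spans corners -/
theorem corners_of_four (hG : Over J G) (h4 : 4 ≤ k) {B : Matrix (Fin t → Fin k) (Fin t → Fin k) F}
    (h : IsCorner J a G B) : B ∈ corners hd G := by
  classical
  have h2 : 2 ≤ k := by omega
  have neg : ∀ {C}, IsCorner J a G C → IsCorner J a G (-C) := by
    rintro C ⟨g, hg, hgv⟩
    refine ⟨g⁻¹, inv_mem hg, Units.inv_eq_of_mul_eq_one_right ?_⟩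
    rw [hgv, map_neg, mul_neg, add_mul, one_mul, mul_add, mul_one, mul_neg, corner_sq hd]
    abel
  have sq : ∀ r : F, IsCorner J a G ((r * r) • B) := by
    intro r
    rcases eq_or_ne r 0 with rfl | hr
    · exact ⟨1, one_mem _, by rw [mul_zero, zero_smul, map_zero, mul_zero, add_zero, Units.val_one]⟩
    obtain ⟨f, hf, g, hg, hgf, hσ, hρ, -⟩ := exists_plane hd h4
    obtain ⟨α, γ, hv⟩ := exists_value_plane hd hσ hρ (r⁻¹ * frm J f f)
    have hm : α • f + γ • g ∈ mid F a b := add_mem (Submodule.smul_mem _ _ hf) (Submodule.smul_mem _ _ hg)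
    have hval : frm J (α • f + γ • g) (α • f + γ • g) = r⁻¹ * frm J f f := by
      simp only [frm_add_left, frm_add_right, frm_smul_left, frm_smul_right, hgf, frm_comm hd.sym f g, mul_zero]
      linear_combination hv
    obtain ⟨x, hx, xa, -, -⟩ := exists_levi hd hf hσ hm (by rw [hval]; exact mul_ne_zero (inv_ne_zero hr) hσ)
    obtain ⟨e, he, hev⟩ := h
    refine ⟨sgl 0 x * e * (sgl 0 x)⁻¹, mul_mem (mul_mem (hG.slot h2 0 hx) he) (inv_mem (hG.slot h2 0 hx)), ?_⟩
    rw [← conjMat_units, hev, map_add, map_one, map_mul (conjMat (sgl 0 x)), conj_sgl_S0,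
      show conjMat (sgl (0 : Fin (t + 1)) x) (lift B) = lift B from
        (conjMat_eq_iff_mul ..).2 (by rw [sgl_coe]; exact S0_lift_comm _ _),
      EA, conj_op (Sl_le_Iso hd.sym hx), xa, op_smul_left, op_smul_right, smul_smul, hval, map_smul, map_smul,
      smul_mul_assoc, mul_smul_comm]
    congr 2
    congr 1 <;> field_simp
  intro c
  obtain ⟨r, s, rfl⟩ := exists_sq_sub hd c
  have h' := IsCorner.add hd (sq r) (neg (sq s))
  rwa [sub_smul, sub_eq_add_neg]

/-- commutators with a Siegel element of the first slot -/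
theorem corner_of_sg (hG : Over J G) {z : GL (Fin (t + 1) → Fin k) F} (hz : z ∈ G) (hs : Shp a b (blk z.val - 1))
    {u : Fin k → F} (hu : u ∈ mid F a b) :
    ∑ p, (u p • (blk z.val - 1) a p + (J *ᵥ u) p • (blk z.val - 1) p b) ∈ corners hd G := by
  classical
  intro c
  have hu' : c • u ∈ mid F a b := Submodule.smul_mem _ _ hu
  set s := sg hd.sym _ (c • u) (frm_aa hd) (frm_au hd hu') with hsdef
  have hsl : sgl 0 s ∈ G := hG.slot (by have := hd.hk; omega) 0 (sg_mem_Sl hd.sym _ _)
  have hY := sg_shp (t := t) hd hu'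
  rw [← hsdef] at hY
  set X := blk z.val - 1 with hX
  set Y := blk (sgl (0 : Fin (t + 1)) s).val - 1 with hYdef
  refine ⟨z * sgl 0 s * z⁻¹ * (sgl 0 s)⁻¹, mul_mem (mul_mem (mul_mem hz hsl) (inv_mem hz)) (inv_mem hsl),
    (corner_blk hd).2 ?_⟩
  have hYab : (X * Y) a b - (Y * X) a b = c • ∑ p, (u p • X a p + (J *ᵥ u) p • X p b) := by
    rw [Matrix.mul_apply, Matrix.mul_apply, ← Finset.sum_sub_distrib, Finset.smul_sum]
    refine Finset.sum_congr rfl fun p _ => ?_
    have hYv : ∀ x y, Y x y = sgN J (Pi.single a 1) (c • u) x y • 1 := fun x y => by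
      rw [hYdef, blk_sgl0_sub, Matrix.map_apply, Algebra.algebraMap_eq_smul_one, hsdef, sg_coe, add_sub_cancel_left]
    obtain ⟨hua, hub⟩ := mem_mid.1 hu
    obtain ⟨hJa, hJb⟩ := Ju_mid hd hu
    by_cases hpa : p = a
    · rw [hpa, (shp_aa hd.hab hs).1, (shp_aa hd.hab hY).1, hua, hJa, zero_smul, zero_smul, zero_mul, zero_mul, sub_zero,
        add_zero, smul_zero]
    by_cases hpb : p = b
    · rw [hpb, (shp_aa hd.hab hs).2, (shp_aa hd.hab hY).2, hub, hJb, zero_smul, zero_smul, mul_zero, mul_zero, sub_zero,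
        add_zero, smul_zero]
    rw [hYv, hYv, sgN_apply hd, sgN_apply hd]
    simp only [hpa, hpb, if_true, if_false, false_and, and_false, sub_zero, zero_sub, mulVec_smul, Pi.smul_apply,
      smul_eq_mul, neg_smul, mul_smul_comm, smul_mul_assoc, mul_one, one_mul, neg_mul, smul_add, smul_smul, sub_neg_eq_add]
  rw [← hYab]
  refine (Units.isUnit (sgl (0 : Fin (t + 1)) s * z)).map (blk (F := F) (m := k) (t := t)) |>.mul_right_cancel ?_
  rw [Units.val_mul (sgl (0 : Fin (t + 1)) s), map_mul, show blk (sgl (0 : Fin (t + 1)) s).val = 1 + Y by rw [hYdef]; abel,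
    show blk z.val = 1 + X by rw [hX]; abel, shp_comm hd.hab hs hY, ← show blk z.val = 1 + X by rw [hX]; abel,
    ← show blk (sgl (0 : Fin (t + 1)) s).val = 1 + Y by rw [hYdef]; abel, ← map_mul, ← map_mul, ← map_mul]
  simp only [← Units.val_mul]
  congr 2
  group

/-- self-adjoint rows of shaped elements -/
def rowsp (hG : Over J G) : Submodule F (Fin k → Matrix (Fin t → Fin k) (Fin t → Fin k) F) where
  carrier := {A | (∀ p, A p ∈ slf (gram t J)) ∧ A a = 0 ∧ A b = 0 ∧
    ∃ z ∈ G, Shp a b (blk z.val - 1) ∧ ∀ p, p ≠ a → p ≠ b → blk z.val a p = A p}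
  zero_mem' := ⟨fun _ => Submodule.zero_mem _, rfl, rfl, 1, one_mem _, by
    refine ⟨fun x y _ => by rw [Units.val_one, map_one, sub_self, Matrix.zero_apply], fun p hp _ => ?_⟩
    rw [Units.val_one, map_one, Matrix.one_apply_ne (Ne.symm hp)]; rfl⟩
  add_mem' {A A'} := fun ⟨h1, h2, h3, z, hz, hs, hv⟩ ⟨h1', h2', h3', z', hz', hs', hv'⟩ => by
    refine ⟨fun p => Submodule.add_mem _ (h1 p) (h1' p), by simp [h2, h2'], by simp [h3, h3'], z * z', mul_mem hz hz', ?_⟩
    set X := blk z.val - 1 with hX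
    set X' := blk z'.val - 1 with hX'
    have e : blk (z * z').val = 1 + (X + X' + Matrix.single a b ((X * X') a b)) := by
      rw [← shp_prod hd.hab hs hs', Units.val_mul, map_mul, hX, hX']; abel_nf
    rw [e, add_sub_cancel_left]
    refine ⟨shp_add (shp_add hs hs') (shp_single hd.hab _), fun p ha hb => ?_⟩
    rw [Matrix.add_apply, Matrix.one_apply_ne (Ne.symm ha), zero_add, Matrix.add_apply, Matrix.add_apply,
      Matrix.single_apply, if_neg (fun h => hb h.2.symm), add_zero, hX, hX', Matrix.sub_apply, Matrix.sub_apply,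
      Matrix.one_apply_ne (Ne.symm ha), sub_zero, sub_zero, hv p ha hb, hv' p ha hb, Pi.add_apply]
  smul_mem' c A := fun ⟨h1, h2, h3, z, hz, hs, hv⟩ => by
    classical
    refine ⟨fun p => Submodule.smul_mem _ c (h1 p), by simp [h2], by simp [h3], ?_⟩
    obtain ⟨r, s, rfl⟩ := exists_sq_sub hd c
    have sq : ∀ l : F, ∃ y ∈ G, Shp a b (blk y.val - 1) ∧ ∀ p, p ≠ a → p ≠ b → blk y.val a p = (l * l) • A p := by
      intro l
      rcases eq_or_ne l 0 with rfl | hl
      · refine ⟨1, one_mem _, fun x y _ => by rw [Units.val_one, map_one, sub_self, Matrix.zero_apply], fun p ha _ => ?_⟩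
        rw [Units.val_one, map_one, Matrix.one_apply_ne (Ne.symm ha), mul_zero, zero_smul]
      obtain ⟨w, hw, hW⟩ := torus_conj hd hG hl
      refine ⟨w * z * w⁻¹, mul_mem (mul_mem hw hz) (inv_mem hw), ?_⟩
      rw [← conjMat_units]
      obtain ⟨e1, -, e3⟩ := hW z.val
      exact ⟨e3 hs, fun p ha hb => by rw [e1 p ha hb, hv p ha hb]⟩
    obtain ⟨y, hy, hys, hyv⟩ := sq r
    obtain ⟨y', hy', hys', hyv'⟩ := sq s
    set X := blk y.val - 1 with hX
    set X' := blk y'.val - 1 with hX'
    set N := -X' + Matrix.single a b ((X' * X') a b) with hN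
    have hNs : Shp a b N := shp_add (shp_neg hys') (shp_single hd.hab _)
    have hinv : blk (y'⁻¹).val = 1 + N := by
      refine (y'.isUnit.map (blk (F := F) (m := k) (t := t))).mul_left_cancel ?_
      rw [← map_mul, ← Units.val_mul, mul_inv_cancel, Units.val_one, map_one, hN]
      conv_rhs => rw [show blk y'.val = 1 + X' by rw [hX']; abel]
      exact (shp_inv hd.hab hys').symm
    refine ⟨y * y'⁻¹, mul_mem hy (inv_mem hy'), ?_⟩
    have e : blk (y * y'⁻¹).val = 1 + (X + N + Matrix.single a b ((X * N) a b)) := by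
      rw [← shp_prod hd.hab hys hNs, Units.val_mul, map_mul, hinv, hX]; abel_nf
    rw [e, add_sub_cancel_left]
    refine ⟨shp_add (shp_add hys hNs) (shp_single hd.hab _), fun p ha hb => ?_⟩
    rw [Matrix.add_apply, Matrix.one_apply_ne (Ne.symm ha), zero_add, Matrix.add_apply, Matrix.add_apply,
      Matrix.single_apply, if_neg (fun h => hb h.2.symm), add_zero, hN, Matrix.add_apply, Matrix.neg_apply,
      Matrix.single_apply, if_neg (fun h => hb h.2.symm), add_zero, hX, hX', Matrix.sub_apply, Matrix.sub_apply,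
      Matrix.one_apply_ne (Ne.symm ha), sub_zero, sub_zero, hyv p ha hb, hyv' p ha hb, Pi.smul_apply, sub_smul,
      sub_eq_add_neg]

theorem mem_rowsp {hG : Over J G} {A : Fin k → Matrix (Fin t → Fin k) (Fin t → Fin k) F} :
    A ∈ rowsp hd hG ↔ (∀ p, A p ∈ slf (gram t J)) ∧ A a = 0 ∧ A b = 0 ∧
      ∃ z ∈ G, Shp a b (blk z.val - 1) ∧ ∀ p, p ≠ a → p ≠ b → blk z.val a p = A p := Iff.rfl

theorem rowsp_conj (hG : Over J G) {v : GL (Fin t → Fin k) F} (hvi : v ∈ Iso (gram t J))
    (hv : ∀ g ∈ G, liftW v * g * (liftW v)⁻¹ ∈ G) {A : Fin k → Matrix (Fin t → Fin k) (Fin t → Fin k) F}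
    (h : A ∈ rowsp hd hG) : cj v A ∈ rowsp hd hG := by
  obtain ⟨h1, h2, h3, z, hz, hs, hval⟩ := h
  refine ⟨fun p => conj_slf hvi (h1 p), by rw [cj_apply, h2, map_zero], by rw [cj_apply, h3, map_zero],
    _, hv z hz, ?_⟩
  rw [← conjMat_units]
  refine ⟨fun x y hxy => ?_, fun p ha hb => by rw [blk_liftW_conj, hval p ha hb]; rfl⟩
  have := hs x y hxy
  rw [Matrix.sub_apply, sub_eq_zero] at this
  rw [Matrix.sub_apply, blk_liftW_conj, this, Matrix.one_apply, apply_ite (conjMat v), map_one, map_zero, sub_self]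

end Cfsg.Agent.TensorWreath.Or
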