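import Cfsg.Agent.Lib.Forms.Max.TensorWreath.Orth.Plane
import Cfsg.Agent.Lib.Forms.Max.TensorWreath.Orth.Shaped
import Cfsg.Agent.Lib.Forms.Max.TensorWreath.Fixed

/-!
# Sums of conjugates under the root group of the first slot
-/

set_option autoImplicit false
set_option linter.unusedSectionVars false
set_option linter.unusedSimpArgs false

namespace Cfsg.Agent.TensorWreath.Or

open Matrix Cfsg.Agent.Aschbacher

/-- orbit sums modulo a subgroup absorbing second differences -/
theorem sum_orbits {A α M : Type*} [AddCommGroup A] [Fintype A] [AddCommGroup M] [DecidableEq α]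
    (p : ℕ) [Fact p.Prime] (hA : ∀ x : A, p • x = 0) (hM : ∀ m : M, p • m = 0) (V : AddSubgroup M)
    (hV : ∀ m, m + m ∈ V → m ∈ V) (e : A → α → α)
    (he0 : ∀ x, e 0 x = x) (hadd : ∀ a b x, e (a + b) x = e a (e b x)) (f : α → M) :
    ∀ s : Finset α, (∀ a, ∀ x ∈ s, e a x ∈ s) → (∀ x ∈ s, ∃ a, e a x ≠ x) →
      (∀ a, ∀ x ∈ s, f (e a x) + f (e (-a) x) - (f x + f x) ∈ V) → ∑ x ∈ s, f x ∈ V := by
  intro s
  induction s using Finset.strongInduction with
  | H s ih =>
    intro hinv hmv hdiff
    rcases s.eq_empty_or_nonempty with rfl | ⟨x, hx⟩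
    · rw [Finset.sum_empty]; exact zero_mem _
    classical
    set O := Finset.univ.image fun a => e a x with hO
    have hOs : O ⊆ s := by
      intro y hy
      obtain ⟨a, -, rfl⟩ := Finset.mem_image.1 hy
      exact hinv a x hx
    have hxO : x ∈ O := Finset.mem_image.2 ⟨0, Finset.mem_univ _, he0 x⟩
    have hmem : ∀ a, e a x ∈ O := fun a => Finset.mem_image.2 ⟨a, Finset.mem_univ _, rfl⟩
    have hrest : ∑ y ∈ s \ O, f y ∈ V := by
      refine ih _ (Finset.ssubset_iff_subset_ne.2 ⟨Finset.sdiff_subset, fun h => ?_⟩) (fun a y hy => ?_)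
        (fun y hy => hmv y (Finset.mem_sdiff.1 hy).1) fun a y hy => hdiff a y (Finset.mem_sdiff.1 hy).1
      · exact (Finset.mem_sdiff.1 (h.symm ▸ hx : x ∈ s \ O)).2 hxO
      · obtain ⟨hy1, hy2⟩ := Finset.mem_sdiff.1 hy
        refine Finset.mem_sdiff.2 ⟨hinv a y hy1, fun h => hy2 ?_⟩
        obtain ⟨b, -, hb⟩ := Finset.mem_image.1 h
        exact Finset.mem_image.2 ⟨-a + b, Finset.mem_univ _, by rw [hadd, hb, ← hadd, neg_add_cancel, he0]⟩
    -- reversal of the orbit
    have hrev : ∀ c d, e c x = e d x → e (-c) x = e (-d) x := fun c d h => by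
      have h1 := congrArg (e (-c + -d)) h
      rw [← hadd, ← hadd, show -c + -d + c = -d by abel, show -c + -d + d = -c by abel] at h1
      exact h1.symm
    choose c hc using fun y (hy : y ∈ O) => (Finset.mem_image.1 hy)
    have hflip : ∑ y ∈ O, f y = ∑ y ∈ O.attach, f (e (-c y.1 y.2) x) := by
      refine Finset.sum_bij (fun y hy => ⟨e (-c y hy) x, hmem _⟩) (fun y hy => Finset.mem_attach _ _) (fun y hy y' hy' h => ?_)
        (fun z _ => ⟨e (-c z.1 z.2) x, hmem _, Subtype.ext ?_⟩) fun y hy => ?_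
      · have h1 := hrev _ _ (congrArg Subtype.val h)
        rw [neg_neg, neg_neg, (hc y hy).2, (hc y' hy').2] at h1
        exact h1
      · show e (-c (e (-c z.1 z.2) x) _) x = z.1
        rw [hrev _ _ (hc (e (-c z.1 z.2) x) (hmem _)).2, neg_neg]
        exact (hc z.1 z.2).2
      · show f y = f (e (-c (e (-c y hy) x) _) x)
        rw [hrev _ _ (hc (e (-c y hy) x) (hmem _)).2, neg_neg, (hc y hy).2]
    have hcard : p ∣ O.card := by
      letI : MulAction (Multiplicative A) O := -- orbit action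
        
        { smul := fun a y => ⟨e a.toAdd y.1, by
            obtain ⟨b, -, hb⟩ := Finset.mem_image.1 y.2
            rw [← hb, ← hadd]; exact hmem _⟩
          one_smul := fun y => Subtype.ext (he0 y.1)
          mul_smul := fun a b y => Subtype.ext (hadd _ _ y.1) }
      have hP : IsPGroup p (Multiplicative A) := fun g => ⟨1, by
        rw [pow_one]
        exact Multiplicative.toAdd.injective (by rw [toAdd_pow, toAdd_one]; exact hA _)⟩
      have h0 : Nat.card (MulAction.fixedPoints (Multiplicative A) O) = 0 := by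
        rw [Nat.card_eq_zero]
        left
        refine ⟨fun y => ?_⟩
        obtain ⟨a, ha⟩ := hmv x hx
        obtain ⟨b, -, hb⟩ := Finset.mem_image.1 y.1.2
        have h1 : e a y.1.1 = y.1.1 := congrArg Subtype.val (y.2 (Multiplicative.ofAdd a))
        rw [← hb, ← hadd, add_comm a b, hadd] at h1
        have h2 := congrArg (e (-b)) h1
        rw [← hadd (-b), ← hadd (-b), neg_add_cancel, he0, he0] at h2
        exact ha h2
      have h1 := hP.card_modEq_card_fixedPoints O
      rwa [h0, Nat.card_eq_fintype_card, Fintype.card_coe, Nat.modEq_zero_iff_dvd] at h1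
    have hOV : ∑ y ∈ O, f y ∈ V := by
      refine hV _ ?_
      nth_rewrite 2 [hflip]
      rw [← Finset.sum_attach O f, ← Finset.sum_add_distrib]
      have h : ∀ y ∈ O.attach, f y.1 + f (e (-c y.1 y.2) x) - (f x + f x) ∈ V := fun y _ => by
        have := hdiff (c y.1 y.2) x hx
        rwa [(hc y.1 y.2).2] at this
      have hs := sum_mem h
      rw [Finset.sum_sub_distrib, Finset.sum_const, Finset.card_attach] at hs
      obtain ⟨r, hr⟩ := hcard
      rwa [hr, mul_nsmul, hM, smul_zero, sub_zero] at hs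
    rw [← Finset.sum_sdiff hOs]
    exact add_mem hrest hOV

variable {F : Type*} [Field F] {k t : ℕ} {J : Matrix (Fin k) (Fin k) F} {a b : Fin k}

/-- the matrices with only the corner block -/
def cornerSp (a b : Fin k) : Submodule F (Matrix (Fin (t + 1) → Fin k) (Fin (t + 1) → Fin k) F) where
  carrier := {M | ∀ x y, ¬(x = a ∧ y = b) → blk M x y = 0}
  zero_mem' x y _ := by rw [map_zero]; rfl
  add_mem' {M N} hM hN x y h := by rw [map_add, Matrix.add_apply, hM x y h, hN x y h, add_zero]
  smul_mem' c M hM x y h := by rw [map_smul, Matrix.smul_apply, hM x y h, smul_zero]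

theorem mem_cornerSp {M : Matrix (Fin (t + 1) → Fin k) (Fin (t + 1) → Fin k) F} :
    M ∈ cornerSp a b ↔ ∀ x y, ¬(x = a ∧ y = b) → blk M x y = 0 := Iff.rfl

variable (hd : Hyp J a b)
include hd

theorem cornerSp_form {M : Matrix (Fin (t + 1) → Fin k) (Fin (t + 1) → Fin k) F} (h : M ∈ cornerSp a b) :
    ∃ Z, M = S 0 (EA J a) * lift Z := by
  refine ⟨blk M a b, (blk (F := F) (m := k) (t := t)).injective (Matrix.ext fun x y => ?_)⟩
  rw [blk_S0_lift, EA_eq hd, Matrix.single_apply]
  by_cases hxy : a = x ∧ b = y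
  · rw [if_pos hxy, one_smul, hxy.1, hxy.2]
  · rw [if_neg hxy, zero_smul, h x y (fun h' => hxy ⟨h'.1.symm, h'.2.symm⟩)]

theorem blk_EA_mul (X : Matrix (Fin (t + 1) → Fin k) (Fin (t + 1) → Fin k) F) (x y : Fin k) :
    blk (S 0 (EA J a) * X) x y = (if x = a then (1 : F) else 0) • blk X b y ∧
      blk (X * S 0 (EA J a)) x y = (if y = b then (1 : F) else 0) • blk X x a := by
  constructor
  · rw [map_mul, blk_S_zero, Matrix.mul_apply, Finset.sum_eq_single b (fun p _ hp => by
      rw [Matrix.map_apply, EA_eq hd, Matrix.single_apply, if_neg (fun h => hp h.2.symm), map_zero, zero_mul]) (by simp)]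
    rw [Matrix.map_apply, ← Algebra.smul_def, EA_eq hd, Matrix.single_apply]
    simp [eq_comm]
  · rw [map_mul, blk_S_zero, Matrix.mul_apply, Finset.sum_eq_single a (fun p _ hp => by
      rw [Matrix.map_apply, EA_eq hd, Matrix.single_apply, if_neg (fun h => hp h.1.symm), map_zero, mul_zero]) (by simp)]
    rw [Matrix.map_apply, ← Algebra.commutes, ← Algebra.smul_def, EA_eq hd, Matrix.single_apply]
    simp [eq_comm]

theorem EXE_corner (X : Matrix (Fin (t + 1) → Fin k) (Fin (t + 1) → Fin k) F) :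
    S 0 (EA J a) * X * S 0 (EA J a) ∈ cornerSp a b := fun x y h => by
  rw [(blk_EA_mul hd _ x y).2, (blk_EA_mul hd _ x a).1, smul_smul]
  split_ifs with h1 h2
  · exact absurd ⟨h2, h1⟩ h
  all_goals simp

/-- the root element of the first slot at a middle vector -/
noncomputable def rootE (u : ↥(mid F a b)) : GL (Fin (t + 1) → Fin k) F :=
  sgl 0 (sg hd.sym (Pi.single a 1) u.1 (frm_aa hd) (frm_au hd u.2))

theorem rootE_add (u w : ↥(mid F a b)) : (rootE (t := t) hd (u + w)) = rootE hd u * rootE hd w := by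
  rw [rootE, rootE, rootE, ← map_mul, sg_mul]
  rfl

theorem rootE_zero : (rootE (t := t) hd 0) = 1 := by
  rw [rootE, ← map_one (sgl (F := F) (m := k) (0 : Fin (t + 1)))]
  congr 1
  exact sg_zero hd.sym (frm_aa hd)

theorem rootE_inv (u : ↥(mid F a b)) : (rootE (t := t) hd u)⁻¹ = rootE hd (-u) :=
  inv_eq_of_mul_eq_one_right (by rw [← rootE_add, add_neg_cancel, rootE_zero])

theorem rootE_val (u : ↥(mid F a b)) : (rootE (t := t) hd u).val =
    1 + S 0 (Qm J u.1 (Pi.single a 1)) - ((2 : F)⁻¹ * frm J u.1 u.1) • S 0 (EA J a) := by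
  rw [rootE, sgl_coe, sg_coe, sgN, map_add, map_one, map_sub, map_smul, add_sub_assoc]

theorem rootE_neg_val (u : ↥(mid F a b)) : (rootE (t := t) hd (-u)).val =
    1 - S 0 (Qm J u.1 (Pi.single a 1)) - ((2 : F)⁻¹ * frm J u.1 u.1) • S 0 (EA J a) := by
  have e : Qm J (-u.1) (Pi.single a 1) = -Qm J u.1 (Pi.single a 1) := by
    rw [← neg_one_smul F u.1, Qm_smul_left, neg_one_smul]
  rw [rootE_val, Submodule.coe_neg, e, frm_neg_left, frm_neg_right, neg_neg, map_neg, ← sub_eq_add_neg]

theorem conj_rootE (u : ↥(mid F a b)) (X : Matrix (Fin (t + 1) → Fin k) (Fin (t + 1) → Fin k) F) :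
    conjMat (rootE hd u) X = (rootE hd u).val * X * (rootE hd (-u)).val := by
  rw [conjMat_apply, rootE_inv]

/-- fixed points commute with the centre -/
theorem comm_of_fixed {u : ↥(mid F a b)} (hu : frm J u.1 u.1 ≠ 0)
    {X : Matrix (Fin (t + 1) → Fin k) (Fin (t + 1) → Fin k) F} (h : conjMat (rootE hd u) X = X) :
    S 0 (EA J a) * X = X * S 0 (EA J a) := by
  have h2 := hd.sym.two
  have e1 := (conjMat_eq_iff_mul ..).1 h
  have h' : conjMat (rootE hd (-u)) X = X := by
    conv_lhs => rw [← h]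
    rw [← conjMat_mul, ← rootE_add, neg_add_cancel, rootE_zero]
    simp [conjMat_apply]
  have e2 := (conjMat_eq_iff_mul ..).1 h'
  rw [rootE_val] at e1
  rw [rootE_neg_val] at e2
  simp only [add_mul, mul_add, sub_mul, mul_sub, one_mul, mul_one, smul_mul_assoc, mul_smul_comm] at e1 e2
  have e3 : ((2 : F)⁻¹ * frm J u.1 u.1) • (S 0 (EA J a) * X - X * S 0 (EA J a)) +
      ((2 : F)⁻¹ * frm J u.1 u.1) • (S 0 (EA J a) * X - X * S 0 (EA J a)) = 0 := by
    linear_combination (norm := module) -e1 - e2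
  rw [← add_smul, show (2 : F)⁻¹ * frm J u.1 u.1 + (2 : F)⁻¹ * frm J u.1 u.1 = frm J u.1 u.1 by field_simp; ring] at e3
  exact sub_eq_zero.1 ((smul_eq_zero.1 e3).resolve_left hu)

/-- second differences at elements commuting with the centre -/
theorem second_diff (u : ↥(mid F a b)) {X : Matrix (Fin (t + 1) → Fin k) (Fin (t + 1) → Fin k) F}
    (hE : S 0 (EA J a) * X = X * S 0 (EA J a)) :
    conjMat (rootE hd u) X + conjMat (rootE hd (-u)) X - (X + X) ∈ cornerSp a b := by
  obtain ⟨s, hs⟩ : ∃ s, s = (2 : F)⁻¹ * frm J u.1 u.1 := ⟨_, rfl⟩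
  set E := S (0 : Fin (t + 1)) (EA J a) with hEd
  set Q := S (0 : Fin (t + 1)) (Qm J u.1 (Pi.single a 1)) with hQd
  have hEE : E * E = 0 := by rw [hEd, ← map_mul, (NE_zero hd u.2).2.2.1, map_zero]
  have e : conjMat (rootE hd u) X + conjMat (rootE hd (-u)) X - (X + X) =
      (-(4 * s)) • (E * X) + (-2 : F) • (Q * X * Q) := by
    rw [conj_rootE, conj_rootE, neg_neg, rootE_val, rootE_neg_val, ← hs, ← hEd, ← hQd]
    simp only [add_mul, mul_add, sub_mul, mul_sub, one_mul, mul_one, smul_mul_assoc, mul_smul_comm, smul_smul]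
    have hEXE : E * X * E = 0 := by rw [hE, mul_assoc, hEE, mul_zero]
    rw [hEXE, hE, smul_zero]
    module
  rw [e]
  refine add_mem (Submodule.smul_mem _ _ fun x y h => ?_) (Submodule.smul_mem _ _ fun x y h => ?_)
  · have h1 := (blk_EA_mul hd X x y).1
    rcases eq_or_ne x a with rfl | hx
    · have hy : y ≠ b := fun e => h ⟨rfl, e⟩
      rw [hE, (blk_EA_mul hd X x y).2, if_neg hy, zero_smul]
    · rw [h1, if_neg hx, zero_smul]
  · have hcol : ∀ p, p ≠ a → blk X p a = 0 := fun p hp => by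
      have h1 := congrFun (congrFun (congrArg (blk (F := F) (m := k) (t := t)) hE) p) b
      rw [(blk_EA_mul hd X p b).1, (blk_EA_mul hd X p b).2, if_neg hp, zero_smul, if_pos rfl, one_smul] at h1
      exact h1.symm
    have hrow : ∀ q, q ≠ b → blk X b q = 0 := fun q hq => by
      have h1 := congrFun (congrFun (congrArg (blk (F := F) (m := k) (t := t)) hE) a) q
      rwa [(blk_EA_mul hd X a q).1, (blk_EA_mul hd X a q).2, if_pos rfl, one_smul, if_neg hq, zero_smul] at h1
    have hsh : Shp a b (Qm J u.1 (Pi.single a 1)) := fun p q hpq => by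
      rw [Qm, Matrix.sub_apply, op_apply, op_apply, Ja hd]
      have h1 : u.1 p * (Pi.single b 1 : Fin k → F) q = 0 := by
        rcases eq_or_ne q b with rfl | hq
        · have hp : p = q := by by_contra hp; exact hpq (Or.inr ⟨rfl, hp⟩)
          rw [hp, (mem_mid.1 u.2).2, zero_mul]
        · rw [Pi.single_eq_of_ne hq, mul_zero]
      have h2 : (Pi.single a 1 : Fin k → F) p * (J *ᵥ u.1) q = 0 := by
        rcases eq_or_ne p a with rfl | hp
        · have hq : q = p := by by_contra hq; exact hpq (Or.inl ⟨rfl, hq⟩)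
          rw [hq, (Ju_mid hd u.2).1, mul_zero]
        · rw [Pi.single_eq_of_ne hp, zero_mul]
      rw [h1, h2, sub_zero]
    rw [hQd, map_mul, map_mul, blk_S_zero, Matrix.mul_apply]
    refine Finset.sum_eq_zero fun q _ => ?_
    rw [Matrix.mul_apply, Finset.sum_mul]
    refine Finset.sum_eq_zero fun p _ => ?_
    rw [Matrix.map_apply, Matrix.map_apply]
    rcases shp_cases hsh x p with h0 | h0
    · rw [h0, map_zero, zero_mul, zero_mul]
    rcases shp_cases hsh q y with h1 | h1
    · rw [h1, map_zero, mul_zero]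
    have hz : blk X p q = 0 := by
      rcases eq_or_ne x a with rfl | hx
      · have hy : y ≠ b := fun e => h ⟨rfl, e⟩
        have hq : q = x := (h1.resolve_right fun h' => hy h'.1).1
        rw [hq]
        rcases h0 with ⟨-, hp⟩ | ⟨hp, -⟩
        · exact hcol p hp
        · exact hcol p (hp ▸ hd.hab.symm)
      · have hp : p = b := (h0.resolve_left fun h' => hx h'.1).1
        rw [hp]
        rcases h1 with ⟨hq, -⟩ | ⟨-, hq⟩
        · exact hrow q (hq ▸ hd.hab)
        · exact hrow q hq
    rw [hz, mul_zero, zero_mul]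

theorem half_mem {m : Matrix (Fin (t + 1) → Fin k) (Fin (t + 1) → Fin k) F}
    (h : m + m ∈ cornerSp a b) : m ∈ cornerSp a b := by
  rw [← two_smul F] at h
  exact (Submodule.smul_mem_iff _ hd.sym.two).1 h

variable [Fintype F]

omit hd in
theorem sum_line_zero (i : ℕ) (hi : i < Fintype.card F - 1) : ∑ c : F, c ^ i = 0 :=
  FiniteField.sum_pow_lt_card_sub_one (K := F) i hi

/-- the average over a line commutes with the centre -/
theorem line_comm (g : ↥(mid F a b)) (w : Matrix (Fin (t + 1) → Fin k) (Fin (t + 1) → Fin k) F) :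
    S 0 (EA J a) * (∑ c : F, conjMat (rootE hd (c • g)) w) = (∑ c : F, conjMat (rootE hd (c • g)) w) * S 0 (EA J a) := by
  obtain ⟨s, hs⟩ : ∃ s, s = (2 : F)⁻¹ * frm J g.1 g.1 := ⟨_, rfl⟩
  obtain ⟨hQE, hEQ, hEE, -⟩ := NE_zero hd g.2
  set E := S (0 : Fin (t + 1)) (EA J a) with hEd
  have hval : ∀ c : F, (rootE (t := t) hd (c • g)).val =
      1 + c • S 0 (Qm J g.1 (Pi.single a 1)) - (c * c * s) • E := fun c => by
    rw [rootE_val, Submodule.coe_smul, Qm_smul_left, map_smul, frm_smul_left, frm_smul_right, hs, ← hEd]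
    ring_nf
  have hL : ∀ c : F, E * (rootE (t := t) hd (c • g)).val = E ∧ (rootE (t := t) hd (c • g)).val * E = E := fun c => by
    rw [hval]
    constructor <;>
      simp only [mul_add, mul_sub, add_mul, sub_mul, one_mul, mul_one, mul_smul_comm, smul_mul_assoc, hEd, ← map_mul,
        hEQ, hQE, hEE, map_zero, smul_zero, add_zero, sub_zero]
  have hsum : ∑ c : F, (rootE (t := t) hd (c • g)).val = (-((∑ c : F, c * c) * s)) • E := by
    simp only [hval, Finset.sum_sub_distrib, Finset.sum_add_distrib, Finset.sum_const, Finset.card_univ,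
      ← Nat.cast_smul_eq_nsmul F, FiniteField.cast_card_eq_zero, zero_smul, zero_add, ← Finset.sum_smul,
      ← Finset.sum_mul]
    have h1 : ∑ c : F, c = 0 := by
      have h2 : ∑ c : F, c = 2 * ∑ c : F, c := by
        rw [Finset.mul_sum]
        exact (Equiv.sum_comp (Equiv.mulLeft₀ (2 : F) hd.sym.two) id).symm
      linear_combination -h2
    rw [h1, zero_smul, zero_sub, neg_smul]
  have hneg : ∑ c : F, (rootE (t := t) hd (-(c • g))).val = ∑ c : F, (rootE (t := t) hd (c • g)).val := by
    refine Fintype.sum_equiv (Equiv.neg F) _ _ fun c => ?_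
    rw [Equiv.neg_apply, show -(c • g) = (-c) • g from Subtype.ext (neg_smul c g.1).symm]
  rw [Finset.mul_sum, Finset.sum_mul]
  have e1 : ∀ c : F, E * conjMat (rootE hd (c • g)) w = E * w * (rootE hd (-(c • g))).val := fun c => by
    rw [conj_rootE, ← mul_assoc, ← mul_assoc, (hL c).1]
  have e2 : ∀ c : F, conjMat (rootE hd (c • g)) w * E = (rootE hd (c • g)).val * w * E := fun c => by
    have h := (hL (-c)).2
    rw [show (-c) • g = -(c • g) from Subtype.ext (neg_smul c g.1)] at h
    rw [conj_rootE, mul_assoc, h]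
  rw [Finset.sum_congr rfl fun c _ => e1 c, Finset.sum_congr rfl fun c _ => e2 c, ← Finset.mul_sum, hneg, hsum,
    ← Finset.sum_mul, ← Finset.sum_mul, hsum]
  simp only [mul_smul_comm, smul_mul_assoc]

/-- the average over a line is a corner in large fields -/
theorem line_sum (h5 : 5 ≤ Fintype.card F) (g : ↥(mid F a b))
    (w : Matrix (Fin (t + 1) → Fin k) (Fin (t + 1) → Fin k) F) :
    ∑ c : F, conjMat (rootE hd (c • g)) w ∈ cornerSp a b := by
  obtain ⟨s, hs⟩ : ∃ s, s = (2 : F)⁻¹ * frm J g.1 g.1 := ⟨_, rfl⟩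
  set E := S (0 : Fin (t + 1)) (EA J a) with hEd
  set Q := S (0 : Fin (t + 1)) (Qm J g.1 (Pi.single a 1)) with hQd
  have e : ∀ c : F, conjMat (rootE hd (c • g)) w = c ^ 0 • w + c ^ 1 • (Q * w - w * Q) +
      c ^ 2 • (-(s • (E * w + w * E)) - Q * w * Q) + c ^ 3 • (s • (E * w * Q - Q * w * E)) +
      c ^ 4 • ((s * s) • (E * w * E)) := fun c => by
    rw [conj_rootE, rootE_val, rootE_neg_val, Submodule.coe_smul, Qm_smul_left, map_smul, frm_smul_left,
      frm_smul_right, ← hEd, ← hQd, hs]
    simp only [add_mul, mul_add, sub_mul, mul_sub, one_mul, mul_one, smul_mul_assoc, mul_smul_comm, smul_smul]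
    match_scalars <;> ring
  simp only [e, Finset.sum_add_distrib, ← Finset.sum_smul]
  rw [sum_line_zero 0 (by omega), sum_line_zero 1 (by omega), sum_line_zero 2 (by omega), sum_line_zero 3 (by omega)]
  simp only [zero_smul, zero_add]
  exact Submodule.smul_mem _ _ (Submodule.smul_mem _ _ (EXE_corner hd _))

/-- averages over the anisotropic line or plane are corners -/
theorem plane_sum {f g : Fin k → F} (hp : Pln J a b f g) [Fintype ↥(Submodule.span F {f, g})]
    (w : Matrix (Fin (t + 1) → Fin k) (Fin (t + 1) → Fin k) F) :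
    ∑ c : ↥(Submodule.span F {f, g}), conjMat (rootE hd ⟨c.1, hp.mem_mid c.2⟩) w ∈ cornerSp a b := by
  classical
  have h2 := hd.sym.two
  let F0 : ↥(mid F a b) := ⟨f, hp.hf⟩
  let G0 : ↥(mid F a b) := ⟨g, hp.hg⟩
  rcases hp.plane with ⟨h3, hg0⟩ | ⟨h4, hρ, hr⟩
  · have h5 : 5 ≤ Fintype.card F := card_five hd (hd.big.resolve_right (by omega))
    have hb : Function.Bijective fun c : F => (⟨c • f, Submodule.smul_mem _ _ Pln.f_mem⟩ : ↥(Submodule.span F {f, g})) := by
      refine ⟨fun c d h => ?_, fun ⟨u, hu⟩ => ?_⟩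
      · have h1 := congrArg (fun x => frm J x.1 f) h
        simp only [frm_smul_left] at h1
        exact mul_right_cancel₀ hp.hσ h1
      · obtain ⟨α, γ, rfl⟩ := Submodule.mem_span_pair.1 hu
        exact ⟨α, Subtype.ext (by simp [hg0])⟩
    rw [← (Equiv.ofBijective _ hb).sum_comp]
    exact line_sum hd h5 F0 w
  · have hb : Function.Bijective fun c : F × F => (⟨c.1 • f + c.2 • g, add_mem (Submodule.smul_mem _ _ Pln.f_mem)
        (Submodule.smul_mem _ _ Pln.g_mem)⟩ : ↥(Submodule.span F {f, g})) := by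
      refine ⟨fun c d h => ?_, fun ⟨u, hu⟩ => ?_⟩
      · have h1 := congrArg (fun x => frm J x.1 f) h
        have h1' := congrArg (fun x => frm J x.1 g) h
        simp only [frm_add_left, frm_smul_left, hp.hgf, frm_comm hd.sym f g, mul_zero, add_zero, zero_add] at h1 h1'
        exact Prod.ext (mul_right_cancel₀ hp.hσ h1) (mul_right_cancel₀ hρ h1')
      · obtain ⟨α, γ, rfl⟩ := Submodule.mem_span_pair.1 hu
        exact ⟨(α, γ), rfl⟩
    rw [← (Equiv.ofBijective _ hb).sum_comp, Fintype.sum_prod_type]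
    obtain ⟨W, hW⟩ : ∃ W, W = ∑ γ : F, conjMat (rootE (t := t) hd (γ • G0)) w := ⟨_, rfl⟩
    have hinner : ∀ α : F, ∑ γ : F, conjMat (rootE (t := t) hd ⟨(Equiv.ofBijective _ hb (α, γ)).1,
        hp.mem_mid (Equiv.ofBijective _ hb (α, γ)).2⟩) w = conjMat (rootE hd (α • F0)) W := by
      intro α
      rw [hW, map_sum]
      refine Finset.sum_congr rfl fun γ _ => ?_
      rw [← conjMat_mul, ← rootE_add]
      rfl
    rw [Finset.sum_congr rfl fun α _ => hinner α]
    refine half_mem hd ?_
    have hE : S 0 (EA J a) * W = W * S 0 (EA J a) := hW ▸ line_comm hd G0 w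
    have hflip : ∑ α : F, conjMat (rootE (t := t) hd (α • F0)) W = ∑ α : F, conjMat (rootE (t := t) hd (-(α • F0))) W :=
      Fintype.sum_equiv (Equiv.neg F) _ _ fun α => by
        rw [Equiv.neg_apply, show -((-α) • F0) = α • F0 from Subtype.ext (by
          show -((-α) • f) = α • f
          rw [neg_smul, neg_neg])]
    nth_rewrite 2 [hflip]
    rw [← Finset.sum_add_distrib]
    have h := Submodule.sum_mem (cornerSp a b) (t := Finset.univ) fun (α : F) _ => second_diff hd (α • F0) hE
    rwa [Finset.sum_sub_distrib, Finset.sum_const, Finset.card_univ, ← Nat.cast_smul_eq_nsmul F,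
      FiniteField.cast_card_eq_zero, zero_smul, sub_zero] at h

end Cfsg.Agent.TensorWreath.Or
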