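import Cfsg.Agent.Lib.Forms.Max.TensorWreath.Orth.Good
import Cfsg.Agent.Lib.Forms.Max.TensorWreath.Orth.Sums
import Cfsg.Agent.Lib.Forms.Max.TensorWreath.Orth.SkewSum
import Cfsg.Agent.Lib.Forms.Max.TensorWreath.Contract

/-!
# Tame overgroups lie in the wreath group
-/

set_option autoImplicit false
set_option linter.unusedSectionVars false
set_option linter.unusedSimpArgs false
set_option maxHeartbeats 1000000

namespace Cfsg.Agent.TensorWreath.Or

open Matrix Cfsg.Agent.Aschbacher

section Adjoint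

variable {F : Type*} [Field F] {ι : Type} [Fintype ι] [DecidableEq ι] {P : Matrix ι ι F}

/-- the adjoint with respect to a form -/
noncomputable def adjo (P M : Matrix ι ι F) : Matrix ι ι F := P⁻¹ * Mᵀ * P

theorem sub_adjo_skew (hS : Sym P) (M : Matrix ι ι F) : M - adjo P M ∈ skew P := by
  have h := Matrix.mul_nonsing_inv P ((Matrix.isUnit_iff_isUnit_det P).1 hS.unit)
  have e : P * adjo P M = Mᵀ * P := by
    rw [adjo, ← Matrix.mul_assoc, ← Matrix.mul_assoc, h, Matrix.one_mul]
  rw [mem_skew, mul_sub, e, transpose_sub, transpose_mul, transpose_mul, transpose_transpose, hS.symm, neg_sub]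

theorem adjo_of_skew (hS : Sym P) {M : Matrix ι ι F} (h : M ∈ skew P) : adjo P M = -M := by
  have h1 := Matrix.nonsing_inv_mul P ((Matrix.isUnit_iff_isUnit_det P).1 hS.unit)
  rw [mem_skew, transpose_mul, hS.symm] at h
  rw [adjo, Matrix.mul_assoc, h, Matrix.mul_neg, ← Matrix.mul_assoc, h1, Matrix.one_mul]

theorem trace_adjo (hS : Sym P) (M : Matrix ι ι F) : (adjo P M).trace = M.trace := by
  have h1 := Matrix.mul_nonsing_inv P ((Matrix.isUnit_iff_isUnit_det P).1 hS.unit)
  rw [adjo, Matrix.trace_mul_comm, ← Matrix.mul_assoc, h1, Matrix.one_mul, trace_transpose]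

theorem adjo_add (M N : Matrix ι ι F) : adjo P (M + N) = adjo P M + adjo P N := by
  rw [adjo, adjo, adjo, transpose_add, mul_add, add_mul]

theorem adjo_smul (c : F) (M : Matrix ι ι F) : adjo P (c • M) = c • adjo P M := by
  rw [adjo, adjo, transpose_smul, mul_smul_comm, smul_mul_assoc]

theorem trace_op (x y : ι → F) : (op P x y).trace = frm P x y := by
  rw [op, trace_vecMulVec]
  rfl

end Adjoint

variable {F : Type*} [Field F] {k t : ℕ} {J : Matrix (Fin k) (Fin k) F} {a b : Fin k}

theorem adjo_pure (hS : Sym J) (X : Fin t → Matrix (Fin k) (Fin k) F) :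
    adjo (gram t J) (pureTensor X) = pureTensor fun i => adjo J (X i) := by
  have h1 := Matrix.nonsing_inv_mul J ((Matrix.isUnit_iff_isUnit_det J).1 hS.unit)
  have e : (gram t J)⁻¹ = pureTensor fun _ : Fin t => J⁻¹ := Matrix.inv_eq_left_inv (by
    rw [gram, ← map_mul, ← map_one (pureTensor (F := F) (m := k) (t := t))]
    congr 1
    funext i
    exact h1)
  rw [adjo, e, pure_transpose, gram, ← map_mul, ← map_mul]
  rfl

/-- the contraction on pure tensors -/
theorem swSum_pure (X : Fin t → Matrix (Fin k) (Fin k) F) :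
    ctr (swSum F k t) (pureTensor X) = ∑ j, (∏ l ∈ Finset.univ.erase j, (X l).trace) • S j (X j) := by
  classical
  rw [swSum, ctr_sum]
  refine Finset.sum_congr rfl fun j _ => ?_
  rw [ctr_kp_pure, slotHom_apply]
  have e : (fun l => ctr ((Function.update 1 j (sw F k) : Fin t → _) l) (X l)) =
      fun l => (if l = j then 1 else (X l).trace) • (Pi.mulSingle j (X j) : Fin t → _) l := by
    funext l
    rcases eq_or_ne l j with rfl | hl
    · rw [Function.update_self, ctr_sw, if_pos rfl, Pi.mulSingle_eq_same, one_smul]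
    · rw [Function.update_of_ne hl, Pi.one_apply, ctr_one, if_neg hl, Pi.mulSingle_eq_of_ne hl]
  rw [e, pureTensor_smul]
  congr 1
  rw [← Finset.mul_prod_erase _ _ (Finset.mem_univ j), if_pos rfl, one_mul]
  exact Finset.prod_congr rfl fun l hl => if_neg (Finset.ne_of_mem_erase hl)

theorem swSum_skew (hS : Sym J) {M : Matrix (Fin t → Fin k) (Fin t → Fin k) F} (hM : M ∈ skew (gram t J)) :
    ctr (swSum F k t) M ∈ Lsk t J := by
  have key : ∀ N, ctr (swSum F k t) (N - adjo (gram t J) N) ∈ Lsk t J := by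
    intro N
    induction N using pure_induction with
    | h0 => simp [adjo]
    | hadd u v hu hv =>
      rw [adjo_add, add_sub_add_comm, map_add]
      exact add_mem hu hv
    | hsmul c u hu =>
      rw [adjo_smul, ← smul_sub, map_smul]
      exact Submodule.smul_mem _ c hu
    | hpure X =>
      rw [map_sub, adjo_pure hS, swSum_pure, swSum_pure, ← Finset.sum_sub_distrib]
      refine Submodule.sum_mem _ fun j _ => ?_
      simp only [trace_adjo hS]
      rw [← smul_sub, ← map_sub]
      exact Submodule.smul_mem _ _ (S_mem_Lsk j (sub_adjo_skew hS _))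
  have h := key M
  rw [adjo_of_skew (gram_sym hS) hM, sub_neg_eq_add, ← two_smul F, map_smul] at h
  exact (Submodule.smul_mem_iff _ hS.two).1 h

/-- a map killing pure tensors with a skew slot kills all skew operators -/
theorem skew_kill {M' : Type*} [AddCommGroup M'] [Module F M'] (hS : Sym J)
    (L : Matrix (Fin t → Fin k) (Fin t → Fin k) F →ₗ[F] M')
    (hL : ∀ (Y : Fin t → Matrix (Fin k) (Fin k) F) (j : Fin t), Y j ∈ skew J → L (pureTensor Y) = 0)
    {M : Matrix (Fin t → Fin k) (Fin t → Fin k) F} (hM : M ∈ skew (gram t J)) : L M = 0 := by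
  classical
  have key : ∀ N, L (N - adjo (gram t J) N) = 0 := by
    intro N
    induction N using pure_induction with
    | h0 => simp [adjo]
    | hadd u v hu hv => rw [adjo_add, add_sub_add_comm, map_add, hu, hv, add_zero]
    | hsmul c u hu => rw [adjo_smul, ← smul_sub, map_smul, hu, smul_zero]
    | hpure X =>
      have h : ∀ s : Finset (Fin t),
          L (pureTensor X) = L (pureTensor fun l => if l ∈ s then adjo J (X l) else X l) := by
        intro s
        induction s using Finset.induction_on with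
        | empty => simp
        | insert j s hj ih =>
          rw [ih, ← sub_eq_zero, ← map_sub]
          obtain ⟨Y, hY⟩ : ∃ Y : Fin t → Matrix (Fin k) (Fin k) F,
              ∀ l, Y l = if l ∈ s then adjo J (X l) else X l := ⟨_, fun _ => rfl⟩
          have e1 : (fun l => if l ∈ s then adjo J (X l) else X l) = Function.update Y j (X j) := funext fun l => by
            rcases eq_or_ne l j with rfl | hl
            · rw [Function.update_self, if_neg hj]
            · rw [Function.update_of_ne hl, hY]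
          have e2 : (fun l => if l ∈ insert j s then adjo J (X l) else X l) = Function.update Y j (adjo J (X j)) :=
            funext fun l => by
              rcases eq_or_ne l j with rfl | hl
              · rw [Function.update_self, if_pos (Finset.mem_insert_self l s)]
              · rw [Function.update_of_ne hl, hY]; simp [Finset.mem_insert, hl]
          have e3 : pureTensor (Function.update Y j (X j)) - pureTensor (Function.update Y j (adjo J (X j))) =
              pureTensor (Function.update Y j (X j - adjo J (X j))) := by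
            ext x y
            simp only [Matrix.sub_apply, pureTensor_apply]
            rw [← Finset.mul_prod_erase _ _ (Finset.mem_univ j), ← Finset.mul_prod_erase _ _ (Finset.mem_univ j),
              ← Finset.mul_prod_erase _ _ (Finset.mem_univ j)]
            simp only [Function.update_self, Matrix.sub_apply, sub_mul]
            congr 1 <;> congr 1 <;>
              exact Finset.prod_congr rfl fun l hl => by
                simp only [Function.update_of_ne (Finset.ne_of_mem_erase hl)]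
          rw [e1, e2, e3]
          exact hL _ j (by rw [Function.update_self]; exact sub_adjo_skew hS _)
      rw [map_sub, adjo_pure hS, sub_eq_zero]
      have := h Finset.univ
      simpa using this
  have h := key M
  rw [adjo_of_skew (gram_sym hS) hM, sub_neg_eq_add, ← two_smul F, map_smul] at h
  exact (smul_eq_zero.1 h).resolve_left hS.two

variable [Fintype F] (hd : Hyp J a b)
include hd

/-- an equivariant extension of the contraction which agrees with it up to corners on fixed vectors -/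
theorem err_spec {f₀ g₀ : Fin k → F} (hp : Pln J a b f₀ g₀) {t : ℕ}
    (IH : ∀ G' : Subgroup (GL (Fin (t + 1) → Fin k) F), Over J G' → G' ≤ Wr F k (t + 1) ∨ (1 ≤ t ∧ Om (gram (t + 1) J) ≤ G'))
    {G : Subgroup (GL (Fin (t + 1 + 1) → Fin k) F)} (hG : Over J G) (hT : TameU hd.sym a b G) :
    ∃ ρ : Matrix (Fin (t + 1 + 1) → Fin k) (Fin (t + 1 + 1) → Fin k) F →ₗ[F]
        Matrix (Fin (t + 1 + 1) → Fin k) (Fin (t + 1 + 1) → Fin k) F,
      (∀ g ∈ G, ∀ v, ρ (conjMat g v) = conjMat g (ρ v)) ∧
      ∀ (j : Fin (t + 1 + 1)) v,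
        (∀ u (hu : u ∈ Submodule.span F {f₀, g₀}),
          conjMat (sgl j (sg hd.sym (Pi.single a 1) u (frm_aa hd) (frm_au hd (hp.mem_mid hu)))) v = v) →
        conjMat (permGL (Equiv.swap 0 j)) (ρ v - ctr (swSum F k (t + 1 + 1)) v) ∈ cornerSp a b := by
  classical
  have hk : 2 ≤ k := by have := hd.hk; omega
  obtain ⟨p, hp'⟩ := CharP.exists F
  have : Fact p.Prime := ⟨(CharP.char_is_prime_or_zero F p).resolve_right (CharP.char_ne_zero_of_finite F p)⟩
  set R := ctr (swSum F k (t + 1 + 1))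
  have hR : ∀ h ∈ Wr F k (t + 1 + 1), ∀ v, R (conjMat h v) = conjMat h (R v) := fun h hh v => ctr_equiv (swSum_fixed hh) v
  let H : Subgroup G := (Wr F k (t + 1 + 1)).subgroupOf G
  let L : G → (Matrix (Fin (t + 1 + 1) → Fin k) (Fin (t + 1 + 1) → Fin k) F →ₗ[F] Matrix (Fin (t + 1 + 1) → Fin k) (Fin (t + 1 + 1) → Fin k) F) :=
    fun g => (conjMat g.1).toLinearMap ∘ₗ R ∘ₗ (conjMat g.1⁻¹).toLinearMap
  have hL : ∀ g v, L g v = conjMat g.1 (R (conjMat g.1⁻¹ v)) := fun g v => rfl
  let Lq : G ⧸ H → _ := fun x => L x.out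
  have hLq : ∀ (g : G) v, Lq (QuotientGroup.mk g) v = L g v := fun g v => by
    obtain ⟨h, hh⟩ := QuotientGroup.mk_out_eq_mul H g
    show L (QuotientGroup.mk g : G ⧸ H).out v = _
    rw [hh, hL, hL, Subgroup.coe_mul, _root_.mul_inv_rev, conjMat_mul, conjMat_mul,
      hR ((h : G).1)⁻¹ ((Wr F k (t + 1 + 1)).inv_mem (Subgroup.mem_subgroupOf.1 h.2)), ← conjMat_mul (h : G).1, mul_inv_cancel]
    simp [conjMat_apply]
  have hsm : ∀ (g : G) (x : G ⧸ H) v, Lq (g • x) (conjMat g.1 v) = conjMat g.1 (Lq x v) := fun g x v => by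
    induction x using QuotientGroup.induction_on with
    | H r =>
      rw [MulAction.Quotient.smul_mk, smul_eq_mul, hLq, hLq, hL, hL, Subgroup.coe_mul, _root_.mul_inv_rev,
        ← conjMat_mul (g := g.1), ← conjMat_mul (r.1⁻¹ * g.1⁻¹), inv_mul_cancel_right]
  refine ⟨∑ x, Lq x, fun g hg v => ?_, fun j v hv => ?_⟩
  · rw [LinearMap.sum_apply, LinearMap.sum_apply, map_sum]
    exact (Fintype.sum_equiv (MulAction.toPerm (⟨g, hg⟩ : G)) _ _ fun x => (hsm ⟨g, hg⟩ x v).symm).symm
  set A := ↥(Submodule.span F ({f₀, g₀} : Set (Fin k → F))) with hA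
  haveI : Fintype A := Fintype.ofFinite _
  obtain ⟨w, hw⟩ : ∃ w : GL (Fin (t + 1 + 1) → Fin k) F, w = permGL (Equiv.swap 0 j) := ⟨_, rfl⟩
  let r : A → GL (Fin (t + 1 + 1) → Fin k) F := fun c => rootE hd ⟨c.1, hp.mem_mid c.2⟩
  have hmem : ∀ c : A, sgl j (sg hd.sym (Pi.single a 1) c.1 (frm_aa hd) (frm_au hd (hp.mem_mid c.2))) ∈ G :=
    fun c => hG.slot hk j (sg_mem_Sl _ _ _)
  let u : A → G := fun c => ⟨_, hmem c⟩
  have hu0 : u 0 = 1 := Subtype.ext (by
    show sgl j _ = 1
    rw [← map_one (sgl (F := F) (m := k) j)]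
    congr 1
    exact sg_zero hd.sym (frm_aa hd))
  have huadd : ∀ c d, u (c + d) = u c * u d := fun c d => Subtype.ext (by
    show sgl j _ = sgl j _ * sgl j _
    rw [← map_mul, sg_mul]
    rfl)
  have hwu : ∀ c, w * (u c).1 = r c * w := fun c => by
    refine Units.ext ?_
    rw [Units.val_mul, Units.val_mul, hw]
    show (permGL (Equiv.swap 0 j)).val * (sgl j _).val = (sgl 0 _).val * (permGL (Equiv.swap 0 j)).val
    rw [sgl_coe, sgl_coe, ← conjMat_eq_iff_mul, conj_perm_S, Equiv.swap_apply_right]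
  let f : G ⧸ H → Matrix (Fin (t + 1 + 1) → Fin k) (Fin (t + 1 + 1) → Fin k) F := fun x => conjMat w (Lq x v)
  have hf : ∀ c x, f (u c • x) = conjMat (r c) (f x) := fun c x => by
    have h1 := hsm (u c) x v
    rw [show conjMat (u c).1 v = v from hv c.1 c.2] at h1
    show conjMat w (Lq (u c • x) v) = conjMat (r c) (conjMat w (Lq x v))
    rw [h1, ← conjMat_mul, ← conjMat_mul, hwu]
  set x₀ : G ⧸ H := QuotientGroup.mk 1
  have he0 : ∀ x : G ⧸ H, u 0 • x = x := fun x => by rw [hu0]; exact one_smul _ _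
  have headd : ∀ c d (x : G ⧸ H), u (c + d) • x = u c • u d • x := fun c d x => by rw [huadd, mul_smul]
  have hfix0 : ∀ c, u c • x₀ = x₀ := fun c => by
    rw [MulAction.Quotient.smul_mk, smul_eq_mul, mul_one]
    refine QuotientGroup.eq.2 ?_
    rw [mul_one, Subgroup.inv_mem_iff, Subgroup.mem_subgroupOf]
    exact sgl_mem _ _
  have hne0 : ∀ c (x : G ⧸ H), x ≠ x₀ → u c • x ≠ x₀ := fun c x hx h => hx (smul_left_cancel _ (h.trans (hfix0 c).symm))
  set T := (Finset.univ.erase x₀).filter fun x => ∃ c, c ≠ 0 ∧ u c • x = x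
  set T' := (Finset.univ.erase x₀).filter fun x => ¬∃ c, c ≠ 0 ∧ u c • x = x
  have hinvQ : ∀ c (x : G ⧸ H), (∃ d, d ≠ 0 ∧ u d • x = x) → ∃ d, d ≠ 0 ∧ u d • (u c • x) = u c • x := by
    rintro c x ⟨d, hd0, hdx⟩
    exact ⟨d, hd0, by rw [← headd, add_comm d c, headd, hdx]⟩
  have hpM : ∀ m : Matrix (Fin (t + 1 + 1) → Fin k) (Fin (t + 1 + 1) → Fin k) F, p • m = 0 := fun m => by
    rw [← Nat.cast_smul_eq_nsmul F, CharP.cast_eq_zero, zero_smul]
  have hTmem : ∑ x ∈ T, f x ∈ cornerSp a b := by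
    refine sum_orbits p (fun c : A => by rw [← Nat.cast_smul_eq_nsmul F, CharP.cast_eq_zero, zero_smul]) hpM
      (cornerSp a b).toAddSubgroup (fun m hm => half_mem hd hm) (fun c x => u c • x) he0 headd f T
      (fun c x hx => ?_) (fun x hx => ?_) fun c x hx => ?_
    · obtain ⟨hx1, hx2⟩ := Finset.mem_filter.1 hx
      exact Finset.mem_filter.2 ⟨Finset.mem_erase.2 ⟨hne0 c x (Finset.mem_erase.1 hx1).1, Finset.mem_univ _⟩, hinvQ c x hx2⟩
    · obtain ⟨hx1, -⟩ := Finset.mem_filter.1 hx
      by_contra hno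
      push Not at hno
      refine (Finset.mem_erase.1 hx1).1 ?_
      obtain ⟨g, rfl⟩ := QuotientGroup.mk_surjective x
      refine QuotientGroup.eq.2 ?_
      rw [mul_one, Subgroup.inv_mem_iff, Subgroup.mem_subgroupOf]
      refine goodU hd hp IH hG hT g.2 j fun c hc => ?_
      have h := hno ⟨c, hc⟩
      rw [MulAction.Quotient.smul_mk, smul_eq_mul, QuotientGroup.eq, Subgroup.mem_subgroupOf] at h
      have := inv_mem h
      simpa [u, mul_assoc] using this
    · obtain ⟨-, d, hd0, hdx⟩ := Finset.mem_filter.1 hx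
      show f (u c • x) + f (u (-c) • x) - (f x + f x) ∈ cornerSp a b
      rw [hf, hf]
      refine second_diff hd ⟨c.1, hp.mem_mid c.2⟩ (comm_of_fixed hd (u := ⟨d.1, hp.mem_mid d.2⟩)
        (hp.aniso hd d.2 fun h => hd0 (Subtype.ext h)) ?_)
      show conjMat (r d) (f x) = f x
      rw [← hf, hdx]
  have hfree : ∑ x ∈ T', f x ∈ cornerSp a b := by
    obtain ⟨z, hz⟩ := sum_free (A := A) (fun c x => u c • x) he0 headd f
      (fun c => (conjMat (r c)).toLinearMap.toAddMonoidHom) hf T'
      (fun c x hx => by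
        obtain ⟨hx1, hx2⟩ := Finset.mem_filter.1 hx
        refine Finset.mem_filter.2 ⟨Finset.mem_erase.2 ⟨hne0 c x (Finset.mem_erase.1 hx1).1, Finset.mem_univ _⟩, fun h => hx2 ?_⟩
        obtain ⟨d, hd0, hd'⟩ := hinvQ (-c) _ h
        rw [show u (-c) • (u c • x) = x by rw [← headd, neg_add_cancel, he0]] at hd'
        exact ⟨d, hd0, hd'⟩)
      (fun c x hx h => by
        by_contra hc
        exact (Finset.mem_filter.1 hx).2 ⟨c, hc, h⟩)
    rw [hz]
    exact plane_sum hd hp z
  have hx0 : Lq x₀ v = R v := by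
    rw [hLq, hL]
    simp [conjMat_apply]
  rw [LinearMap.sum_apply, ← Finset.add_sum_erase _ _ (Finset.mem_univ x₀), hx0, add_sub_cancel_left, ← hw, map_sum,
    ← Finset.sum_filter_add_sum_filter_not (Finset.univ.erase x₀) (fun x => ∃ c, c ≠ 0 ∧ u c • x = x)]
  exact add_mem hTmem hfree

/-- the double odd operator moves the centre off itself -/
theorem T2_EA {f : Fin k → F} (hf : f ∈ mid F a b) :
    (T2 hd hf hf (EA J a) + frm J f f • EA J a) *ᵥ f = (-(frm J f f * frm J f f)) • f := by
  have h2 := hd.sym.two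
  have hodd : ∀ {e u : Fin k → F} (he : frm J e e = 0) (hu : frm J e u = 0) (x y : Fin k → F),
      odd hd.sym e u he hu (op J x y) =
        op J (frm J e x • u - frm J u x • e) (y - ((2 : F)⁻¹ * frm J u u * frm J e y) • e) +
        op J (x - ((2 : F)⁻¹ * frm J u u * frm J e x) • e) (frm J e y • u - frm J u y • e) := by
    intro e u he hu x y
    rw [odd_apply, conj_op (sg_iso hd.sym he hu), conj_op (sg_iso hd.sym he _), sg_mulVec, sg_mulVec, sg_mulVec,
      sg_mulVec]
    simp only [frm_neg_left, frm_neg_right, neg_neg, op_add_left, op_add_right, op_sub_left, op_sub_right,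
      op_smul_left, op_smul_right, op_neg_left, op_neg_right]
    match_scalars <;> field_simp <;> ring
  rw [T2, LinearMap.comp_apply, EA, hodd, map_add, hodd, hodd]
  simp only [frm_add_left, frm_add_right, frm_sub_left, frm_sub_right, frm_smul_left, frm_smul_right, frm_aa hd,
    frm_ab hd, frm_ba hd, frm_bb hd, frm_au hd hf, frm_ua hd hf, frm_bu hd hf, frm_ub hd hf, add_mulVec, smul_mulVec,
    op_mulVec hd.sym]
  match_scalars <;> field_simp <;> ring

/-- tame overgroups lie in the wreath group -/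
theorem tame_le {t : ℕ}
    (IH : ∀ G' : Subgroup (GL (Fin (t + 1) → Fin k) F), Over J G' → G' ≤ Wr F k (t + 1) ∨ (1 ≤ t ∧ Om (gram (t + 1) J) ≤ G'))
    {G : Subgroup (GL (Fin (t + 1 + 1) → Fin k) F)} (hG : Over J G) (hT : TameU hd.sym a b G) :
    G ≤ Wr F k (t + 1 + 1) := by
  classical
  have h2 := hd.sym.two
  have hk : 2 ≤ k := by have := hd.hk; omega
  obtain ⟨f₀, g₀, hp⟩ := exists_pln hd
  obtain ⟨ρ, hρ, herr⟩ := err_spec hd hp IH hG hT
  set R := ctr (swSum F k (t + 1 + 1))
  set D := ρ - R with hDd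
  have hf0 := hp.hf
  have hσ := hp.hσ
  -- pure tensors with one skew slot
  have hD : ∀ (Y : Fin (t + 1 + 1) → Matrix (Fin k) (Fin k) F) (j : Fin (t + 1 + 1)), Y j ∈ skew J → D (pureTensor Y) = 0 := by
    intro Y j hY
    obtain ⟨w, hw⟩ : ∃ w : GL (Fin (t + 1 + 1) → Fin k) F, w = permGL (Equiv.swap 0 j) := ⟨_, rfl⟩
    have hww : ∀ M, conjMat w⁻¹ (conjMat w M) = M ∧ conjMat w (conjMat w⁻¹ M) = M := fun M => by
      rw [← conjMat_mul, ← conjMat_mul, inv_mul_cancel, mul_inv_cancel]
      simp [conjMat_apply]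
    obtain ⟨M, hM⟩ : ∃ M, M = pureTensor (Fin.tail (Y ∘ ⇑(Equiv.swap (0 : Fin (t + 1 + 1)) j))) := ⟨_, rfl⟩
    have hYw : conjMat w (pureTensor Y) = S 0 (Y j) * lift M := by
      rw [hw, conj_perm_pureT, Equiv.symm_swap, hM, S0_lift_pure,
        show Y j = (Y ∘ ⇑(Equiv.swap (0 : Fin (t + 1 + 1)) j)) 0 by simp, Fin.cons_self_tail]
    obtain ⟨Φ, hΦ⟩ : ∃ Φ : Matrix (Fin k) (Fin k) F →ₗ[F]
        Matrix (Fin (t + 1 + 1) → Fin k) (Fin (t + 1 + 1) → Fin k) F,
        ∀ z, Φ z = conjMat w (D (conjMat w⁻¹ (S 0 z * lift M))) :=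
      ⟨{ toFun := fun z => conjMat w (D (conjMat w⁻¹ (S 0 z * lift M)))
         map_add' := fun z z' => by simp only [map_add, add_mul]
         map_smul' := fun c z => by simp only [map_smul, smul_mul_assoc, RingHom.id_apply] }, fun z => rfl⟩
    have hjG : ∀ {x : GL (Fin k) F}, x ∈ Sl hd.sym → sgl j x ∈ G := fun hx => hG.slot hk j hx
    have hwx : ∀ x : GL (Fin k) F, w * sgl j x = sgl 0 x * w := fun x => by
      refine Units.ext ?_
      rw [Units.val_mul, Units.val_mul, hw, sgl_coe, sgl_coe, ← conjMat_eq_iff_mul, conj_perm_S, Equiv.swap_apply_right]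
    have hwx' : ∀ x : GL (Fin k) F, sgl j x * w⁻¹ = w⁻¹ * sgl 0 x := fun x => by
      rw [eq_inv_mul_iff_mul_eq, ← mul_assoc, hwx, mul_inv_cancel_right]
    have hDeq : ∀ {x : GL (Fin k) F}, x ∈ Sl hd.sym → ∀ v, D (conjMat (sgl j x) v) = conjMat (sgl j x) (D v) := by
      intro x hx v
      rw [hDd, LinearMap.sub_apply, LinearMap.sub_apply, hρ _ (hjG hx), map_sub]
      congr 1
      exact ctr_equiv (swSum_fixed (sgl_mem j x)) v
    have hΦx : ∀ {x : GL (Fin k) F}, x ∈ Sl hd.sym → ∀ z, Φ (conjMat x z) = conjMat (sgl 0 x) (Φ z) := by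
      intro x hx z
      rw [hΦ, hΦ, ← conj_sgl0_S0_lift, ← conjMat_mul w⁻¹, ← hwx', conjMat_mul, hDeq hx, ← conjMat_mul, hwx, conjMat_mul]
    have hQ : ∀ u (hu : u ∈ mid F a b), conjMat (sg hd.sym (Pi.single a 1) u (frm_aa hd) (frm_au hd hu))
        (Qm J (Pi.single a 1) f₀) = Qm J (Pi.single a 1) f₀ := fun u hu => by
      rw [conj_Qm (sg_iso _ _ _), sg_mulVec, sg_mulVec, frm_aa hd, frm_ua hd hu, frm_au hd hf0]
      simp only [mul_zero, zero_smul, add_zero, sub_zero, Qm, op_sub_left, op_sub_right, op_smul_left, op_smul_right]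
      abel
    obtain ⟨Z, hZ⟩ : ∃ Z, Φ (Qm J (Pi.single a 1) f₀) = S 0 (EA J a) * lift Z := by
      refine cornerSp_form hd ?_
      rw [hΦ, hw]
      refine herr j _ fun u hu => ?_
      rw [← conjMat_mul, ← hw, hwx', conjMat_mul, conj_sgl0_S0_lift, hQ u (hp.mem_mid hu)]
    have hodd : ∀ (e u : Fin k → F) (he : frm J e e = 0) (hu : frm J e u = 0) z z',
        Φ z = S 0 z' * lift Z → Φ (odd hd.sym e u he hu z) = S 0 (odd hd.sym e u he hu z') * lift Z := by
      intro e u he hu z z' h
      rw [odd_apply, odd_apply, map_smul, map_sub, hΦx (sg_mem_Sl _ _ _), hΦx (sg_mem_Sl _ _ _), h, conj_sgl0_S0_lift,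
        conj_sgl0_S0_lift, map_smul, map_sub, smul_mul_assoc, sub_mul]
    have hT2 : Φ (T2 hd hf0 hf0 (Qm J (Pi.single a 1) f₀)) = S 0 (T2 hd hf0 hf0 (EA J a)) * lift Z := by
      have h1 := hodd (Pi.single b 1) f₀ (frm_bb hd) (frm_bu hd hf0) (Qm J (Pi.single a 1) f₀) (EA J a) hZ
      have h2' := hodd (Pi.single a 1) f₀ (frm_aa hd) (frm_au hd hf0) _ _ h1
      simp only [T2, LinearMap.comp_apply]
      exact h2'
    rw [T2_Qm hd hf0 hf0 hf0, show frm J f₀ f₀ • f₀ - frm J f₀ f₀ • f₀ - frm J f₀ f₀ • f₀ = (-frm J f₀ f₀) • f₀ by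
      module, Qm_smul_right, map_smul, hZ] at hT2
    have hZ0 : Z = 0 := by
      have hX : S (0 : Fin (t + 1 + 1)) (T2 hd hf0 hf0 (EA J a) + frm J f₀ f₀ • EA J a) * lift Z = 0 := by
        rw [map_add, map_smul, add_mul, smul_mul_assoc, ← hT2, ← add_smul, neg_add_cancel, zero_smul]
      obtain ⟨x, y, hxy⟩ : ∃ x y, (T2 hd hf0 hf0 (EA J a) + frm J f₀ f₀ • EA J a) x y ≠ 0 := by
        by_contra hc
        push Not at hc
        have h := T2_EA hd hf0
        rw [show T2 hd hf0 hf0 (EA J a) + frm J f₀ f₀ • EA J a = 0 from Matrix.ext hc, zero_mulVec] at h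
        rcases smul_eq_zero.1 h.symm with e | e
        · exact mul_ne_zero hσ hσ (neg_eq_zero.1 e)
        · exact hσ (by rw [e, frm_zero_left])
      have h := congrFun (congrFun (congrArg (blk (F := F) (m := k) (t := t + 1)) hX) x) y
      rw [blk_S0_lift, map_zero, Matrix.zero_apply] at h
      exact (smul_eq_zero.1 h).resolve_left hxy
    have hker : skew J ≤ LinearMap.ker Φ ⊓ skew J := by
      refine skew_top hd (fun x hx X hX => ?_) inf_le_right fun h => ?_
      · refine ⟨?_, conj_skew (Sl_le_Iso hd.sym hx) hX.2⟩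
        rw [SetLike.mem_coe, LinearMap.mem_ker, hΦx hx, LinearMap.mem_ker.1 hX.1, map_zero]
      · have hm : Qm J (Pi.single a 1) f₀ ∈ LinearMap.ker Φ ⊓ skew J :=
          ⟨by rw [SetLike.mem_coe, LinearMap.mem_ker, hZ, hZ0, map_zero, mul_zero], Qm_skew hd.sym _ _⟩
        rw [h, Submodule.mem_bot] at hm
        exact hσ (by rw [Qa_inj hd hf0 hm, frm_zero_left])
    have h := LinearMap.mem_ker.1 (hker hY).1
    rw [hΦ, ← hYw, (hww _).1] at h
    have h' := congrArg (conjMat w⁻¹) h
    rwa [(hww _).1, map_zero] at h'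
  have hDskew : ∀ {M}, M ∈ skew (gram (t + 1 + 1) J) → D M = 0 := fun hM => skew_kill hd.sym D hD hM
  -- the slot roots stay in the sum of the slot algebras
  intro g hg
  refine mem_of_Lsk hd (Nat.succ_pos _) fun i => ?_
  let V : Submodule F (Matrix (Fin k) (Fin k) F) := skew J ⊓
    ⨅ (h : GL (Fin (t + 1 + 1) → Fin k) F) (_ : h ∈ G), (Lsk (t + 1 + 1) J).comap ((conjMat h).toLinearMap ∘ₗ (S i).toLinearMap)
  have hmemV : ∀ {X}, X ∈ V ↔ X ∈ skew J ∧ ∀ h ∈ G, conjMat h (S i X) ∈ Lsk (t + 1 + 1) J := fun {X} => by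
    simp [V, Submodule.mem_inf, Submodule.mem_iInf]
  suffices hV : skew J ≤ V from fun X hX => (hmemV.1 (hV hX)).2 g hg
  refine skew_top hd (fun x hx X hX => ?_) inf_le_left fun h => ?_
  · obtain ⟨hX1, hX2⟩ := hmemV.1 hX
    refine hmemV.2 ⟨conj_skew (Sl_le_Iso hd.sym hx) hX1, fun h hh => ?_⟩
    have e : conjMat (sgl i x) (S i X) = S i (conjMat x X) := by
      rw [conjMat_apply, ← map_inv, sgl_coe, sgl_coe, ← map_mul, ← map_mul, ← conjMat_apply]
    rw [← e, ← conjMat_mul]
    exact hX2 _ (mul_mem hh (hG.slot hk i hx))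
  have hm : Qm J (Pi.single a 1) f₀ ∈ V := by
    refine hmemV.2 ⟨Qm_skew hd.sym _ _, fun h' hh => ?_⟩
    set P : Matrix (Fin k) (Fin k) F := op J (Pi.single a 1) (Pi.single b 1) + op J (Pi.single b 1) (Pi.single a 1)
      with hPd
    obtain ⟨X, hX⟩ : ∃ X : Fin (t + 1 + 1) → Matrix (Fin k) (Fin k) F,
        X = Function.update (fun _ => P) i (Qm J (Pi.single a 1) f₀) := ⟨_, rfl⟩
    have hXs : pureTensor X ∈ skew (gram (t + 1 + 1) J) := by
      have e := pure_parity (J := J) ({i} : Finset (Fin (t + 1 + 1))) (X := X)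
        (fun l hl => by rw [Finset.mem_singleton.1 hl, hX, Function.update_self]; exact Qm_skew hd.sym _ _)
        (fun l hl => by
          rw [hX, Function.update_of_ne (Finset.mem_singleton.not.1 hl), hPd, mem_slf, mul_add, transpose_add,
            J_op_transpose hd.sym, J_op_transpose hd.sym, add_comm])
      rw [Finset.card_singleton, pow_one, neg_one_smul] at e
      exact mem_skew.2 e
    have hRX : R (pureTensor X) = (2 : F) ^ (t + 1) • S i (Qm J (Pi.single a 1) f₀) := by
      have hQ0 : (Qm J (Pi.single a 1) f₀).trace = 0 := by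
        rw [Qm, trace_sub, trace_op, trace_op, frm_au hd hf0, frm_ua hd hf0, sub_zero]
      show ctr (swSum F k (t + 1 + 1)) _ = _
      rw [swSum_pure, Finset.sum_eq_single i (fun l _ hl => by
        rw [Finset.prod_eq_zero (Finset.mem_erase.2 ⟨Ne.symm hl, Finset.mem_univ _⟩) (by
          rw [hX, Function.update_self, hQ0]), zero_smul]) (by simp), hX, Function.update_self]
      congr 1
      rw [Finset.prod_congr rfl (g := fun _ => (2 : F)) fun l hl => ?_, Finset.prod_const,
        Finset.card_erase_of_mem (Finset.mem_univ i), Finset.card_univ, Fintype.card_fin]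
      · rfl
      · rw [Function.update_of_ne (Finset.ne_of_mem_erase hl), hPd, trace_add, trace_op, trace_op, frm_ab hd, frm_ba hd,
          one_add_one_eq_two]
    have hρX : ρ (pureTensor X) = R (pureTensor X) := by
      have := hDskew hXs
      rwa [hDd, LinearMap.sub_apply, sub_eq_zero] at this
    have hgX : conjMat h' (pureTensor X) ∈ skew (gram (t + 1 + 1) J) := conj_skew (hG.iso hh) hXs
    have hρg : ρ (conjMat h' (pureTensor X)) = R (conjMat h' (pureTensor X)) := by
      have := hDskew hgX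
      rwa [hDd, LinearMap.sub_apply, sub_eq_zero] at this
    have hmain : conjMat h' (R (pureTensor X)) ∈ Lsk (t + 1 + 1) J := by
      rw [← hρX, ← hρ _ hh, hρg]
      exact swSum_skew hd.sym hgX
    rw [hRX, map_smul] at hmain
    exact (Submodule.smul_mem_iff _ (pow_ne_zero _ h2)).1 hmain
  rw [h, Submodule.mem_bot] at hm
  exact hσ (by rw [Qa_inj hd hf0 hm, frm_zero_left])

end Cfsg.Agent.TensorWreath.Or
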