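import Cfsg.Agent.Lib.Forms.Max.TensorWreath.Orth.Shaped

/-!
# Pure patterns in invariant spaces
-/

set_option autoImplicit false
set_option linter.unusedSectionVars false
set_option linter.unusedSimpArgs false

namespace Cfsg.Agent.TensorWreath.Or

open Matrix Cfsg.Agent.Aschbacher

variable {F : Type*} [Field F] {k : ℕ} {J : Matrix (Fin k) (Fin k) F} {a b : Fin k}

/-- the values of a pattern -/
def Pat (J : Matrix (Fin k) (Fin k) F) (a b : Fin k) (X : Matrix (Fin k) (Fin k) F) : Prop :=
  X = 1 ∨ X = EA J a ∨ ∃ f ∈ mid F a b, frm J f f ≠ 0 ∧ X = Qm J (Pi.single a 1) f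

/-- invariance under the slot groups -/
def InvT {t : ℕ} {μ : Type} (hS : Sym J) (W : Submodule F (μ → Matrix (Fin t → Fin k) (Fin t → Fin k) F)) : Prop :=
  ∀ (j : Fin t), ∀ x ∈ Sl hS, ∀ Y ∈ W, cj (sgl j x) Y ∈ W

/-- separation in all slots -/
def SepT {t : ℕ} {μ : Type} (a b : Fin k) (hS : Sym J)
    (W : Submodule F (μ → Matrix (Fin t → Fin k) (Fin t → Fin k) F)) : Prop :=
  k ≠ 4 ∨ (∀ (j : Fin t) (h : Fin k → F) (hne : frm J h h ≠ 0), h ∈ mid F a b → ∀ Y ∈ W, cj (sgl j (rfl' hS h hne)) Y ∈ W) ∨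
    t = 0 ∨ (t = 1 ∧ (Subsingleton μ ∨ ∀ Y ∈ W, ∀ m, Y m ∈ slf (gram t J)))

/-- the first slot components -/
def slot0 {t : ℕ} (μ : Type) : (μ → Matrix (Fin (t + 1) → Fin k) (Fin (t + 1) → Fin k) F) →ₗ[F]
    (μ × (Fin t → Fin k) × (Fin t → Fin k) → Matrix (Fin k) (Fin k) F) where
  toFun Y m := Matrix.of fun x y => blk (Y m.1) x y m.2.1 m.2.2
  map_add' Y Y' := by funext m; ext x y; simp
  map_smul' c Y := by funext m; ext x y; simp

theorem slot0_apply {t : ℕ} {μ : Type} (Y : μ → Matrix (Fin (t + 1) → Fin k) (Fin (t + 1) → Fin k) F)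
    (m : μ × (Fin t → Fin k) × (Fin t → Fin k)) (x y : Fin k) :
    slot0 μ Y m x y = blk (Y m.1) x y m.2.1 m.2.2 := rfl

theorem slot0_conj {t : ℕ} {μ : Type} (x : GL (Fin k) F) (Y : μ → Matrix (Fin (t + 1) → Fin k) (Fin (t + 1) → Fin k) F) :
    slot0 μ (cj (sgl 0 x) Y) = cj x (slot0 μ Y) := by
  funext m
  ext i j
  rw [slot0_apply, cj_apply, cj_apply, conjMat_apply, ← map_inv, map_mul, map_mul, sgl_coe, sgl_coe, blk_S_zero, blk_S_zero,
    conjMat_apply, Matrix.mul_apply, Matrix.mul_apply, Matrix.sum_apply]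
  refine Finset.sum_congr rfl fun q _ => ?_
  rw [Matrix.map_apply, ← Algebra.commutes, ← Algebra.smul_def, Matrix.mul_apply, Matrix.mul_apply, Matrix.smul_apply,
    Matrix.sum_apply, Finset.smul_sum, Finset.sum_mul]
  refine Finset.sum_congr rfl fun p _ => ?_
  rw [Matrix.map_apply, ← Algebra.smul_def, Matrix.smul_apply, slot0_apply, smul_eq_mul, smul_eq_mul]
  ring

/-- pasting a fixed first slot -/
def paste {t : ℕ} (μ : Type) (X : Matrix (Fin k) (Fin k) F) : (μ → Matrix (Fin t → Fin k) (Fin t → Fin k) F) →ₗ[F]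
    (μ → Matrix (Fin (t + 1) → Fin k) (Fin (t + 1) → Fin k) F) where
  toFun H m := S 0 X * lift (H m)
  map_add' H H' := by funext m; simp [mul_add]
  map_smul' c H := by funext m; simp

theorem paste_apply {t : ℕ} {μ : Type} (X : Matrix (Fin k) (Fin k) F) (H : μ → Matrix (Fin t → Fin k) (Fin t → Fin k) F)
    (m : μ) : paste μ X H m = S 0 X * lift (H m) := rfl

theorem paste_conj {t : ℕ} {μ : Type} (X : Matrix (Fin k) (Fin k) F) (j : Fin t) (x : GL (Fin k) F)
    (H : μ → Matrix (Fin t → Fin k) (Fin t → Fin k) F) :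
    cj (sgl j.succ x) (paste μ X H) = paste μ X (cj (sgl j x) H) := by
  funext m
  rw [cj_apply, paste_apply, paste_apply, cj_apply]
  refine (blk (F := F) (m := k) (t := t)).injective (Matrix.ext fun p q => ?_)
  rw [← liftW_sgl, blk_liftW_conj, blk_S0_lift, blk_S0_lift, map_smul]

theorem inv_paste {t : ℕ} {μ : Type} {hS : Sym J} {W : Submodule F (μ → Matrix (Fin (t + 1) → Fin k) (Fin (t + 1) → Fin k) F)}
    (hW : InvT hS W) (X : Matrix (Fin k) (Fin k) F) : InvT hS (W.comap (paste μ X)) := fun j x hx H hH => by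
  rw [Submodule.mem_comap, ← paste_conj]
  exact hW j.succ x hx _ hH

theorem sep_paste {t : ℕ} {μ : Type} {hS : Sym J} {W : Submodule F (μ → Matrix (Fin (t + 1) → Fin k) (Fin (t + 1) → Fin k) F)}
    (hW : SepT a b hS W) (X : Matrix (Fin k) (Fin k) F) : SepT a b hS (W.comap (paste μ X)) := by
  rcases hW with h | h | h | ⟨h, -⟩
  · exact Or.inl h
  · refine Or.inr (Or.inl fun j v hne hv H hH => ?_)
    rw [Submodule.mem_comap, ← paste_conj]
    exact h j.succ v hne hv _ hH
  · exact absurd h (Nat.succ_ne_zero t)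
  · exact Or.inr (Or.inr (Or.inl (by omega)))

theorem gram_zero : gram 0 J = 1 := by
  ext x y
  rw [Subsingleton.elim x y]
  simp [gram, pureTensor_apply]

variable [Fintype F] (hd : Hyp J a b)
include hd

theorem pat_ne_one {X : Matrix (Fin k) (Fin k) F} (h : X = EA J a ∨ ∃ f ∈ mid F a b, frm J f f ≠ 0 ∧ X = Qm J (Pi.single a 1) f) :
    X ≠ 1 := by
  intro e
  have h1 := congrFun (congrFun e a) a
  rw [Matrix.one_apply_eq] at h1
  rcases h with rfl | ⟨f, hf, -, rfl⟩
  · rw [EA_eq hd, Matrix.single_apply, if_neg (fun h => hd.hab h.2.symm)] at h1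
    exact zero_ne_one h1
  · rw [Qm, Matrix.sub_apply, op_apply, op_apply, (Ju_mid hd hf).1, (mem_mid.1 hf).1, mul_zero, zero_mul, sub_zero] at h1
    exact zero_ne_one h1

/-- a nonscalar invariant tuple gives a pure pattern -/
theorem extract : ∀ (t : ℕ) {μ : Type} [Finite μ] (W : Submodule F (μ → Matrix (Fin t → Fin k) (Fin t → Fin k) F)),
    InvT hd.sym W → SepT a b hd.sym W → ∀ Y ∈ W, (∃ m, ∀ c : F, Y m ≠ c • 1) →
    ∃ lam : μ → F, lam ≠ 0 ∧ ∃ T : Fin t → Matrix (Fin k) (Fin k) F, (∀ i, Pat J a b (T i)) ∧ (∃ i, T i ≠ 1) ∧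
      (fun m => lam m • pureTensor T) ∈ W := by
  classical
  intro t
  induction t with
  | zero =>
    intro μ _ W _ _ Y _ ⟨m, hm⟩
    refine absurd ?_ (hm (Y m default default))
    ext x y
    rw [Subsingleton.elim x default, Subsingleton.elim y default, Matrix.smul_apply, Matrix.one_apply_eq, smul_eq_mul,
      mul_one]
  | succ t ih =>
    intro μ _ W hW hsep Y hY ⟨m₀, hm₀⟩
    have hk0 : 0 < k := by have := hd.hk; omega
    set μ' := μ × (Fin t → Fin k) × (Fin t → Fin k)
    by_cases hsc : ∀ m : μ', ∃ c : F, slot0 μ Y m = c • 1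
    · -- the first slot is trivial
      choose c hc using hsc
      have hYe : Y = paste μ 1 fun m => Matrix.of fun u v => c (m, u, v) := by
        funext m
        rw [paste_apply, map_one, one_mul]
        refine (blk (F := F) (m := k) (t := t)).injective ?_
        ext x y u v
        have h := congrFun (congrFun (hc (m, u, v)) x) y
        rw [slot0_apply] at h
        rw [h, blk_lift, Matrix.diagonal_apply, Matrix.smul_apply, Matrix.one_apply]
        split_ifs <;> simp
      obtain ⟨lam, hlam, T, hT, ⟨i, hi⟩, hmem⟩ := ih (W.comap (paste μ 1)) (inv_paste hW 1) (sep_paste hsep 1)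
        (fun m => Matrix.of fun u v => c (m, u, v)) (by rw [Submodule.mem_comap, ← hYe]; exact hY)
        ⟨m₀, fun r hr => hm₀ r (by rw [congrFun hYe m₀, paste_apply, map_one, one_mul, hr, map_smul, map_one])⟩
      refine ⟨lam, hlam, Fin.cons 1 T, fun i => ?_, ⟨i.succ, by simpa using hi⟩, ?_⟩
      · induction i using Fin.cases with
        | zero => exact Or.inl rfl
        | succ i => simpa using hT i
      · convert (Submodule.mem_comap.1 hmem) using 1
        funext m
        rw [paste_apply, map_smul, mul_smul_comm, S0_lift_pure]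
    · push Not at hsc
      obtain ⟨m₁, hm₁⟩ := hsc
      set V := W.map (slot0 (F := F) (k := k) (t := t) μ) with hV
      have hVi : Inv hd.sym V := by
        rintro x hx _ ⟨Z, hZ, rfl⟩
        exact ⟨_, hW 0 x hx Z hZ, slot0_conj x Z⟩
      have hsepV : Sep J a b hd.sym V := by
        rcases hsep with h | h | h | ⟨h, h'⟩
        · exact Or.inl h
        · refine Or.inr (Or.inl fun v hne hv => ?_)
          rintro _ ⟨Z, hZ, rfl⟩
          exact ⟨_, h 0 v hne hv Z hZ, slot0_conj _ Z⟩
        · exact absurd h (Nat.succ_ne_zero t)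
        · obtain rfl : t = 0 := by omega
          rcases h' with h' | h'
          · exact Or.inr (Or.inr (Or.inl inferInstance))
          · refine Or.inr (Or.inr (Or.inr ?_))
            rintro _ ⟨Z, hZ, rfl⟩ ⟨m, u, v⟩
            rw [mem_slf]
            ext x y
            have hkey : ∀ p q, (J * slot0 μ Z (m, u, v)) p q = blk (gram 1 J * Z m) p q u v := by
              intro p q
              rw [map_mul, Matrix.mul_apply, Matrix.mul_apply, Matrix.sum_apply]
              refine Finset.sum_congr rfl fun r _ => ?_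
              rw [blk_gram, gram_zero, smul_mul_assoc, one_mul, Matrix.smul_apply, smul_eq_mul, slot0_apply]
            rw [Matrix.transpose_apply, hkey, hkey, Subsingleton.elim v u]
            conv_lhs => rw [← mem_slf.1 (h' Z hZ m), blk_transpose, Matrix.transpose_apply]
      obtain ⟨X, hX, h, hh, hmem⟩ : ∃ X, (X = EA J a ∨ ∃ f ∈ mid F a b, frm J f f ≠ 0 ∧ X = Qm J (Pi.single a 1) f) ∧
          ∃ h : μ' → F, h ≠ 0 ∧ (fun m => h m • X) ∈ V := by
        rcases step hd hVi (Y := slot0 μ Y) ⟨Y, hY, rfl⟩ with ⟨h, hh, hmem⟩ | ⟨g, hg, hg0, hmem⟩ | ⟨h, e⟩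
        · exact ⟨_, Or.inl rfl, h, hh, hmem⟩
        · obtain ⟨f, hf, hσ, h, hh, hmem⟩ := sep hd hVi hsepV hg hg0 hmem
          exact ⟨_, Or.inr ⟨f, hf, hσ, rfl⟩, h, hh, hmem⟩
        · exact absurd (congrFun e m₁) (hm₁ _)
      obtain ⟨Z, hZ, hZv⟩ := hmem
      have hZe : Z = paste μ X fun m => Matrix.of fun u v => h (m, u, v) := by
        funext m
        rw [paste_apply]
        refine (blk (F := F) (m := k) (t := t)).injective ?_
        ext x y u v
        have e := congrFun (congrFun (congrFun hZv (m, u, v)) x) y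
        rw [slot0_apply] at e
        rw [e, blk_S0_lift, Matrix.smul_apply, Matrix.smul_apply, Matrix.of_apply, smul_eq_mul, smul_eq_mul, mul_comm]
      set H := fun m => Matrix.of fun u v => h (m, u, v) with hH
      have hHW : H ∈ W.comap (paste μ X) := by rw [Submodule.mem_comap, ← hZe]; exact hZ
      have hpatX : Pat J a b X := Or.inr hX
      by_cases hHs : ∀ m, ∃ c : F, H m = c • 1
      · choose lam hlam using hHs
        refine ⟨lam, fun e => hh ?_, Fin.cons X 1, fun i => ?_, ⟨0, by simpa using pat_ne_one hd hX⟩, ?_⟩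
        · funext ⟨m, u, v⟩
          have := congrFun (congrFun (hlam m) u) v
          simpa [hH, e] using this
        · induction i using Fin.cases with
          | zero => simpa using hpatX
          | succ i => exact Or.inl (by simp)
        · convert (Submodule.mem_comap.1 hHW) using 1
          funext m
          rw [paste_apply, hlam m, map_smul, mul_smul_comm, ← map_one (pureTensor (F := F) (m := k) (t := t)), S0_lift_pure]
      · push Not at hHs
        obtain ⟨lam, hlam, T, hT, -, hmem'⟩ := ih (W.comap (paste μ X)) (inv_paste hW X) (sep_paste hsep X) H hHW hHs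
        refine ⟨lam, hlam, Fin.cons X T, fun i => ?_, ⟨0, by simpa using pat_ne_one hd hX⟩, ?_⟩
        · induction i using Fin.cases with
          | zero => simpa using hpatX
          | succ i => simpa using hT i
        · convert (Submodule.mem_comap.1 hmem') using 1
          funext m
          rw [paste_apply, map_smul, mul_smul_comm, S0_lift_pure]

end Cfsg.Agent.TensorWreath.Or
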