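import Cfsg.Agent.Lib.Forms.Max.TensorWreath.Orth.Combine
import Cfsg.Agent.Lib.Forms.Max.OrthBase

/-!
# A single pair pattern generates `Ω`
-/

set_option autoImplicit false
set_option linter.unusedSectionVars false
set_option linter.unusedSimpArgs false

namespace Cfsg.Agent.TensorWreath.Or

open Matrix Cfsg.Agent.Aschbacher

section Gen
variable {F : Type*} [Field F] {ι : Type} [Fintype ι] [DecidableEq ι] {P : Matrix ι ι F}

theorem eich_coe (hS : Sym P) {u w : ι → F} (hu : qf P u = 0) (huw : QuadraticMap.polar (qf P) u w = 0) :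
    (Classical.Orth.eich u w hu huw : GL ι F).val = 1 + sgN P u w := by
  have he : frm P u u = 0 := by
    rw [qf_apply] at hu; exact (mul_eq_zero.1 hu).resolve_left (inv_ne_zero hS.two)
  have hw : frm P u w = 0 := by rw [← polar_qf hS]; exact huw
  refine (Matrix.ext_of_mulVec_single fun i => ?_).trans (sg_coe hS he hw)
  rw [← Forms.Reflections.act_apply, Classical.Orth.act_eich, sg_mulVec, polar_qf hS, polar_qf hS, qf_apply,
    frm_comm hS _ u, frm_comm hS _ w]

/-- Siegel displacements at multiples of a vector -/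
theorem sgN_smul (c : F) (e u : ι → F) : sgN P (c • e) u = sgN P e (c • u) := by
  simp only [sgN, Qm, op_smul_left, op_smul_right, frm_smul_left, frm_smul_right, smul_smul]
  congr 2
  ring

/-- the second entries at a singular vector -/
def Cent (P : Matrix ι ι F) (G : Subgroup (GL ι F)) (e w : ι → F) : Prop :=
  frm P e w = 0 ∧ ∀ c : F, ∃ g ∈ G, g.val = 1 + sgN P e (c • w)

variable {G : Subgroup (GL ι F)}

/-- the space of second entries -/
def cent (hS : Sym P) (G : Subgroup (GL ι F)) {e : ι → F} (he : frm P e e = 0) : Submodule F (ι → F) where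
  carrier := {w | Cent P G e w}
  zero_mem' := ⟨frm_zero_right e, fun c => ⟨1, one_mem _, by
    rw [Units.val_one, smul_zero, ← sg_coe hS he (frm_zero_right e), sg_zero, Units.val_one]⟩⟩
  add_mem' {w w'} := fun ⟨h, hg⟩ ⟨h', hg'⟩ => ⟨by rw [frm_add_right, h, h', add_zero], fun c => by
    obtain ⟨g, hgm, hgv⟩ := hg c
    obtain ⟨g', hgm', hgv'⟩ := hg' c
    refine ⟨g * g', mul_mem hgm hgm', ?_⟩
    have e1 : frm P e (c • w) = 0 := by rw [frm_smul_right, h, mul_zero]
    have e2 : frm P e (c • w') = 0 := by rw [frm_smul_right, h', mul_zero]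
    rw [Units.val_mul, hgv, hgv', ← sg_coe hS he e1, ← sg_coe hS he e2, ← Units.val_mul, sg_mul, sg_coe, smul_add]⟩
  smul_mem' r w := fun ⟨h, hg⟩ => ⟨by rw [frm_smul_right, h, mul_zero], fun c => by
    rw [smul_smul]; exact hg _⟩

theorem mem_cent (hS : Sym P) {e w : ι → F} {he : frm P e e = 0} : w ∈ cent hS G he ↔ Cent P G e w := Iff.rfl

theorem Cent.map {e w : ι → F} (h : Cent P G e w) {g : GL ι F} (hg : g ∈ G) (hI : g ∈ Iso P) :
    Cent P G (g.val *ᵥ e) (g.val *ᵥ w) := by
  refine ⟨by rw [iso_frm hI, h.1], fun c => ?_⟩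
  obtain ⟨s, hs, hsv⟩ := h.2 c
  refine ⟨g * s * g⁻¹, mul_mem (mul_mem hg hs) (inv_mem hg), ?_⟩
  rw [← conjMat_units, hsv, map_add, map_one, sgN, sgN, map_sub, map_smul, conj_Qm hI, conj_op hI, mulVec_smul]
  congr 3
  rw [← mulVec_smul, iso_frm hI]

theorem Cent.of_smul {e w : ι → F} {r : F} (hr : r ≠ 0) (h : Cent P G (r • e) w) : Cent P G e w := by
  refine ⟨(mul_eq_zero.1 ((frm_smul_left r e w).symm.trans h.1)).resolve_left hr, fun c => ?_⟩
  obtain ⟨s, hs, hsv⟩ := h.2 (r⁻¹ * c)
  refine ⟨s, hs, hsv.trans ?_⟩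
  rw [sgN_smul, smul_smul, ← mul_assoc, mul_inv_cancel₀ hr, one_mul]

/-- moving second entries by Eichler elements fixing the centre -/
theorem Cent.move (hS : Sym P) {e e' w' z : ι → F} (he : frm P e e = 0) (he' : frm P e' e' = 0) (h : Cent P G e' w')
    (hG : G ≤ Iso P) (h1 : frm P e' e = 0) (h2 : frm P w' e = 0) (hz : z ∈ cent hS G he) :
    frm P e' z • w' - frm P w' z • e' - ((2 : F)⁻¹ * frm P w' w' * frm P e' z) • e' ∈ cent hS G he := by
  obtain ⟨g, hg, hgv⟩ := h.2 1
  rw [one_smul] at hgv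
  have hgs : g = sg hS e' w' he' h.1 := Units.ext (hgv.trans (sg_coe hS he' h.1).symm)
  have hge : g.val *ᵥ e = e := by rw [hgs, sg_mulVec, h1, h2]; simp
  have hm := Cent.map hz hg (hG hg)
  rw [hge] at hm
  have hd := (cent hS G he).sub_mem hm hz
  rw [hgs, sg_mulVec] at hd
  convert hd using 1
  abel

end Gen

variable {F : Type*} [Field F] {k t : ℕ} {J : Matrix (Fin k) (Fin k) F} {a b : Fin k}

theorem pvec_update_lin (i : Fin t) (f : Fin t → Fin k → F) :
    ∃ L : (Fin k → F) →ₗ[F] ((Fin t → Fin k) → F), ∀ u, L u = pvec (Function.update f i u) := by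
  classical
  refine ⟨{ toFun := fun u => pvec (Function.update f i u), map_add' := fun u v => ?_, map_smul' := fun c u => ?_ },
    fun _ => rfl⟩
  all_goals
    funext x
    simp only [pvec, Pi.add_apply, Pi.smul_apply, RingHom.id_apply, smul_eq_mul]
    rw [← Finset.mul_prod_erase _ _ (Finset.mem_univ i), ← Finset.mul_prod_erase _ _ (Finset.mem_univ i)]
  · rw [← Finset.mul_prod_erase _ _ (Finset.mem_univ i)]
    simp only [Function.update_self, Pi.add_apply, add_mul]
    congr 1 <;> exact congrArg _ (Finset.prod_congr rfl fun l hl => by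
      rw [Function.update_of_ne (Finset.ne_of_mem_erase hl), Function.update_of_ne (Finset.ne_of_mem_erase hl)])
  · simp only [Function.update_self, Pi.smul_apply, smul_eq_mul, mul_assoc]
    congr 2
    exact Finset.prod_congr rfl fun l hl => by
      rw [Function.update_of_ne (Finset.ne_of_mem_erase hl), Function.update_of_ne (Finset.ne_of_mem_erase hl)]

/-- pure vectors of spans -/
theorem pvec_mem_span (T : Submodule F ((Fin t → Fin k) → F)) (s : Fin t → Set (Fin k → F))
    (h : ∀ f : Fin t → Fin k → F, (∀ i, f i ∈ s i) → pvec f ∈ T) :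
    ∀ f : Fin t → Fin k → F, (∀ i, f i ∈ Submodule.span F (s i)) → pvec f ∈ T := by
  classical
  suffices H : ∀ S : Finset (Fin t), ∀ f : Fin t → Fin k → F,
      (∀ i, (i ∈ S → f i ∈ Submodule.span F (s i)) ∧ (i ∉ S → f i ∈ s i)) → pvec f ∈ T from
    fun f hf => H Finset.univ f fun i => ⟨fun _ => hf i, fun hi => absurd (Finset.mem_univ i) hi⟩
  intro S
  induction S using Finset.induction with
  | empty => exact fun f hf => h f fun i => (hf i).2 (Finset.notMem_empty i)
  | insert i S hi ih =>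
    intro f hf
    obtain ⟨L, hL⟩ := pvec_update_lin i f
    have hle : Submodule.span F (s i) ≤ T.comap L := Submodule.span_le.2 fun u hu => by
      show L u ∈ T
      rw [hL]
      refine ih _ fun l => ?_
      rcases eq_or_ne l i with rfl | hl
      · simp [hi, hu]
      · rw [Function.update_of_ne hl]
        exact ⟨fun hm => (hf l).1 (Finset.mem_insert_of_mem hm), fun hm => (hf l).2 (by simp [hl, hm])⟩
    have := hle ((hf i).1 (Finset.mem_insert_self _ _))
    rwa [Submodule.mem_comap, hL, Function.update_eq_self] at this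

theorem pvec_smul_slots (r : Fin t → F) (f : Fin t → Fin k → F) :
    pvec (fun i => r i • f i) = (∏ i, r i) • pvec f := by
  funext x
  simp [pvec, Finset.prod_mul_distrib]

variable [Fintype F] (hd : Hyp J a b)
include hd

/-- the spanning singular vectors -/
def offA (J : Matrix (Fin k) (Fin k) F) (a b : Fin k) : Set (Fin k → F) :=
  (fun u => Pi.single b 1 + u - ((2 : F)⁻¹ * frm J u u) • Pi.single a 1) '' (mid F a b : Set (Fin k → F))

theorem offA_top : Submodule.span F (offA J a b) = ⊤ :=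
  span_iso_off hd fun u hu => Submodule.subset_span ⟨u, hu, rfl⟩

theorem offA_facts {v : Fin k → F} (hv : v ∈ offA J a b) :
    v ≠ 0 ∧ frm J v v = 0 ∧ frm J v (Pi.single a 1) = 1 ∧
      ∃ x ∈ Sl hd.sym, ∃ r : F, r ≠ 0 ∧ x.val *ᵥ Pi.single a 1 = r • v := by
  have h2 := hd.sym.two
  obtain ⟨u, hu, rfl⟩ := hv
  refine ⟨fun e => ?_, ?_, ?_, ?_⟩
  · have := congrFun e b
    simp [(mem_mid.1 hu).2, hd.hab.symm] at this
  · simp only [frm_add_left, frm_add_right, frm_sub_left, frm_sub_right, frm_smul_left, frm_smul_right, frm_aa hd,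
      frm_bb hd, frm_ab hd, frm_ba hd, frm_au hd hu, frm_bu hd hu, frm_ua hd hu, frm_ub hd hu]
    field_simp; ring
  · simp [frm_add_left, frm_sub_left, frm_smul_left, frm_aa hd, frm_ba hd, frm_ua hd hu]
  · obtain ⟨f, hf, hσ⟩ := exists_aniso hd
    obtain ⟨x, hx, xa, -, -⟩ := exists_flip hd hf hσ
    refine ⟨sg hd.sym _ u (frm_aa hd) (frm_au hd hu) * x, mul_mem (sg_mem_Sl _ _ _) hx, _,
      div_ne_zero (neg_ne_zero.2 h2) hσ, ?_⟩
    rw [Units.val_mul, ← mulVec_mulVec, xa, mulVec_smul, sg_mulVec, frm_ab hd, frm_ub hd hu]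
    congr 1
    simp

variable {G : Subgroup (GL (Fin t → Fin k) F)}

theorem pure_G (hG : Over J G) {c : Fin t → GL (Fin k) F} (hc : ∀ i, c i ∈ Sl hd.sym) :
    pureGL c ∈ G ∧ pureGL c ∈ Iso (gram t J) :=
  ⟨hG.pure (hS := hd.sym) (by have := hd.hk; omega) hc, pureGL_iso fun i => Sl_le_Iso hd.sym (hc i)⟩

theorem pure_act {c : Fin t → GL (Fin k) F} (f : Fin t → Fin k → F) :
    (pureGL c).val *ᵥ pvec f = pvec fun i => (c i).val *ᵥ f i := by
  rw [pureGL_coe, pure_mulVec_pvec]

theorem frm_pvec_zero {u w : Fin t → Fin k → F} (i : Fin t) (h : frm J (u i) (w i) = 0) :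
    frm (gram t J) (pvec u) (pvec w) = 0 := by
  rw [frm_pvec]
  exact Finset.prod_eq_zero (Finset.mem_univ i) h

/-- all of the orthogonal of the base vector -/
theorem cent_perp (hG : Over J G) (ht : 2 ≤ t) {q : Fin t} {f : Fin k → F} (hf : f ∈ mid F a b) (hσ : frm J f f ≠ 0)
    (h0 : Cent (gram t J) G (pvec fun _ => Pi.single a 1) (pvec (Function.update (fun _ => Pi.single a 1) q f)))
    {w : (Fin t → Fin k) → F} (hw : frm (gram t J) (pvec fun _ => Pi.single a 1) w = 0) :
    Cent (gram t J) G (pvec fun _ => Pi.single a 1) w := by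
  classical
  have h2 := hd.sym.two
  have hP := gram_sym (t := t) hd.sym
  set A : Fin k → F := Pi.single a 1
  set B : Fin k → F := Pi.single b 1
  set e0 := pvec (fun _ : Fin t => A) with he0
  have hone : ∀ i : Fin t, ∃ l, l ≠ i := fun i => by
    by_contra hc
    push Not at hc
    have h1 := hc ⟨0, by omega⟩
    have h2 := hc ⟨1, by omega⟩
    rw [← h2] at h1
    simpa using congrArg Fin.val h1
  have he00 : frm (gram t J) e0 e0 = 0 := frm_pvec_zero hd ⟨0, by omega⟩ (frm_aa hd)
  set D := cent hP G he00 with hD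
  have hGI := hG.iso
  obtain ⟨f₁, hf₁, hσ₁⟩ := exists_aniso hd
  obtain ⟨x₁, hx₁, xa₁, -, -⟩ := exists_flip hd hf₁ hσ₁
  -- a slot with the root vector
  have key : ∀ l : Fin t, pvec (Function.update (fun _ => A) l f) ∈ D →
      ∀ g : Fin t → Fin k → F, g l = A → pvec g ∈ D := by
    intro l hl g hg
    obtain ⟨j, hj⟩ := hone l
    set r := -2 / frm J f₁ f₁
    have hr : r ≠ 0 := div_ne_zero (neg_ne_zero.2 h2) hσ₁
    let c : Fin t → GL (Fin k) F := fun i => if i = l then 1 else x₁
    have hc : ∀ i, c i ∈ Sl hd.sym := fun i => by simp only [c]; split_ifs; exacts [one_mem _, hx₁]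
    obtain ⟨hcG, hcI⟩ := pure_G hd hG hc
    let ρ : Fin t → F := fun i => if i = l then 1 else r
    have hρ : ∏ i, ρ i ≠ 0 := Finset.prod_ne_zero_iff.2 fun i _ => by simp only [ρ]; split_ifs; exacts [one_ne_zero, hr]
    set e2 := pvec (Function.update (fun _ => B) l A) with he2
    set w2 := pvec (Function.update (fun _ => B) l f) with hw2
    have m1 : (pureGL c).val *ᵥ e0 = (∏ i, ρ i) • e2 := by
      rw [he0, pure_act hd, he2, ← pvec_smul_slots]
      congr 1
      funext i
      rcases eq_or_ne i l with rfl | hi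
      · simp [c, ρ]
      · simp [c, ρ, hi, xa₁, r, A, B]
    have m2 : (pureGL c).val *ᵥ pvec (Function.update (fun _ => A) l f) = (∏ i, ρ i) • w2 := by
      rw [pure_act hd, hw2, ← pvec_smul_slots]
      congr 1
      funext i
      rcases eq_or_ne i l with rfl | hi
      · simp [c, ρ]
      · simp [c, ρ, hi, xa₁, r, A, B]
    have hmap := (mem_cent hP).1 hl |>.map hcG hcI
    rw [m1, m2] at hmap
    have hc2 := Cent.of_smul hρ hmap
    have he22 : frm (gram t J) e2 e2 = 0 := frm_pvec_zero hd l (by simp [A, frm_aa hd])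
    have hw2' : w2 ∈ cent hP G he22 := by
      have := (cent hP G he22).smul_mem (∏ i, ρ i)⁻¹ hc2
      rwa [smul_smul, inv_mul_cancel₀ hρ, one_smul] at this
    have hmove := Cent.move hP he00 he22 hw2' hGI
      (frm_pvec_zero hd l (by simp [A, frm_aa hd])) (frm_pvec_zero hd l (by simp [A, frm_ua hd hf])) hl
    have e1 : frm (gram t J) e2 (pvec (Function.update (fun _ => A) l f)) = 0 :=
      frm_pvec_zero hd l (by simp [A, frm_au hd hf])
    have e3 : frm (gram t J) w2 (pvec (Function.update (fun _ => A) l f)) = frm J f f := by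
      rw [hw2, frm_pvec, Finset.prod_eq_single l (fun i _ hi => by
        simp [Function.update_of_ne hi, A, B, frm_ba hd]) (by simp)]
      simp
    rw [e1, e3, zero_smul, zero_sub, mul_zero, zero_smul, sub_zero, ← neg_smul] at hmove
    have he2D : e2 ∈ D := (Submodule.smul_mem_iff _ (neg_ne_zero.2 hσ)).1 hmove
    -- the orbit of the second vector
    let s : Fin t → Set (Fin k → F) := fun i => if i = l then {A} else offA J a b
    refine pvec_mem_span D s (fun v hv => ?_) g fun i => ?_
    · have hx : ∀ i, ∃ x ∈ Sl hd.sym, x.val *ᵥ A = A ∧ x.val *ᵥ (Function.update (fun _ => B) l A i) = v i := by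
        intro i
        rcases eq_or_ne i l with rfl | hi
        · refine ⟨1, one_mem _, by simp, ?_⟩
          have := hv i
          simp [s] at this
          simp [this]
        · have := hv i
          simp only [s, hi, if_false] at this
          obtain ⟨u, hu, hue⟩ := this
          refine ⟨sg hd.sym _ u (frm_aa hd) (frm_au hd hu), sg_mem_Sl _ _ _, ?_, ?_⟩
          · rw [sg_mulVec, frm_aa hd, frm_ua hd hu]; simp [A]
          · rw [Function.update_of_ne hi, sg_mulVec, frm_ab hd, frm_ub hd hu, ← hue]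
            simp [B]
      choose x hx hxA hxv using hx
      obtain ⟨hxG, hxI⟩ := pure_G hd hG hx
      have hm := ((mem_cent hP).1 he2D).map hxG hxI
      have f1 : (pureGL x).val *ᵥ e0 = e0 := by rw [he0, pure_act hd]; simp only [hxA]
      have f2 : (pureGL x).val *ᵥ e2 = pvec v := by rw [he2, pure_act hd]; simp only [hxv]
      rw [f1, f2] at hm
      exact hm
    · rcases eq_or_ne i l with rfl | hi
      · simp [s, hg, A]
      · simp [s, hi, offA_top hd]
  have hall : ∀ (l : Fin t) (g : Fin t → Fin k → F), g l = A → pvec g ∈ D := by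
    have hq := key q h0
    intro l
    refine key l ?_
    rcases eq_or_ne l q with rfl | hl
    · exact h0
    · exact hq _ (by rw [Function.update_of_ne (Ne.symm hl)])
  -- a slot with a middle vector
  have hmidD : ∀ (l : Fin t) (y : Fin k → F), y ∈ mid F a b → ∀ g : Fin t → Fin k → F, g l = y → pvec g ∈ D := by
    intro l y hy g hg
    obtain ⟨j, hj⟩ := hone l
    let s : Fin t → Set (Fin k → F) := fun i => if i = l then {y} else offA J a b
    refine pvec_mem_span D s (fun v hv => ?_) g fun i => ?_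
    swap
    · rcases eq_or_ne i l with rfl | hi
      · simp [s, hg]
      · simp [s, hi, offA_top hd]
    have hvl : v l = y := by simpa [s] using hv l
    have hvo : ∀ i, i ≠ l → v i ∈ offA J a b := fun i hi => by simpa [s, hi] using hv i
    choose x hx r hr hxr using fun i : {i // i ≠ l} => (offA_facts hd (hvo i.1 i.2)).2.2.2
    let c : Fin t → GL (Fin k) F := fun i => if h : i = l then 1 else x ⟨i, h⟩
    let ρ : Fin t → F := fun i => if h : i = l then 1 else r ⟨i, h⟩
    have hc : ∀ i, c i ∈ Sl hd.sym := fun i => by simp only [c]; split_ifs; exacts [one_mem _, hx _]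
    have hρ : ∏ i, ρ i ≠ 0 := Finset.prod_ne_zero_iff.2 fun i _ => by simp only [ρ]; split_ifs; exacts [one_ne_zero, hr _]
    obtain ⟨hcG, hcI⟩ := pure_G hd hG hc
    set e3 := pvec (Function.update v l A) with he3
    have m1 : (pureGL c).val *ᵥ e0 = (∏ i, ρ i) • e3 := by
      rw [he0, pure_act hd, he3, ← pvec_smul_slots]
      congr 1
      funext i
      rcases eq_or_ne i l with rfl | hi
      · simp [c, ρ]
      · simp [c, ρ, hi, hxr ⟨i, hi⟩, A]
    have m2 : (pureGL c).val *ᵥ pvec (Function.update (fun _ => A) l y) = (∏ i, ρ i) • pvec v := by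
      rw [pure_act hd, ← pvec_smul_slots]
      congr 1
      funext i
      rcases eq_or_ne i l with rfl | hi
      · simp [c, ρ, hvl]
      · simp [c, ρ, hi, hxr ⟨i, hi⟩, A]
    have hy0 : pvec (Function.update (fun _ => A) l y) ∈ D := hall j _ (by rw [Function.update_of_ne hj])
    have hmap := ((mem_cent hP).1 hy0).map hcG hcI
    rw [m1, m2] at hmap
    have hc3 := Cent.of_smul hρ hmap
    have he33 : frm (gram t J) e3 e3 = 0 := frm_pvec_zero hd l (by simp [A, frm_aa hd])
    have hw3 : pvec v ∈ cent hP G he33 := by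
      have := (cent hP G he33).smul_mem (∏ i, ρ i)⁻¹ hc3
      rwa [smul_smul, inv_mul_cancel₀ hρ, one_smul] at this
    have hz : pvec (Function.update (fun _ => A) l B) ∈ D := hall j _ (by rw [Function.update_of_ne hj])
    have hmove := Cent.move hP he00 he33 hw3 hGI
      (frm_pvec_zero hd l (by simp [A, frm_aa hd])) (frm_pvec_zero hd l (by rw [hvl]; exact frm_ua hd hy)) hz
    have e1 : frm (gram t J) e3 (pvec (Function.update (fun _ => A) l B)) = 1 := by
      rw [he3, frm_pvec]
      refine Finset.prod_eq_one fun i _ => ?_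
      rcases eq_or_ne i l with rfl | hi
      · simp [A, B, frm_ab hd]
      · simp [hi, A, (offA_facts hd (hvo i hi)).2.2.1]
    have e2 : frm (gram t J) (pvec v) (pvec (Function.update (fun _ => A) l B)) = 0 :=
      frm_pvec_zero hd l (by simp [hvl, B, frm_ub hd hy])
    have e4 : frm (gram t J) (pvec v) (pvec v) = 0 := frm_pvec_zero hd j (offA_facts hd (hvo j hj)).2.1
    rw [e1, e2, e4, one_smul, zero_smul, sub_zero, mul_zero, zero_mul, zero_smul, sub_zero] at hmove
    exact hmove
  -- the coordinate vectors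
  have hbasis : ∀ x : Fin t → Fin k, x ≠ (fun _ => b) → (Pi.single x 1 : (Fin t → Fin k) → F) ∈ D := by
    intro x hx
    obtain ⟨i, hi⟩ := Function.ne_iff.1 hx
    rw [pvec_single]
    by_cases hia : x i = a
    · exact hall i _ (by rw [hia])
    · exact hmidD i _ (mem_mid.2 ⟨Pi.single_eq_of_ne (Ne.symm hia) _, Pi.single_eq_of_ne (Ne.symm hi) _⟩) _ rfl
  have hb0 : w (fun _ => b) = 0 := by
    rw [← hw, he0]
    conv_rhs => rw [pi_eq_sum_univ' w, frm, mulVec_sum, dotProduct_sum]
    rw [Finset.sum_eq_single (fun _ : Fin t => b) (fun x _ hx => ?_) (by simp)]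
    · show _ = frm (gram t J) _ (w (fun _ => b) • Pi.single (fun _ => b) 1)
      rw [frm_smul_right, pvec_single, frm_pvec, Finset.prod_eq_one fun i _ => by simp [A, frm_ab hd], mul_one]
    · show frm (gram t J) _ (w x • Pi.single x 1) = 0
      obtain ⟨i, hi⟩ := Function.ne_iff.1 hx
      rw [frm_smul_right, pvec_single, frm_pvec_zero hd i (by simp [A, frm_a hd, Ne.symm hi]), mul_zero]
  refine (mem_cent hP (he := he00)).1 ?_
  show w ∈ D
  rw [pi_eq_sum_univ' w]
  refine D.sum_mem fun x _ => ?_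
  by_cases hx : x = fun _ => b
  · rw [hx, hb0, zero_smul]; exact D.zero_mem
  · exact D.smul_mem _ (hbasis x hx)

/-- all Eichler elements -/
theorem eich_mem (hG : Over J G) (ht : 2 ≤ t)
    (hperp : ∀ w : (Fin t → Fin k) → F, frm (gram t J) (pvec fun _ => Pi.single a 1) w = 0 →
      Cent (gram t J) G (pvec fun _ => Pi.single a 1) w)
    {v w : (Fin t → Fin k) → F} (hv0 : v ≠ 0) (hv : frm (gram t J) v v = 0) (hvw : frm (gram t J) v w = 0) :
    Cent (gram t J) G v w := by
  classical
  have h2 := hd.sym.two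
  have hP := gram_sym (t := t) hd.sym
  obtain ⟨e, he, hne⟩ : ∃ e : Fin t → Fin k → F, (∀ i, e i ∈ offA J a b) ∧ frm (gram t J) v (pvec e) ≠ 0 := by
    by_contra hc
    push Not at hc
    refine hv0 (frm_nd hP fun y => ?_)
    let L : ((Fin t → Fin k) → F) →ₗ[F] F :=
      { toFun := fun y => frm (gram t J) v y
        map_add' := fun y y' => frm_add_right v y y'
        map_smul' := fun c y => frm_smul_right c v y }
    have hL : ∀ z, z ∈ LinearMap.ker L ↔ frm (gram t J) v z = 0 := fun z => LinearMap.mem_ker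
    refine (hL y).1 ?_
    rw [pi_eq_sum_univ' y]
    refine Submodule.sum_mem _ fun x _ => Submodule.smul_mem _ _ ?_
    rw [pvec_single]
    exact pvec_mem_span _ (fun _ => offA J a b) (fun f hf => (hL _).2 (hc f hf)) _ fun i => by simp [offA_top hd]
  choose x hx r hr hxr using fun i => (offA_facts hd (he i)).2.2.2
  obtain ⟨hxG, hxI⟩ := pure_G hd hG hx
  set e0 := pvec (fun _ : Fin t => (Pi.single a 1 : Fin k → F)) with he0
  have m1 : (pureGL x).val *ᵥ e0 = (∏ i, r i) • pvec e := by
    rw [he0, pure_act hd, ← pvec_smul_slots]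
    simp only [hxr]
  set v1 := ((pureGL x)⁻¹).val *ᵥ v with hv1
  have hβ : frm (gram t J) v1 e0 ≠ 0 := by
    rw [← iso_frm hxI, hv1, cancelV', m1, frm_smul_right]
    exact mul_ne_zero (Finset.prod_ne_zero_iff.2 fun i _ => hr i) hne
  set β := frm (gram t J) v1 e0
  set v2 := β⁻¹ • v1 with hv2
  set v0 := pvec (fun _ : Fin t => (Pi.single b 1 : Fin k → F)) with hv0'
  have hv11 : frm (gram t J) v1 v1 = 0 := by rw [← iso_frm hxI, hv1, cancelV', hv]
  have hv22 : frm (gram t J) v2 v2 = 0 := by rw [hv2, frm_smul_left, frm_smul_right, hv11, mul_zero, mul_zero]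
  have hv2e : frm (gram t J) e0 v2 = 1 := by
    rw [frm_comm hP, hv2, frm_smul_left, inv_mul_cancel₀ hβ]
  have h00 : frm (gram t J) v0 v0 = 0 := frm_pvec_zero hd ⟨0, by omega⟩ (frm_bb hd)
  have he00 : frm (gram t J) e0 e0 = 0 := frm_pvec_zero hd ⟨0, by omega⟩ (frm_aa hd)
  have hev : frm (gram t J) e0 v0 = 1 := by
    rw [he0, hv0', frm_pvec, Finset.prod_eq_one fun i _ => frm_ab hd]
  have hperp1 : frm (gram t J) e0 (v2 - v0) = 0 := by rw [frm_sub_right, hv2e, hev, sub_self]
  obtain ⟨g, hg, hgv⟩ := (hperp _ hperp1).2 1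
  rw [one_smul] at hgv
  have hg0 : g.val *ᵥ v0 = v2 := by
    rw [hgv, ← sg_coe hP he00 hperp1, sg_mulVec, hev, frm_comm hP (v2 - v0) v0]
    simp only [frm_sub_left, frm_sub_right, hv22, h00, frm_comm hP v0 v2]
    match_scalars <;> field_simp <;> ring
  obtain ⟨f₁, hf₁, hσ₁⟩ := exists_aniso hd
  obtain ⟨x₁, hx₁, xa₁, -, -⟩ := exists_flip hd hf₁ hσ₁
  set r₁ := -2 / frm J f₁ f₁ with hr₁
  have hr₁0 : r₁ ≠ 0 := div_ne_zero (neg_ne_zero.2 h2) hσ₁
  obtain ⟨hfG, hfI⟩ := pure_G (t := t) hd hG (c := fun _ => x₁) fun _ => hx₁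
  have m0 : (pureGL fun _ : Fin t => x₁).val *ᵥ e0 = (∏ _i : Fin t, r₁) • v0 := by
    rw [he0, pure_act hd, hv0', ← pvec_smul_slots]
    simp only [xa₁, hr₁]
  have hv0perp : ∀ z, frm (gram t J) v0 z = 0 → Cent (gram t J) G v0 z := by
    intro z hz
    have h1 := (hperp (((pureGL fun _ : Fin t => x₁)⁻¹).val *ᵥ z) (by
      rw [← iso_frm hfI, cancelV', m0, frm_smul_left, hz, mul_zero])).map hfG hfI
    rw [cancelV', m0] at h1
    exact Cent.of_smul (Finset.prod_ne_zero_iff.2 fun _ _ => hr₁0) h1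
  have hgI := hG.iso hg
  set w1 := ((pureGL x)⁻¹).val *ᵥ w with hw1
  have hvw1 : frm (gram t J) v2 w1 = 0 := by
    rw [hv2, frm_smul_left, ← iso_frm hxI, hv1, hw1, cancelV', cancelV', hvw, mul_zero]
  have h3 := (hv0perp ((g⁻¹).val *ᵥ w1) (by rw [← iso_frm hgI, cancelV', hg0, hvw1])).map hg hgI
  rw [cancelV', hg0, hv2] at h3
  have h4 := (Cent.of_smul (inv_ne_zero hβ) h3).map hxG hxI
  rwa [hv1, hw1, cancelV', cancelV'] at h4

/-- a single pair pattern in the corners gives `Ω` -/
theorem omega_of_single {t : ℕ} {G : Subgroup (GL (Fin (t + 1) → Fin k) F)} (hG : Over J G) {q : Fin t}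
    {f : Fin k → F} (hf : f ∈ mid F a b) (hσ : frm J f f ≠ 0)
    (h : pureTensor (fun i => if i = q then Qm J (Pi.single a 1) f else EA J a) ∈ corners hd G) :
    Om (gram (t + 1) J) ≤ G := by
  classical
  have hk := hd.hk
  have hP := gram_sym (t := t + 1) hd.sym
  have ht : 2 ≤ t + 1 := by have := Fin.pos q; omega
  set e0 := pvec (fun _ : Fin (t + 1) => (Pi.single a 1 : Fin k → F)) with he0
  set w0 := pvec (Function.update (fun _ : Fin (t + 1) => (Pi.single a 1 : Fin k → F)) q.succ f) with hw0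
  have hww : frm (gram (t + 1) J) w0 w0 = 0 :=
    frm_pvec_zero hd 0 (by simp [Function.update_of_ne (Fin.succ_ne_zero q).symm, frm_aa hd])
  have h0 : Cent (gram (t + 1) J) G e0 w0 := by
    refine ⟨frm_pvec_zero hd 0 (by simp [Function.update_of_ne (Fin.succ_ne_zero q).symm, frm_aa hd]), fun c => ?_⟩
    obtain ⟨g, hg, hgv⟩ := h (-c)
    refine ⟨g, hg, hgv.trans ?_⟩
    congr 1
    rw [sgN, Qm_smul_left, frm_smul_left, frm_smul_right, hww, mul_zero, mul_zero, mul_zero, zero_smul, sub_zero,
      smul_S0_lift, S0_lift_pure, neg_smul, ← smul_neg]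
    congr 1
    set U : Fin (t + 1) → Matrix (Fin k) (Fin k) F := fun _ => EA J a with hU
    have p1 : op (gram (t + 1) J) w0 e0 = putL q.succ U (op J f (Pi.single a 1)) := by
      rw [hw0, he0, op_pvec, putL_update]
      congr 1
      funext i
      rcases eq_or_ne i q.succ with rfl | hi
      · simp
      · simp [hi, hU]
    have p2 : op (gram (t + 1) J) e0 w0 = putL q.succ U (op J (Pi.single a 1) f) := by
      rw [hw0, he0, op_pvec, putL_update]
      congr 1
      funext i
      rcases eq_or_ne i q.succ with rfl | hi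
      · simp
      · simp [hi, hU]
    have p3 : pureTensor (Fin.cons (EA J a) fun i => if i = q then Qm J (Pi.single a 1) f else EA J a) =
        putL q.succ U (Qm J (Pi.single a 1) f) := by
      rw [putL_update]
      congr 1
      funext i
      induction i using Fin.cases with
      | zero => simp [hU, Function.update_of_ne (Fin.succ_ne_zero q).symm]
      | succ i =>
        rcases eq_or_ne i q with rfl | hi
        · simp
        · simp [hi, hU]
    rw [p3]
    simp only [Qm, p1, p2, map_sub]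
    abel
  have hperp := fun w hw => cent_perp hd hG ht hf hσ h0 (w := w) hw
  rw [Om_eq hP]
  have hn : 5 ≤ Fintype.card (Fin (t + 1) → Fin k) := by
    rw [Fintype.card_fun, Fintype.card_fin, Fintype.card_fin]
    exact le_trans (by norm_num : 5 ≤ 3 ^ 2) ((Nat.pow_le_pow_left hk 2).trans (Nat.pow_le_pow_right (by omega) ht))
  have hle := Forms.Max.Orth.omega_le_of_centres (Q := qf (gram (t + 1) J)) (qf_nd hP) hn
    (M := G.comap (Cfsg.isometryGroup F ⇑(qf (gram (t + 1) J))).subtype) fun u hu0 hu => ⟨hu, fun w hu' huw => by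
      have hvv : frm (gram (t + 1) J) u u = 0 := by
        rw [qf_apply] at hu; exact (mul_eq_zero.1 hu).resolve_left (inv_ne_zero hP.two)
      obtain ⟨g', hg', hgx⟩ := (eich_mem hd hG ht hperp hu0 hvv
        (show frm (gram (t + 1) J) u w = 0 by rw [← polar_qf hP]; exact huw)).2 1
      rw [one_smul, ← eich_coe hP hu' huw] at hgx
      have e1 : (Classical.Orth.eich u w hu' huw : GL (Fin (t + 1) → Fin k) F) = g' := Units.ext hgx.symm
      show (Classical.Orth.eich u w hu' huw : GL (Fin (t + 1) → Fin k) F) ∈ G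
      exact e1 ▸ hg'⟩
  exact Subgroup.map_le_iff_le_comap.2 hle

/-- overgroups with corners contain `Ω` -/
theorem omega_of_corner {t : ℕ} {G : Subgroup (GL (Fin (t + 1) → Fin k) F)} (hG : Over J G)
    {B : Matrix (Fin t → Fin k) (Fin t → Fin k) F} (hB : B ∈ corners hd G) (hB0 : B ≠ 0) :
    Om (gram (t + 1) J) ≤ G := by
  obtain ⟨w, hw, q, f, hf, hσ, h⟩ := exists_single hd hG hB hB0
  intro x hx
  have h1 := omega_of_single hd (hG.conjSub hw) hf hσ h (Om_normal (W0_le_iso hw) hx)
  simpa [mem_conjSub, mul_assoc] using h1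

/-- overgroups which are not tame contain `Ω` -/
theorem omega_of_not_tame {t : ℕ} {G : Subgroup (GL (Fin (t + 1) → Fin k) F)} (hG : Over J G)
    (hT : ¬ TameU hd.sym a b G) : Om (gram (t + 1) J) ≤ G := by
  obtain ⟨w, hw, B, hB, hB0⟩ := corner_of_not_tame hd hG (fun h => h ▸ by decide) hT
  intro x hx
  have h1 := omega_of_corner hd (hG.conjSub hw) hB hB0 (Om_normal (W0_le_iso hw) hx)
  simpa [mem_conjSub, mul_assoc] using h1

end Cfsg.Agent.TensorWreath.Or
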