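import Cfsg.Agent.Lib.Forms.Max.TensorWreath.Orth.Shear
import Cfsg.Agent.Lib.Forms.Max.TensorWreath.Orth.Spread

/-!
# Shaped elements cannot cover the small `Ω` in a tame group
-/

set_option autoImplicit false
set_option linter.unusedSectionVars false
set_option linter.unusedSimpArgs false
set_option maxHeartbeats 800000

namespace Cfsg.Agent.TensorWreath.Or

open Matrix Cfsg.Agent.Aschbacher

variable {F : Type*} [Field F] {k t : ℕ} {J : Matrix (Fin k) (Fin k) F} {a b : Fin k}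

theorem conj_sgl_succ_S0_lift (i : Fin t) (x : GL (Fin k) F) (z : Matrix (Fin k) (Fin k) F)
    (M : Matrix (Fin t → Fin k) (Fin t → Fin k) F) :
    conjMat (sgl i.succ x) (S 0 z * lift M) = S 0 z * lift (conjMat (sgl i x) M) := by
  refine (blk (F := F) (m := k) (t := t)).injective (Matrix.ext fun p q => ?_)
  rw [← liftW_sgl, blk_liftW_conj, blk_S0_lift, blk_S0_lift, map_smul]

theorem conj_sgl0_S0_lift (x : GL (Fin k) F) (z : Matrix (Fin k) (Fin k) F)
    (M : Matrix (Fin t → Fin k) (Fin t → Fin k) F) :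
    conjMat (sgl (0 : Fin (t + 1)) x) (S 0 z * lift M) = S 0 (conjMat x z) * lift M := by
  have e : conjMat (sgl (0 : Fin (t + 1)) x) (lift M) = lift M := by
    rw [conjMat_eq_iff_mul, sgl_coe, S0_lift_comm]
  rw [map_mul, conj_sgl_S0, e]

theorem conj_liftW_S0 (v : GL (Fin t → Fin k) F) (z : Matrix (Fin k) (Fin k) F)
    (M : Matrix (Fin t → Fin k) (Fin t → Fin k) F) :
    conjMat (liftW v) (S (0 : Fin (t + 1)) z * lift M) = S 0 z * lift (conjMat v M) := by
  refine (blk (F := F) (m := k) (t := t)).injective (Matrix.ext fun p q => ?_)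
  rw [blk_liftW_conj, blk_S0_lift, blk_S0_lift, map_smul]

theorem liftW_comm_sgl0 (v : GL (Fin t → Fin k) F) (x : GL (Fin k) F) :
    liftW v * sgl (0 : Fin (t + 1)) x = sgl 0 x * liftW v :=
  Units.ext (by simp only [Units.val_mul, sgl_coe, liftW_coe]; exact (S0_lift_comm _ _).symm)

variable [Fintype F] (hd : Hyp J a b)
include hd

variable {G : Subgroup (GL (Fin (t + 1) → Fin k) F)}

/-- shaped representatives reduce to corners -/
theorem exists_corner_rep (hG : Over J G) (hT : TameU hd.sym a b G) {v : GL (Fin t → Fin k) F}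
    {U : GL (Fin (t + 1) → Fin k) F} (hUI : U ∈ Iso (gram (t + 1) J)) (hUs : Shp a b (blk U.val - 1))
    (hUv : U * liftW v ∈ G) :
    ∃ B, B ∈ skew (gram t J) ∧ ∃ W : GL (Fin (t + 1) → Fin k) F,
      W.val = 1 + S 0 (EA J a) * lift B ∧ W * liftW v ∈ G := by
  classical
  have hk : 2 ≤ k := by have := hd.hk; omega
  let R : (Fin k → F) →ₗ[F] Matrix (Fin t → Fin k) (Fin t → Fin k) F :=
    { toFun := fun w => ∑ q, w q • (blk U.val - 1) a q
      map_add' := fun u w => by simp only [Pi.add_apply, add_smul, Finset.sum_add_distrib]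
      map_smul' := fun r w => by simp only [Pi.smul_apply, smul_eq_mul, RingHom.id_apply, Finset.smul_sum, smul_smul] }
  have hmid : mid F a b ≤ (Submodule.span F {(1 : Matrix (Fin t → Fin k) (Fin t → Fin k) F)}).comap R := by
    refine aniso_span hd fun f hf hσ => ?_
    obtain ⟨x, hx, r, c, hr, hc, hrc, xa, xb, xf, -⟩ := exists_neg_weight hd hf hσ
    have hxI := Sl_le_Iso hd.sym hx
    obtain ⟨hs', hrow⟩ := shp_levi_conj hd hxI (mul_inv_cancel₀ hr) xa xb hUs
    have hL : sgl (0 : Fin (t + 1)) x ∈ G := hG.slot hk 0 hx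
    have hmem : sgl 0 x * U * (sgl 0 x)⁻¹ * U⁻¹ ∈ G := by
      have h := mul_mem (mul_mem (mul_mem hL hUv) (inv_mem hL)) (inv_mem hUv)
      have e : sgl 0 x * (U * liftW v) * (sgl 0 x)⁻¹ * (U * liftW v)⁻¹ =
          sgl 0 x * U * (liftW v * (sgl 0 x)⁻¹) * (liftW v)⁻¹ * U⁻¹ := by group
      rw [e, ← map_inv, liftW_comm_sgl0, map_inv] at h
      simpa [mul_assoc] using h
    obtain ⟨hinv, hinvrow⟩ := shp_inv_val hd.hab hUs
    obtain ⟨hps, hprow⟩ := shp_mul_val hd.hab hs' hinv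
    obtain ⟨Z, hZ⟩ := shaped_slot hd hG hT hmem hps
    obtain ⟨hfa, hfb⟩ := mem_mid.1 hf
    have hterm : ∀ p, p ≠ a → p ≠ b → r • ∑ q, (x⁻¹).val q p • (blk U.val - 1) a q - (blk U.val - 1) a p =
        Z a p • (1 : Matrix (Fin t → Fin k) (Fin t → Fin k) F) := fun p ha hb => by
      have h1 := hprow p hb
      rw [hinvrow p hb, hrow p, ← sub_eq_add_neg, hZ, blk_S_zero, Matrix.map_apply, Algebra.algebraMap_eq_smul_one,
        Matrix.one_apply_ne (Ne.symm ha), sub_zero] at h1
      exact h1.symm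
    have hxinv : (x⁻¹).val *ᵥ f = c⁻¹ • f := by
      have h := congrArg (fun v => c⁻¹ • ((x⁻¹).val *ᵥ v)) xf
      simp only [cancelV, mulVec_smul, smul_smul, inv_mul_cancel₀ hc, one_smul] at h
      exact h.symm
    have hsum : (r * c⁻¹ - 1) • R f = (∑ p, f p * Z a p) • (1 : Matrix (Fin t → Fin k) (Fin t → Fin k) F) := by
      rw [sub_smul, one_smul, ← smul_smul, ← map_smul R, ← hxinv]
      simp only [R, LinearMap.coe_mk, AddHom.coe_mk, Finset.sum_smul, mulVec, dotProduct, Finset.smul_sum]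
      rw [Finset.sum_comm, ← Finset.sum_sub_distrib]
      refine Finset.sum_congr rfl fun p _ => ?_
      rcases eq_or_ne p a with rfl | hpa
      · simp [hfa]
      rcases eq_or_ne p b with rfl | hpb
      · simp [hfb]
      rw [mul_smul, ← hterm p hpa hpb, smul_sub, Finset.smul_sum, Finset.smul_sum]
      congr 1
      refine Finset.sum_congr rfl fun q _ => ?_
      simp only [smul_smul]
      congr 1
      ring
    have hne : r * c⁻¹ - 1 ≠ 0 := fun h => hrc (by
      rw [sub_eq_zero, ← div_eq_mul_inv, div_eq_one_iff_eq hc] at h; exact h)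
    show R f ∈ Submodule.span F {(1 : Matrix (Fin t → Fin k) (Fin t → Fin k) F)}
    exact (Submodule.smul_mem_iff _ hne).1 (hsum ▸ Submodule.smul_mem _ _ (Submodule.mem_span_singleton_self _))
  have hrowU : ∀ p, p ≠ a → p ≠ b → ∃ c : F, blk U.val a p = c • 1 := fun p ha hb => by
    obtain ⟨c, hc⟩ := Submodule.mem_span_singleton.1
      (hmid (mem_mid (u := Pi.single p (1 : F))|>.2 ⟨Pi.single_eq_of_ne ha.symm _, Pi.single_eq_of_ne hb.symm _⟩) :
        R (Pi.single p 1) ∈ Submodule.span F {(1 : Matrix (Fin t → Fin k) (Fin t → Fin k) F)})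
    refine ⟨c, ?_⟩
    rw [hc]
    simp only [R, LinearMap.coe_mk, AddHom.coe_mk, Pi.single_apply, ite_smul, one_smul, zero_smul,
      Finset.sum_ite_eq', Finset.mem_univ, if_true, Matrix.sub_apply, Matrix.one_apply_ne (Ne.symm ha), sub_zero]
  choose! r hr using hrowU
  obtain ⟨u, hu, hJu⟩ := exists_mid_of_coord hd r
  obtain ⟨s, hs⟩ : ∃ s, s = sg hd.sym (Pi.single a 1) u (frm_aa hd) (frm_au hd hu) := ⟨_, rfl⟩
  have hsS : s ∈ Sl hd.sym := hs ▸ sg_mem_Sl _ _ _
  have hss : Shp a b (blk (sgl (0 : Fin (t + 1)) s).val - 1) := hs ▸ sg_shp hd hu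
  obtain ⟨W, hW⟩ : ∃ W, W = sgl 0 s * U := ⟨_, rfl⟩
  have hWI : W ∈ Iso (gram (t + 1) J) := hW ▸ mul_mem (sgl_iso _ (Sl_le_Iso hd.sym hsS)) hUI
  obtain ⟨hWs, hWrow⟩ := shp_mul_val hd.hab hss hUs
  rw [← hW] at hWs hWrow
  have hrow0 : ∀ p, p ≠ a → p ≠ b → blk W.val a p = 0 := fun p ha hb => by
    have h := hWrow p hb
    rw [Matrix.one_apply_ne (Ne.symm ha), sub_zero, Matrix.sub_apply, Matrix.sub_apply,
      Matrix.one_apply_ne (Ne.symm ha), sub_zero, sub_zero, hr p ha hb, blk_sgl0] at h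
    have e : s.val a p = -r p := by
      rw [hs, sg_coe, Matrix.add_apply, Matrix.one_apply_ne (Ne.symm ha), zero_add, sgN_apply hd,
        if_neg hb, if_pos rfl, if_neg (fun h => hb h.2), hJu p ha hb]
      ring
    rw [h, e, ← add_smul, neg_add_cancel, zero_smul]
  obtain ⟨-, hcol0⟩ := col_scalar hd hWI hWs (r := 0) fun m ha hb => by
    rw [Pi.zero_apply, zero_smul]; exact hrow0 m ha hb
  have hcol := hcol0 fun m _ _ => rfl
  obtain ⟨B, hB⟩ : ∃ B, B = blk W.val a b := ⟨_, rfl⟩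
  have hWv : W.val = 1 + S 0 (EA J a) * lift B := by
    refine (corner_blk hd).2 (Matrix.ext fun x y => ?_)
    rw [Matrix.add_apply, Matrix.single_apply]
    by_cases hxy : a = x ∧ b = y
    · rw [if_pos hxy, ← hxy.1, ← hxy.2, Matrix.one_apply_ne hd.hab, zero_add, hB]
    rw [if_neg hxy, add_zero]
    rcases shp_cases hWs x y with h | ⟨rfl, hy⟩ | ⟨rfl, hx⟩
    · rwa [Matrix.sub_apply, sub_eq_zero] at h
    · have hyb : y ≠ b := fun h => hxy ⟨rfl, h.symm⟩
      rw [hrow0 y hy hyb, Matrix.one_apply_ne (Ne.symm hy)]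
    · have hxa : x ≠ a := fun h => hxy ⟨h.symm, rfl⟩
      rw [hcol x hxa hx, Matrix.one_apply_ne hx]
  refine ⟨B, corner_skew hd hWI hWv, W, hWv, ?_⟩
  rw [hW, mul_assoc]
  exact mul_mem (hG.slot hk 0 hsS) hUv

/-- corner representatives are fixed by the centraliser -/
theorem corner_fixed (hG : Over J G) (hT : TameU hd.sym a b G) {v h : GL (Fin t → Fin k) F}
    (hh : liftW h ∈ G) (hhI : h ∈ Iso (gram t J)) (hhv : h * v = v * h)
    {B : Matrix (Fin t → Fin k) (Fin t → Fin k) F} (hB : B ∈ skew (gram t J))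
    {W : GL (Fin (t + 1) → Fin k) F} (hW : W.val = 1 + S 0 (EA J a) * lift B) (hWv : W * liftW v ∈ G) :
    conjMat h B = B := by
  classical
  obtain ⟨W', hW'⟩ : ∃ W', W' = liftW h * W * (liftW h)⁻¹ := ⟨_, rfl⟩
  have hW'v : W'.val = 1 + S 0 (EA J a) * lift (conjMat h B) := by
    rw [hW', ← conjMat_units, hW, map_add, map_one, conj_liftW_S0]
  have hWi : (W⁻¹).val = 1 + S 0 (EA J a) * lift (-B) := by
    refine W.isUnit.mul_left_cancel ?_
    rw [← Units.val_mul, mul_inv_cancel, Units.val_one, hW, mul_add, mul_one, add_mul, one_mul, corner_sq hd, add_zero,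
      map_neg, mul_neg]
    abel
  have hmem : W' * W⁻¹ ∈ G := by
    have h1 := mul_mem (mul_mem (mul_mem hh hWv) (inv_mem hh)) (inv_mem hWv)
    have e : liftW h * (W * liftW v) * (liftW h)⁻¹ * (W * liftW v)⁻¹ =
        liftW h * W * (liftW v * (liftW h)⁻¹ * (liftW v)⁻¹) * W⁻¹ := by group
    have e2 : liftW v * (liftW h)⁻¹ * (liftW v)⁻¹ = (liftW (t := t) h)⁻¹ := by
      rw [← map_inv, ← map_inv, ← map_mul, ← map_mul]
      congr 1
      calc v * h⁻¹ * v⁻¹ = h⁻¹ * (h * v) * h⁻¹ * v⁻¹ := by group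
        _ = h⁻¹ := by rw [hhv]; group
    rw [e, e2, ← hW'] at h1
    exact h1
  have hval : (W' * W⁻¹).val = 1 + S 0 (EA J a) * lift (conjMat h B - B) := by
    rw [Units.val_mul, hW'v, hWi, mul_add, mul_one, add_mul, one_mul, corner_sq hd, add_zero, sub_eq_add_neg,
      map_add, mul_add]
    abel
  have hb := (corner_blk hd).1 hval
  obtain ⟨Z, hZ⟩ := shaped_slot hd hG hT hmem (by rw [hb, add_sub_cancel_left]; exact shp_single hd.hab _)
  have hab := congrFun (congrFun hb a) b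
  rw [hZ, blk_S_zero, Matrix.map_apply, Algebra.algebraMap_eq_smul_one, Matrix.add_apply,
    Matrix.one_apply_ne hd.hab, zero_add, Matrix.single_apply_same] at hab
  have hskew : conjMat h B - B ∈ skew (gram t J) := sub_mem (conj_skew hhI hB) hB
  exact sub_eq_zero.1 (skew_slf_zero (gram_sym hd.sym) hskew
    (hab ▸ Submodule.smul_mem _ _ (one_slf (gram_sym hd.sym))))

omit [Fintype F] in
theorem root_shp {g : Fin k → F} (hg : g ∈ mid F a b) (c d : F) :
    Shp a b (c • EA J a + d • Qm J g (Pi.single a 1)) := by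
  intro x y h
  rw [Matrix.add_apply, Matrix.smul_apply, Matrix.smul_apply, EA_eq hd, Matrix.single_apply,
    if_neg (fun e => h (Or.inl ⟨e.1.symm, by rw [← e.2]; exact hd.hab.symm⟩)), Qm, Matrix.sub_apply, op_apply, op_apply,
    Ja hd, smul_zero, zero_add]
  obtain ⟨hga, hgb⟩ := mem_mid.1 hg
  have h1 : g x * (Pi.single b 1 : Fin k → F) y = 0 := by
    rcases eq_or_ne y b with rfl | hy
    · have hx : x = y := by by_contra hx; exact h (Or.inr ⟨rfl, hx⟩)
      rw [hx, hgb, zero_mul]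
    · rw [Pi.single_eq_of_ne hy, mul_zero]
  have h2 : (Pi.single a 1 : Fin k → F) x * (J *ᵥ g) y = 0 := by
    rcases eq_or_ne x a with rfl | hx
    · have hy : y = x := by by_contra hy; exact h (Or.inl ⟨rfl, hy⟩)
      rw [hy, (Ju_mid hd hg).1, mul_zero]
    · rw [Pi.single_eq_of_ne hx, zero_mul]
  rw [h1, h2, sub_zero, smul_zero]

/-- shaped elements do not cover `Ω` of the smaller power -/
theorem noSurj {t : ℕ} (ht : 1 ≤ t) {G : Subgroup (GL (Fin (t + 1 + 1) → Fin k) F)} (hG : Over J G)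
    (hT : TameU hd.sym a b G)
    (hS : ∀ v ∈ Om (gram (t + 1) J), ∃ U ∈ Iso (gram (t + 1 + 1) J), Shp a b (blk U.val - 1) ∧ U * liftW v ∈ G) :
    False := by
  classical
  have h2 := hd.sym.two
  have hk : 2 ≤ k := by have := hd.hk; omega
  obtain ⟨f, hf, hσ⟩ := exists_aniso hd
  obtain ⟨e₁, he₁⟩ : ∃ e₁ : (Fin (t + 1) → Fin k) → F, e₁ = pvec fun _ => Pi.single a 1 := ⟨_, rfl⟩
  obtain ⟨u₁, hu₁⟩ : ∃ u₁ : (Fin (t + 1) → Fin k) → F, u₁ = pvec (Fin.cons f fun _ => Pi.single a 1) := ⟨_, rfl⟩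
  obtain ⟨i₀⟩ : Nonempty (Fin t) := ⟨⟨0, ht⟩⟩
  have hz : ∀ {u w : Fin (t + 1) → Fin k → F} (i : Fin (t + 1)), frm J (u i) (w i) = 0 →
      frm (gram (t + 1) J) (pvec u) (pvec w) = 0 := fun i h => frm_pvec_zero hd i h
  have hee : frm (gram (t + 1) J) e₁ e₁ = 0 := by rw [he₁]; exact hz 0 (frm_aa hd)
  have heu : frm (gram (t + 1) J) e₁ u₁ = 0 := by
    rw [he₁, hu₁]; exact hz 0 (by rw [Fin.cons_zero]; exact frm_au hd hf)
  have huu : frm (gram (t + 1) J) u₁ u₁ = 0 := by
    rw [hu₁]; exact hz i₀.succ (by rw [Fin.cons_succ]; exact frm_aa hd)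
  obtain ⟨R, hR⟩ : ∃ R, R = sg (gram_sym hd.sym) e₁ u₁ hee heu := ⟨_, rfl⟩
  have hROm : R ∈ Om (gram (t + 1) J) :=
    hR ▸ sg_mem_Om (gram_sym hd.sym) (two_le_card hk (Nat.succ_pos t)) hee heu
  obtain ⟨P, hP⟩ : ∃ P : Matrix (Fin t → Fin k) (Fin t → Fin k) F, P = pureTensor fun _ => EA J a := ⟨_, rfl⟩
  have hRv : R.val = 1 + S 0 (Qm J f (Pi.single a 1)) * lift P := by
    rw [hR, sg_coe, sgN, huu, mul_zero, zero_smul, sub_zero, Qm, hu₁, he₁, op_pvec, op_pvec]
    congr 1
    rw [show (fun i => op J ((Fin.cons f fun _ => Pi.single a 1 : Fin (t + 1) → Fin k → F) i) (Pi.single a 1)) =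
        (Fin.cons (op J f (Pi.single a 1)) fun _ => EA J a) from funext fun i => by cases i using Fin.cases <;> simp,
      show (fun i => op J (Pi.single a 1) ((Fin.cons f fun _ => Pi.single a 1 : Fin (t + 1) → Fin k → F) i)) =
        (Fin.cons (op J (Pi.single a 1) f) fun _ => EA J a) from funext fun i => by cases i using Fin.cases <;> simp,
      ← S0_lift_pure, ← S0_lift_pure, ← hP, ← sub_mul, ← map_sub]
    rfl
  obtain ⟨U, hUI, hUs, hUR⟩ := hS R hROm
  obtain ⟨B, hB, W, hW, hWR⟩ := exists_corner_rep hd hG hT hUI hUs hUR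
  have hfix : ∀ h : GL (Fin (t + 1) → Fin k) F, liftW h ∈ G → h ∈ Iso (gram (t + 1) J) →
      conjMat h (S 0 (Qm J f (Pi.single a 1)) * lift P) = S 0 (Qm J f (Pi.single a 1)) * lift P →
      conjMat h B = B := fun h hh hhI hc => by
    refine corner_fixed hd hG hT hh hhI ?_ hB hW hWR
    refine Units.ext ?_
    rw [Units.val_mul, Units.val_mul, ← conjMat_eq_iff_mul, hRv, map_add, map_one, hc]
  have hlift : ∀ (i : Fin (t + 1)) {x : GL (Fin k) F}, x ∈ Sl hd.sym → liftW (sgl i x) ∈ G := fun i x hx => by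
    rw [liftW_sgl]; exact hG.slot hk i.succ hx
  -- the first slot
  have hEfix : ∀ u (hu : u ∈ mid F a b),
      conjMat (sg hd.sym (Pi.single a 1) u (frm_aa hd) (frm_au hd hu)) (EA J a) = EA J a := fun u hu => by
    rw [EA, conj_op (sg_iso _ _ _), sg_mulVec, frm_aa hd, frm_ua hd hu]
    simp only [mul_zero, zero_smul, add_zero, sub_zero]
  have hQfix : ∀ u (hu : u ∈ mid F a b), conjMat (sg hd.sym (Pi.single a 1) u (frm_aa hd) (frm_au hd hu))
      (Qm J f (Pi.single a 1)) = Qm J f (Pi.single a 1) := fun u hu => by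
    rw [conj_Qm (sg_iso _ _ _), sg_mulVec, sg_mulVec, frm_aa hd, frm_ua hd hu, frm_au hd hf]
    simp only [mul_zero, zero_smul, add_zero, sub_zero, Qm, op_sub_left, op_sub_right, op_smul_left, op_smul_right]
    abel
  have hZ0 : ∀ u v, EA J a * comp 0 u v B = comp 0 u v B * EA J a ∧
      ∀ w ∈ mid F a b, Qm J w (Pi.single a 1) * comp 0 u v B = comp 0 u v B * Qm J w (Pi.single a 1) := fun u v => by
    refine comm_of_sg hd (fun w hw => ?_) hf hσ
    rw [← comp_conj, hfix _ (hlift 0 (sg_mem_Sl hd.sym (frm_aa hd) (frm_au hd hw))) (sgl_iso _ (sg_iso _ _ _))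
      (by rw [conj_sgl0_S0_lift, hQfix w hw])]
  obtain ⟨Y, hY⟩ : ∃ Y, Y = blk B a a := ⟨_, rfl⟩
  have hblkB : Shp a b (blk B - Matrix.diagonal fun _ => Y) ∧ blk B b b = Y := by
    have key : ∀ x y u v, ¬((x = a ∧ y ≠ a) ∨ (y = b ∧ x ≠ b)) → blk B x y u v = if x = y then Y u v else 0 := by
      intro x y u v h
      obtain ⟨hE, hN⟩ := hZ0 (Fin.cons a u) (Fin.cons a v)
      obtain ⟨α, γ, g, hg, hZ⟩ := cent_root hd hE hN
      have hα : ∀ p q, ¬((p = a ∧ q ≠ a) ∨ (q = b ∧ p ≠ b)) → blk B p q u v = if p = q then α else 0 := by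
        intro p q hpq
        have hs := root_shp hd hg γ 1 p q hpq
        rw [one_smul] at hs
        rw [← comp_zero a a u v B p q, hZ, add_assoc, Matrix.add_apply, hs, add_zero, Matrix.smul_apply, Matrix.one_apply,
          smul_eq_mul, mul_ite, mul_one, mul_zero]
      rw [hα x y h, hY, hα a a (by rintro (⟨-, h'⟩ | ⟨h', -⟩); exacts [h' rfl, hd.hab h']), if_pos rfl]
    refine ⟨fun x y h => ?_, ?_⟩
    · ext u v
      rw [Matrix.sub_apply, Matrix.sub_apply, key x y u v h, Matrix.diagonal_apply]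
      split_ifs with h' <;> simp [h']
    · ext u v
      rw [key b b u v (by rintro (⟨h', -⟩ | ⟨-, h'⟩); exacts [hd.hab h'.symm, h' rfl]), if_pos rfl]
  -- the diagonal part vanishes
  have hYskew : Y ∈ skew (gram t J) := by
    have e : ∀ x y, blk (gram (t + 1) J * B) x y = gram t J * ∑ p, J x p • blk B p y := fun x y => by
      rw [map_mul, Matrix.mul_apply, Finset.mul_sum]
      exact Finset.sum_congr rfl fun p _ => by rw [blk_gram, smul_mul_assoc, mul_smul_comm]
    have hJ : ∀ x y, J x y = J y x := fun x y => (congrFun (congrFun hd.sym.symm y) x)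
    have h := congrFun (congrFun (congrArg (blk (F := F) (m := k) (t := t)) ((mem_skew).1 hB)) a) b
    rw [blk_transpose, map_neg, Matrix.neg_apply, e, e,
      Finset.sum_eq_single a (fun p _ hp => by rw [hJ b p, hd.jb, if_neg hp, zero_smul]) (by simp),
      Finset.sum_eq_single b (fun p _ hp => by rw [hJ a p, hd.ja, if_neg hp, zero_smul]) (by simp),
      hJ b a, hd.jb, if_pos rfl, one_smul, one_smul, ← hY, hblkB.2] at h
    exact mem_skew.2 h
  have hY0 : Y = 0 := by
    refine skew_slf_zero (gram_sym hd.sym) hYskew (slf_of_comp fun i u v => ?_)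
    have hconj : ∀ x : GL (Fin (t + 1) → Fin k) F, ∀ h : GL (Fin t → Fin k) F, conjMat x B = B →
        (blk (conjMat x B) a a = conjMat h (blk B a a)) → conjMat h Y = Y := fun x h e1 e2 => by
      rw [hY, ← e2, e1]
    obtain ⟨hE, hN⟩ := comm_of_sg hd (Z := comp i u v Y) (fun w hw => by
      rw [← comp_conj]
      refine congrArg (comp i u v) (hconj (sgl i.succ _) _ (hfix _ (hlift _ (sg_mem_Sl hd.sym (frm_aa hd) (frm_au hd hw)))
        (sgl_iso _ (sg_iso _ _ _)) ?_) (by rw [← liftW_sgl, blk_liftW_conj]))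
      rw [conj_sgl_succ_S0_lift, hP, conj_sgl_pure, hEfix w hw, Function.update_eq_self]) hf hσ
    obtain ⟨α, γ, g, hg, hZ⟩ := cent_root hd hE hN
    suffices hg0 : g = 0 by
      rw [hZ, hg0, Qm, op_zero_left, op_zero_right, sub_zero, add_zero]
      exact add_mem (Submodule.smul_mem _ _ (one_slf hd.sym)) (Submodule.smul_mem _ _ (op_slf hd.sym _))
    have hperp : ∀ w ∈ mid F a b, frm J w w ≠ 0 → frm J w g = 0 := by
      intro w hw hwσ
      obtain ⟨x, hx, r, c, hr, hc, hrc, xa, xb, xw, xm⟩ := exists_neg_weight hd hw hwσ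
      have hxI := Sl_le_Iso hd.sym hx
      obtain ⟨y, hy, ya, yb, ym⟩ := exists_torus hd (inv_ne_zero hr)
      have hyI := Sl_le_Iso hd.sym hy
      have hl : r⁻¹ * r⁻¹ ≠ 0 := mul_ne_zero (inv_ne_zero hr) (inv_ne_zero hr)
      have hB' : conjMat (sgl i.succ x * sgl 0 y) B = B := by
        refine hfix _ (by rw [map_mul]; exact mul_mem (hlift _ hx) (hlift _ hy))
          (mul_mem (sgl_iso _ hxI) (sgl_iso _ hyI)) ?_
        rw [conjMat_mul, conj_sgl0_S0_lift, conj_sgl_succ_S0_lift, conj_Qm hyI, ya, ym f hf, Qm_smul_right,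
          map_smul, smul_mul_assoc, hP, conj_sgl_pure, EA, conj_op hxI, xa, op_smul_left, op_smul_right, smul_smul,
          show Function.update (fun _ : Fin t => EA J a) i ((r * r) • EA J a) =
            fun l => (if l = i then r * r else 1) • EA J a from funext fun l => by
              rcases eq_or_ne l i with rfl | hl <;> simp [*],
          pureTensor_smul, Finset.prod_ite_eq', if_pos (Finset.mem_univ i), map_smul, mul_smul_comm, smul_smul]
        rw [show r⁻¹ * r⁻¹ * (r * r) = 1 by field_simp, one_smul]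
      have hYx : conjMat (sgl i x) Y = Y := by
        refine hconj _ _ hB' ?_
        rw [conjMat_mul, ← liftW_sgl, blk_liftW_conj]
        congr 1
        obtain ⟨c1, r1, -, -⟩ := levi_entries hd hyI (mul_inv_cancel₀ hl) ya yb
        obtain ⟨ya', yb'⟩ := inv_levi hd (mul_inv_cancel₀ hl) ya yb
        obtain ⟨c1', -, -, -⟩ := levi_entries hd (inv_mem hyI) (inv_mul_cancel₀ hl) ya' yb'
        rw [conjMat_apply, ← map_inv, sgl_coe, sgl_coe, map_mul, map_mul, Matrix.mul_apply,
          Finset.sum_eq_single a (fun q _ hq => by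
            rw [blk_S_zero, blk_S_zero, Matrix.map_apply, c1' q, if_neg hq, map_zero, mul_zero]) (by simp),
          Matrix.mul_apply, Finset.sum_eq_single a (fun q _ hq => by
            rw [blk_S_zero, Matrix.map_apply, r1 q, if_neg hq, map_zero, zero_mul]) (by simp),
          blk_S_zero, blk_S_zero, Matrix.map_apply, Matrix.map_apply, r1 a, c1' a, if_pos rfl, if_pos rfl,
          ← Algebra.commutes, ← mul_assoc, ← map_mul, inv_mul_cancel₀ hl, map_one, one_mul]
      have e := congrArg (fun M => frm J w (M *ᵥ Pi.single b 1)) (congrArg (comp i u v) hYx)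
      simp only [comp_conj, hZ, map_add, map_smul, map_one, EA, conj_op hxI, conj_Qm hxI, xa, op_smul_left, op_smul_right,
        Qm_smul_right, add_mulVec, smul_mulVec, one_mulVec, op_mulVec hd.sym, Qm_mulVec hd.sym, frm_add_right,
        frm_sub_right, frm_smul_right, frm_ab hd, frm_ub hd hw, frm_ub hd hg, frm_ub hd (xm g hg),
        frm_ua hd hw, mul_zero, mul_one, zero_add, sub_zero] at e
      have e2 := iso_frm hxI w g
      rw [xw, frm_smul_left] at e2
      refine (mul_eq_zero.1 (show (r - c) * frm J w g = 0 from ?_)).resolve_left (sub_ne_zero.2 hrc)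
      linear_combination c * e - r * e2
    refine mid_nondeg hd hg fun w hw => ?_
    rw [frm_comm hd.sym]
    exact aniso_span hd (T := LinearMap.ker
      ({ toFun := fun z => frm J z g
         map_add' := fun p q => frm_add_left p q g
         map_smul' := fun c p => frm_smul_left c p g } : (Fin k → F) →ₗ[F] F)) hperp hw
  obtain ⟨hBs, -⟩ := hblkB
  rw [hY0, Matrix.diagonal_zero, sub_zero] at hBs
  -- move the first moved slot to the front
  have hRs : Shp a b (blk (R.val - 1)) := fun x y h => by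
    have hs := root_shp hd hf 0 1 x y h
    rw [zero_smul, zero_add, one_smul] at hs
    rw [hRv, add_sub_cancel_left, blk_S0_lift, hs, zero_smul]
  obtain ⟨N, hN⟩ : ∃ N, N = B * R.val := ⟨_, rfl⟩
  have hNs : Shp a b (blk N) := by
    have e : N = B + B * (R.val - 1) := by rw [hN, mul_sub, mul_one]; abel
    rw [e, map_add, map_mul, shp_mul_one hd.hab hBs hRs]
    exact shp_add hBs (shp_single hd.hab _)
  have hzv : (W * liftW R).val = 1 + (lift (R.val - 1) + S 0 (EA J a) * lift N) := by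
    rw [Units.val_mul, hW, liftW_coe, add_mul, one_mul, mul_assoc, ← map_mul, ← hN, map_sub, map_one]
    abel
  obtain ⟨σ, hσd⟩ : ∃ σ : Equiv.Perm (Fin (t + 1 + 1)), σ = Equiv.swap 0 (Fin.succ 0) := ⟨_, rfl⟩
  obtain ⟨w, hw⟩ : ∃ w : GL (Fin (t + 1 + 1) → Fin k) F, w = permGL σ := ⟨_, rfl⟩
  have hwW : w ∈ W0 hd.sym (t + 1 + 1) := hw ▸ perm_mem_W0 σ
  obtain ⟨z, hz'⟩ : ∃ z, z = w * (W * liftW R) * w⁻¹ := ⟨_, rfl⟩
  have hzG : z ∈ TensorWreath.conjSub w G := hz' ▸ conj_mem_conjSub hWR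
  have hzs : Shp a b (blk z.val - 1) := fun p q h => by
    ext u v
    rw [hz', ← conjMat_units, hzv, map_add, map_one, map_add blk, map_one, add_sub_cancel_left, blk_apply, hw,
      conjMat_apply, permGL_inv, mul_perm_apply, perm_mul_apply]
    have hx : ∀ (p : Fin k) (u : Fin (t + 1) → Fin k), Fin.tail ((Fin.cons p u : Fin (t + 1 + 1) → Fin k) ∘ ⇑σ) 0 = p :=
      fun p u => by simp [Fin.tail, hσd]
    have hy : (Fin.cons q v : Fin (t + 1 + 1) → Fin k) ∘ ⇑(σ⁻¹).symm = Fin.cons q v ∘ ⇑σ := rfl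
    rw [hy, ← Fin.cons_self_tail ((Fin.cons p u : Fin (t + 1 + 1) → Fin k) ∘ ⇑σ),
      ← Fin.cons_self_tail ((Fin.cons q v : Fin (t + 1 + 1) → Fin k) ∘ ⇑σ),
      ← blk_apply (lift (R.val - 1) + S 0 (EA J a) * lift N), map_add,
      blk_lift, Matrix.add_apply, Matrix.add_apply, Matrix.diagonal_apply, blk_S0_lift]
    have zero : ∀ {M : Matrix (Fin (t + 1) → Fin k) (Fin (t + 1) → Fin k) F}, Shp a b (blk M) →
        M (Fin.tail ((Fin.cons p u : Fin (t + 1 + 1) → Fin k) ∘ ⇑σ))
          (Fin.tail ((Fin.cons q v : Fin (t + 1 + 1) → Fin k) ∘ ⇑σ)) = 0 := fun {M} hM => by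
      rw [← Fin.cons_self_tail (Fin.tail ((Fin.cons p u : Fin (t + 1 + 1) → Fin k) ∘ ⇑σ)),
        ← Fin.cons_self_tail (Fin.tail ((Fin.cons q v : Fin (t + 1 + 1) → Fin k) ∘ ⇑σ)), ← blk_apply M, hx, hx,
        hM p q h]
      rfl
    rw [Matrix.smul_apply, zero hNs, smul_zero, add_zero]
    split_ifs
    · rw [zero hRs, Matrix.zero_apply]
    · rfl
  obtain ⟨Z, hZ⟩ := shaped_slot hd (hG.conjSub hwW) (hT.conjSub hwW) hzG hzs
  have hzS : (W * liftW R).val = S (Fin.succ 0) Z := by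
    refine (conjMat w).injective ?_
    rw [conjMat_units, ← hz', hZ, hw, conj_perm_S, hσd, Equiv.swap_apply_right]
  have hRS : R.val = S 0 Z := by
    have h := congrFun (congrFun (congrArg (blk (F := F) (m := k) (t := t + 1)) hzS) a) a
    rw [hzv, map_add, map_one, map_add, blk_lift, blk_S_succ, Matrix.add_apply, Matrix.add_apply, blk_S0_lift,
      EA_eq hd, Matrix.single_apply, if_neg (fun e => hd.hab e.2.symm), zero_smul, add_zero, Matrix.one_apply_eq,
      Matrix.diagonal_apply_eq, Matrix.diagonal_apply_eq, add_sub_cancel] at h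
    exact h
  -- the slot is not alone
  obtain ⟨p, hpa, hpb, hfp⟩ : ∃ p, p ≠ a ∧ p ≠ b ∧ f p ≠ 0 := by
    by_contra hc
    push Not at hc
    refine hσ ?_
    rw [show f = 0 from funext fun p => ?_, frm_zero_left]
    by_cases hp : p = a
    · rw [hp]; exact (mem_mid.1 hf).1
    by_cases hp' : p = b
    · rw [hp']; exact (mem_mid.1 hf).2
    exact hc p hp hp'
  have hab : ∀ i : Fin t, (fun _ : Fin t => a) i ≠ (fun _ : Fin t => b) i := fun _ => hd.hab
  have h := congrFun (congrFun (congrFun (congrFun (congrArg (blk (F := F) (m := k) (t := t)) hRS) p) b)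
    fun _ => a) fun _ => b
  rw [hRv, map_add, map_one, Matrix.add_apply, Matrix.add_apply, Matrix.one_apply_ne hpb, Matrix.zero_apply, zero_add,
    blk_S0_lift, blk_S_zero, Matrix.map_apply, Algebra.algebraMap_eq_smul_one, Matrix.smul_apply, Matrix.smul_apply,
    Matrix.one_apply_ne (fun e => hd.hab (congrFun e i₀)), smul_zero, Qm, Matrix.sub_apply, op_apply, op_apply, Ja hd,
    Pi.single_eq_same, Pi.single_eq_of_ne hpa, zero_mul, sub_zero, mul_one, hP, pureTensor_apply,
    Finset.prod_eq_one fun i _ => by rw [EA_eq hd, Matrix.single_apply_same], smul_eq_mul, mul_one] at h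
  exact hfp h

end Cfsg.Agent.TensorWreath.Or
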