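import Cfsg.Agent.Lib.Forms.Max.TensorWreath.Orth.Shear

/-!
# Isometries preserving the first root line split off the first slot
-/

set_option autoImplicit false
set_option linter.unusedSectionVars false
set_option linter.unusedSimpArgs false
set_option maxHeartbeats 800000

namespace Cfsg.Agent.TensorWreath.Or

open Matrix Cfsg.Agent.Aschbacher

variable {F : Type*} [Field F] {k t : ℕ} {J : Matrix (Fin k) (Fin k) F} {a b : Fin k}

theorem blk_gram_conj (M : Matrix (Fin (t + 1) → Fin k) (Fin (t + 1) → Fin k) F) (x y : Fin k) :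
    blk (Mᵀ * gram (t + 1) J * M) x y = ∑ p, ∑ q, J p q • ((blk M p x)ᵀ * gram t J * blk M q y) := by
  rw [map_mul, map_mul, Matrix.mul_apply, Finset.sum_comm]
  refine Finset.sum_congr rfl fun q _ => ?_
  rw [Matrix.mul_apply, Finset.sum_mul]
  refine Finset.sum_congr rfl fun p _ => ?_
  rw [blk_transpose, blk_gram, mul_smul_comm, smul_mul_assoc]

variable (hd : Hyp J a b)
include hd

/-- shaped isometries lie in `Ω` -/
theorem shaped_om [Fintype F] (ht : 1 ≤ t) {U : GL (Fin (t + 1) → Fin k) F} (hU : U ∈ Iso (gram (t + 1) J))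
    (hs : Shp a b (blk U.val - 1)) : U ∈ Om (gram (t + 1) J) := by
  classical
  let X : Submodule F ((Fin (t + 1) → Fin k) → F) :=
    { carrier := {x | ∀ p, p 0 ≠ a → x p = 0}
      zero_mem' := fun p _ => rfl
      add_mem' := fun {x y} hx hy p hp => by rw [Pi.add_apply, hx p hp, hy p hp, add_zero]
      smul_mem' := fun c x hx p hp => by rw [Pi.smul_apply, hx p hp, smul_zero] }
  have hJ : ∀ {p q : Fin k}, p = a → J p q = if q = b then 1 else 0 := fun {p q} h => by
    rw [h, ← congrFun (congrFun hd.sym.symm a) q, transpose_apply, hd.ja]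
  have hgr : ∀ x ∈ X, ∀ p, ((gram (t + 1) J) *ᵥ x) p ≠ 0 → p 0 = b := by
    intro x hx p hne
    by_contra hp
    refine hne (Finset.sum_eq_zero fun q _ => ?_)
    beta_reduce
    by_cases hq : q 0 = a
    · rw [gram, pureTensor_apply, Finset.prod_eq_zero (Finset.mem_univ 0) (by rw [hq, hd.ja, if_neg hp]), zero_mul]
    · rw [hx q hq, mul_zero]
  have hU0 : ∀ p q, p 0 ≠ q 0 → (q 0 = a ∨ p 0 = b ∨ (p 0 ≠ a ∧ q 0 ≠ b)) → U.val p q = 0 := by
    intro p q hpq h
    have h1 := hs (p 0) (q 0) (by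
      rintro (⟨hp, hq⟩ | ⟨hq, hp⟩) <;> rcases h with h | h | ⟨h, h'⟩
      · exact hq h
      · exact hd.hab (hp.symm.trans h)
      · exact h hp
      · exact hd.hab (h.symm.trans hq)
      · exact hp h
      · exact h' hq)
    rw [Matrix.sub_apply, Matrix.one_apply_ne hpq, sub_zero] at h1
    have h2 := blk_apply U.val (p 0) (q 0) (Fin.tail p) (Fin.tail q)
    rw [Fin.cons_self_tail, Fin.cons_self_tail, h1, Matrix.zero_apply] at h2
    exact h2.symm
  have hUd : ∀ p q, p 0 = q 0 → U.val p q = (1 : Matrix _ _ F) p q := by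
    intro p q hpq
    have h1 := hs (p 0) (q 0) (by rintro (⟨hp, hq⟩ | ⟨hq, hp⟩); exacts [hq (hpq ▸ hp), hp (hpq.trans hq)])
    rw [Matrix.sub_apply, sub_eq_zero] at h1
    have h2 := blk_apply U.val (p 0) (q 0) (Fin.tail p) (Fin.tail q)
    rw [Fin.cons_self_tail, Fin.cons_self_tail, h1, hpq, Matrix.one_apply_eq] at h2
    rw [← h2, Matrix.one_apply, Matrix.one_apply]
    refine if_congr ⟨fun h => ?_, fun h => congrArg Fin.tail h⟩ rfl rfl
    rw [← Fin.cons_self_tail p, ← Fin.cons_self_tail q, h, hpq]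
  refine omega_radical (gram_sym hd.sym) (?_ : 9 ≤ Fintype.card (Fin (t + 1) → Fin k)) (X := X) (fun x hx => ?_) hU
    (fun x hx => ?_) fun z hz => ?_
  · rw [Fintype.card_fun, Fintype.card_fin, Fintype.card_fin]
    exact le_trans (le_trans (by norm_num) (Nat.pow_le_pow_left hd.hk 2))
      (Nat.pow_le_pow_right (by have := hd.hk; omega) (by omega))
  · refine Finset.sum_eq_zero fun p _ => ?_
    by_cases hp : p 0 = a
    · have : ((gram (t + 1) J) *ᵥ x) p = 0 := by
        by_contra hne
        exact hd.hab (hp.symm.trans (hgr x hx p hne))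
      rw [this, mul_zero]
    · rw [hx p hp, zero_mul]
  · funext p
    have : ∀ q, U.val p q * x q = (1 : Matrix _ _ F) p q * x q := fun q => by
      by_cases hq : q 0 = a
      · by_cases hpq : p 0 = q 0
        · rw [hUd p q hpq]
        · rw [hU0 p q hpq (Or.inl hq), Matrix.one_apply_ne fun h => hpq (by rw [h])]
      · rw [hx q hq, mul_zero, mul_zero]
    rw [show x p = ((1 : Matrix _ _ F) *ᵥ x) p by rw [one_mulVec]]
    exact Finset.sum_congr rfl fun q _ => this q
  · have hzb : ∀ q, q 0 = b → z q = 0 := by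
      intro q hq
      obtain ⟨Ju, hJu⟩ := hd.sym.unit
      obtain ⟨x, hx⟩ : ∃ x : (Fin (t + 1) → Fin k) → F, x = pvec (Fin.cons (Pi.single a 1)
          fun i => (Ju⁻¹).val *ᵥ (Pi.single (Fin.tail q i) (1 : F))) := ⟨_, rfl⟩
      have hGx : gram (t + 1) J *ᵥ x = Pi.single q 1 := by
        rw [hx, gram, pure_mulVec_pvec, pvec_single q]
        congr 1
        funext i
        induction i using Fin.cases with
        | zero => rw [Fin.cons_zero, Ja hd, hq]
        | succ i => rw [Fin.cons_succ, ← hJu, cancelV']; rfl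
      have hxX : x ∈ X := fun p hp => by
        rw [hx]
        exact Finset.prod_eq_zero (Finset.mem_univ 0) (by rw [Fin.cons_zero, Pi.single_eq_of_ne hp])
      have := hz x hxX
      rw [frm, hGx, dotProduct_single, mul_one] at this
      exact this
    intro p hp
    rw [Pi.sub_apply, sub_eq_zero, show z p = ((1 : Matrix _ _ F) *ᵥ z) p by rw [one_mulVec]]
    refine Finset.sum_congr rfl fun q _ => ?_
    beta_reduce
    by_cases hq : q 0 = b
    · rw [hzb q hq, mul_zero, mul_zero]
    · by_cases hpq : p 0 = q 0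
      · rw [hUd p q hpq]
      · rw [hU0 p q hpq (Or.inr (Or.inr ⟨hp, hq⟩)), Matrix.one_apply_ne fun h => hpq (by rw [h])]

/-- scalar solutions of the middle equations -/
theorem scalar_of_eqs {V : Fin k → Matrix (Fin t → Fin k) (Fin t → Fin k) F}
    (h : ∀ m, m ≠ a → m ≠ b → ∃ c : F, ∑ q, J m q • V q = c • 1) :
    ∀ q, q ≠ a → q ≠ b → ∃ c : F, V q = c • 1 := by
  classical
  obtain ⟨u₀⟩ : Nonempty (Fin t → Fin k) := ⟨fun _ => a⟩
  obtain ⟨W, hW⟩ : ∃ W : Fin k → Matrix (Fin t → Fin k) (Fin t → Fin k) F,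
      ∀ q, W q = if q = a ∨ q = b then 0 else V q - V q u₀ u₀ • 1 := ⟨_, fun _ => rfl⟩
  have hW0 : W = 0 := by
    refine col_zero hd (by rw [hW, if_pos (Or.inl rfl)]) (by rw [hW, if_pos (Or.inr rfl)]) fun m ha hb => ?_
    obtain ⟨hma, hmb, -, -⟩ := J_entries hd ha hb
    obtain ⟨c, hc⟩ := h m ha hb
    have e : ∑ q, J m q • W q = ∑ q, J m q • V q - (∑ q, J m q * V q u₀ u₀) • (1 : Matrix (Fin t → Fin k) (Fin t → Fin k) F) := by
      rw [Finset.sum_smul, ← Finset.sum_sub_distrib]
      refine Finset.sum_congr rfl fun q _ => ?_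
      rw [hW]
      split_ifs with h'
      · rcases h' with rfl | rfl <;> simp [hma, hmb]
      · rw [smul_sub, smul_smul]
    have e2 := congrFun (congrFun hc u₀) u₀
    simp only [Matrix.sum_apply, Matrix.smul_apply, smul_eq_mul, Matrix.one_apply_eq, mul_one] at e2
    rw [e, hc, e2, sub_self]
  intro q ha hb
  refine ⟨V q u₀ u₀, ?_⟩
  have := congrFun hW0 q
  rw [hW, if_neg (not_or.2 ⟨ha, hb⟩)] at this
  exact sub_eq_zero.1 this

variable [Fintype F]

/-- isometries preserving the root line with scalar middle blocks split -/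
theorem slice_split (ht : 1 ≤ t) {g : GL (Fin (t + 1) → Fin k) F} (hg : g ∈ Iso (gram (t + 1) J)) {c : F} (hc : c ≠ 0)
    (hcol : ∀ x, x ≠ a → blk g.val x a = 0) (hrow : ∀ y, y ≠ b → blk g.val b y = 0)
    (hbb : blk g.val b b = c • blk g.val a a)
    (hmid : ∀ q y, q ≠ a → q ≠ b → y ≠ a → y ≠ b → ∃ r : F, blk (g⁻¹).val q y = r • blk (g⁻¹).val a a) :
    ∃ (U : GL (Fin (t + 1) → Fin k) F) (D : GL (Fin k) F) (w : GL (Fin t → Fin k) F),
      g = U * (sgl 0 D * liftW w) ∧ U ∈ Iso (gram (t + 1) J) ∧ Shp a b (blk U.val - 1) ∧ U ∈ Om (gram (t + 1) J) ∧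
      w.valᵀ * gram t J * w.val = c⁻¹ • gram t J := by
  classical
  have hJs : ∀ x y, J x y = J y x := fun x y => congrFun (congrFun hd.sym.symm y) x
  have hJa : ∀ q, J a q = if q = b then 1 else 0 := fun q => by rw [hJs, hd.ja]
  have hJb : ∀ q, J b q = if q = a then 1 else 0 := fun q => by rw [hJs, hd.jb]
  have hi : ∑ p, blk (g⁻¹).val a p * blk g.val p a = 1 := by
    rw [← Matrix.mul_apply, ← map_mul, ← Units.val_mul, inv_mul_cancel, Units.val_one, map_one, Matrix.one_apply_eq]
  rw [Finset.sum_eq_single a (fun p _ hp => by rw [hcol p hp, mul_zero]) (by simp)] at hi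
  let w : GL (Fin t → Fin k) F := ⟨blk g.val a a, blk (g⁻¹).val a a, mul_eq_one_comm.1 hi, hi⟩
  have hwv : w.val = blk g.val a a := rfl
  have hwi : (w⁻¹).val = blk (g⁻¹).val a a := rfl
  have hW : c • (w.valᵀ * gram t J * w.val) = gram t J := by
    have e := iso_blk hg a b
    rw [Finset.sum_eq_single a (fun p _ hp => Finset.sum_eq_zero fun q _ => by
        rw [hcol p hp, transpose_zero, zero_mul, zero_mul, smul_zero]) (by simp),
      Finset.sum_eq_single b (fun q _ hq => by rw [hJa, if_neg hq, zero_smul]) (by simp),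
      hJa, if_pos rfl, one_smul, one_smul, hbb, mul_smul_comm] at e
    exact e
  have hKg : blk (g.valᵀ * gram (t + 1) J) = blk (gram (t + 1) J * (g⁻¹).val) := by
    congr 1
    conv_rhs => rw [← (show g.valᵀ * gram (t + 1) J * g.val = gram (t + 1) J from hg), Matrix.mul_assoc,
      ← Units.val_mul, mul_inv_cancel, Units.val_one, Matrix.mul_one]
  have hgw : gram t J * (w⁻¹).val = c • (w.valᵀ * gram t J) := by
    conv_lhs => rw [← hW]
    rw [smul_mul_assoc, Matrix.mul_assoc (w.valᵀ * gram t J), ← Units.val_mul, mul_inv_cancel, Units.val_one,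
      Matrix.mul_one]
  have hχ : ∀ p x, p ≠ a → p ≠ b → x ≠ a → x ≠ b → ∃ r : F, blk g.val p x = r • w.val := by
    intro p x hpa hpb hxa hxb
    suffices h : ∃ r : F, blk g.val p x * (w⁻¹).val = r • 1 by
      obtain ⟨r, hr⟩ := h
      refine ⟨r, ?_⟩
      have := congrArg (· * w.val) hr
      rwa [mul_assoc, ← Units.val_mul, inv_mul_cancel, Units.val_one, mul_one, smul_mul_assoc, one_mul] at this
    refine scalar_of_eqs hd (V := fun q => blk g.val q x * (w⁻¹).val) (fun y hya hyb => ?_) p hpa hpb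
    have e := congrFun (congrFun hKg x) y
    rw [map_mul, map_mul, Matrix.mul_apply, Matrix.mul_apply] at e
    have er : ∀ q, ∃ r : F, blk (gram (t + 1) J) x q * blk (g⁻¹).val q y = r • (w.valᵀ * gram t J) := by
      intro q
      obtain ⟨hxa', hxb', -, -⟩ := J_entries hd hxa hxb
      rw [blk_gram, smul_mul_assoc]
      rcases eq_or_ne q a with rfl | hqa
      · exact ⟨0, by rw [hxa', zero_smul, zero_smul]⟩
      rcases eq_or_ne q b with rfl | hqb
      · exact ⟨0, by rw [hxb', zero_smul, zero_smul]⟩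
      obtain ⟨r, hr⟩ := hmid q y hqa hqb hya hyb
      exact ⟨J x q * (r * c), by rw [hr, ← hwi, mul_smul_comm, hgw, smul_smul, smul_smul, mul_assoc]⟩
    choose r hr using er
    rw [Finset.sum_congr rfl (g := fun q => r q • (w.valᵀ * gram t J)) (fun q _ => hr q), ← Finset.sum_smul] at e
    simp only [blk_transpose, blk_gram, mul_smul_comm] at e
    refine ⟨∑ q, r q, ?_⟩
    have e2 : (∑ q, J q y • (blk g.val q x)ᵀ) * gram t J = ((∑ q, r q) • w.valᵀ) * gram t J := by
      rw [Finset.sum_mul, smul_mul_assoc, ← e]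
      exact Finset.sum_congr rfl fun q _ => smul_mul_assoc _ _ _
    have e3 := congrArg Matrix.transpose ((gram_sym hd.sym).unit.mul_right_cancel e2)
    rw [transpose_sum, transpose_smul, transpose_transpose] at e3
    simp only [transpose_smul, transpose_transpose] at e3
    have e4 := congrArg (· * (w⁻¹).val) e3
    rw [Finset.sum_mul, smul_mul_assoc, ← Units.val_mul, mul_inv_cancel, Units.val_one] at e4
    rw [← e4]
    exact Finset.sum_congr rfl fun q _ => by rw [hJs y q, smul_mul_assoc]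
  choose! χ hχ using hχ
  obtain ⟨D, hD⟩ : ∃ D : Matrix (Fin k) (Fin k) F, ∀ x y, D x y = if x = a then (if y = a then 1 else 0)
      else if x = b then (if y = b then c else 0) else if y = a ∨ y = b then 0 else χ x y := ⟨_, fun _ _ => rfl⟩
  have hDa : ∀ y, D a y = if y = a then 1 else 0 := fun y => by rw [hD, if_pos rfl]
  have hDb : ∀ y, D b y = if y = b then c else 0 := fun y => by rw [hD, if_neg hd.hab.symm, if_pos rfl]
  have hDca : ∀ x, x ≠ a → D x a = 0 := fun x hx => by
    by_cases hxb : x = b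
    · rw [hxb, hDb, if_neg hd.hab]
    · rw [hD, if_neg hx, if_neg hxb, if_pos (Or.inl rfl)]
  have hDcb : ∀ x, x ≠ b → D x b = 0 := fun x hx => by
    by_cases hxa : x = a
    · rw [hxa, hDa, if_neg hd.hab.symm]
    · rw [hD, if_neg hxa, if_neg hx, if_pos (Or.inr rfl)]
  have hDm : ∀ p x, p ≠ a → p ≠ b → x ≠ a → x ≠ b → blk g.val p x = D p x • w.val := fun p x h1 h2 h3 h4 => by
    rw [hD, if_neg h1, if_neg h2, if_neg (not_or.2 ⟨h3, h4⟩)]; exact hχ p x h1 h2 h3 h4
  have hne : w.valᵀ * gram t J * w.val ≠ 0 := fun e => by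
    have : Nonempty (Fin t → Fin k) := ⟨fun _ => a⟩
    have hne' := (gram_sym (t := t) hd.sym).unit.ne_zero
    exact hne' (by rw [← hW, e, smul_zero])
  have hsim : Dᵀ * J * D = c • J := by
    ext x y
    have hsum : (Dᵀ * J * D) x y = ∑ p, ∑ q, D p x * J p q * D q y := by
      rw [Matrix.mul_apply, Finset.sum_comm]
      refine Finset.sum_congr rfl fun q _ => ?_
      rw [Matrix.mul_apply, Finset.sum_mul]
      rfl
    rw [hsum, Matrix.smul_apply, smul_eq_mul]
    rcases eq_or_ne x a with rfl | hxa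
    · rw [Finset.sum_eq_single x (fun p _ hp => Finset.sum_eq_zero fun q _ => by
        rw [hDca p hp, zero_mul, zero_mul]) (by simp),
        Finset.sum_eq_single b (fun q _ hq => by rw [hJa, if_neg hq, mul_zero, zero_mul]) (by simp),
        hJa, if_pos rfl, hDa, if_pos rfl, one_mul, one_mul, hDb, hJa]
      split_ifs <;> simp
    rcases eq_or_ne x b with rfl | hxb
    · rw [Finset.sum_eq_single x (fun p _ hp => Finset.sum_eq_zero fun q _ => by
        rw [hDcb p hp, zero_mul, zero_mul]) (by simp),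
        Finset.sum_eq_single a (fun q _ hq => by rw [hJb, if_neg hq, mul_zero, zero_mul]) (by simp),
        hJb, if_pos rfl, hDb, if_pos rfl, mul_one, hDa, hJb]
    obtain ⟨hxa', hxb', -, -⟩ := J_entries hd hxa hxb
    rcases eq_or_ne y a with rfl | hya
    · rw [hxa', mul_zero]
      refine Finset.sum_eq_zero fun p _ => Finset.sum_eq_zero fun q _ => ?_
      rcases eq_or_ne q y with rfl | hq
      · rw [hd.ja]
        split_ifs with hp
        · rw [hp, hDb, if_neg hxb, zero_mul, zero_mul]
        · rw [mul_zero, zero_mul]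
      · rw [hDca q hq, mul_zero]
    rcases eq_or_ne y b with rfl | hyb
    · rw [hxb', mul_zero]
      refine Finset.sum_eq_zero fun p _ => Finset.sum_eq_zero fun q _ => ?_
      rcases eq_or_ne q y with rfl | hq
      · rw [hd.jb]
        split_ifs with hp
        · rw [hp, hDa, if_neg hxa, zero_mul, zero_mul]
        · rw [mul_zero, zero_mul]
      · rw [hDcb q hq, mul_zero]
    have e := iso_blk hg x y
    have hterms : ∀ p q, J p q • ((blk g.val p x)ᵀ * gram t J * blk g.val q y) =
        (D p x * J p q * D q y) • (w.valᵀ * gram t J * w.val) := by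
      intro p q
      rcases eq_or_ne p a with rfl | hpa
      · rw [hJa, hDa, if_neg hxa]
        split_ifs with hq
        · rw [hq, hrow y hyb, mul_zero, smul_zero, zero_mul, zero_mul, zero_smul]
        · rw [zero_smul, zero_mul, zero_mul, zero_smul]
      rcases eq_or_ne p b with rfl | hpb
      · rw [hrow x hxb, transpose_zero, zero_mul, zero_mul, smul_zero, hDb, if_neg hxb, zero_mul, zero_mul, zero_smul]
      rcases eq_or_ne q a with rfl | hqa
      · rw [hd.ja, if_neg hpb, zero_smul, mul_zero, zero_mul, zero_smul]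
      rcases eq_or_ne q b with rfl | hqb
      · rw [hd.jb, if_neg hpa, zero_smul, mul_zero, zero_mul, zero_smul]
      rw [hDm p x hpa hpb hxa hxb, hDm q y hqa hqb hya hyb, transpose_smul, smul_mul_assoc, smul_mul_assoc,
        mul_smul_comm, smul_smul, smul_smul, mul_comm (D p x) (J p q)]
    simp only [hterms, ← Finset.sum_smul] at e
    refine smul_left_injective F hne (e.trans ?_)
    show J x y • gram t J = (c * J x y) • _
    rw [mul_comm c, ← smul_smul, hW]
  obtain ⟨Ju, hJu⟩ := hd.sym.unit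
  have hQD : c⁻¹ • ((Ju⁻¹).val * Dᵀ * J) * D = 1 := by
    rw [smul_mul_assoc, Matrix.mul_assoc, Matrix.mul_assoc, ← Matrix.mul_assoc Dᵀ, hsim, Matrix.mul_smul, ← hJu,
      ← Units.val_mul, inv_mul_cancel, Units.val_one, smul_smul, inv_mul_cancel₀ hc, one_smul]
  let Du : GL (Fin k) F := ⟨D, c⁻¹ • ((Ju⁻¹).val * Dᵀ * J), mul_eq_one_comm.1 hQD, hQD⟩
  obtain ⟨Q, hQ⟩ : ∃ Q, Q = (Du⁻¹).val := ⟨_, rfl⟩
  have hDQ : D * Q = 1 := by rw [hQ]; exact congrArg Units.val (mul_inv_cancel Du)
  have hQD' : Q * D = 1 := by rw [hQ]; exact congrArg Units.val (inv_mul_cancel Du)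
  have hdd : ∀ x y, ∑ p, D x p * Q p y = (1 : Matrix (Fin k) (Fin k) F) x y := fun x y => by
    rw [← Matrix.mul_apply, hDQ]
  have hQa : ∀ p, Q p a = (1 : Matrix (Fin k) (Fin k) F) p a := fun p => by
    have h := congrFun (congrFun hQD' p) a
    rwa [Matrix.mul_apply, Finset.sum_eq_single a (fun q _ hq => by rw [hDca q hq, mul_zero]) (by simp), hDa,
      if_pos rfl, mul_one] at h
  have hQr : ∀ y, Q a y = (1 : Matrix (Fin k) (Fin k) F) a y ∧ c * Q b y = (1 : Matrix (Fin k) (Fin k) F) b y := by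
    intro y
    constructor
    · rw [← hdd a y, Finset.sum_eq_single a (fun p _ hp => by rw [hDa, if_neg hp, zero_mul]) (by simp), hDa,
        if_pos rfl, one_mul]
    · rw [← hdd b y, Finset.sum_eq_single b (fun p _ hp => by rw [hDb, if_neg hp, zero_mul]) (by simp), hDb, if_pos rfl]
  set U := g * (sgl 0 Du * liftW w)⁻¹ with hU
  have hUblk : ∀ x y, blk U.val x y = ∑ p, Q p y • (blk g.val x p * (w⁻¹).val) := fun x y => by
    rw [hU, _root_.mul_inv_rev, ← map_inv, ← map_inv, Units.val_mul, Units.val_mul, map_mul, Matrix.mul_apply]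
    refine Finset.sum_congr rfl fun p _ => ?_
    rw [sgl_coe, liftW_coe, ← S0_lift_comm, blk_S0_lift, mul_smul_comm, ← hQ]
  have hww : w.val * (w⁻¹).val = 1 := congrArg Units.val (mul_inv_cancel w)
  have hone : ∀ x y, ((1 : Matrix (Fin k) (Fin k) (Matrix (Fin t → Fin k) (Fin t → Fin k) F)) x y) =
      (1 : Matrix (Fin k) (Fin k) F) x y • 1 := fun x y => by
    rw [Matrix.one_apply, Matrix.one_apply]; split_ifs <;> simp
  have hUs : Shp a b (blk U.val - 1) := by
    intro x y hxy
    rw [Matrix.sub_apply, sub_eq_zero, hUblk, hone]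
    by_cases hy : y = a
    · rw [hy, Finset.sum_eq_single a (fun p _ hp => by rw [hQa, Matrix.one_apply_ne hp, zero_smul]) (by simp), hQa,
        Matrix.one_apply_eq, one_smul]
      rcases eq_or_ne x a with rfl | hx
      · rw [← hwv, hww, Matrix.one_apply_eq, one_smul]
      · rw [hcol x hx, zero_mul, Matrix.one_apply_ne hx, zero_smul]
    by_cases hx : x = b
    · rw [hx, Finset.sum_eq_single b (fun p _ hp => by rw [hrow p hp, zero_mul, smul_zero]) (by simp), hbb,
        smul_mul_assoc, ← hwv, hww, smul_smul, mul_comm, (hQr y).2]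
    have hxa : x ≠ a := fun e => hxy (Or.inl ⟨e, hy⟩)
    have hyb : y ≠ b := fun e => hxy (Or.inr ⟨e, hx⟩)
    rw [← hdd x y, Finset.sum_smul]
    refine Finset.sum_congr rfl fun p _ => ?_
    rcases eq_or_ne p a with rfl | hpa
    · rw [(hQr y).1, Matrix.one_apply_ne (Ne.symm hy), mul_zero, zero_smul, zero_smul]
    rcases eq_or_ne p b with rfl | hpb
    · have h := (hQr y).2
      rw [Matrix.one_apply_ne (Ne.symm hyb)] at h
      rw [(mul_eq_zero.1 h).resolve_left hc, mul_zero, zero_smul, zero_smul]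
    rw [hDm x p hxa hx hpa hpb, smul_mul_assoc, hww, smul_smul, mul_comm]
  have hM : sgl 0 Du * liftW w ∈ Iso (gram (t + 1) J) := by
    rw [mem_Iso]
    refine (blk (F := F) (m := k) (t := t)).injective (Matrix.ext fun x y => ?_)
    rw [blk_gram_conj, blk_gram]
    have hs : ∀ p q, blk (sgl 0 Du * liftW w).val p q = D p q • w.val := fun p q => by
      rw [Units.val_mul, sgl_coe, liftW_coe, blk_S0_lift]
    simp only [hs, transpose_smul, smul_mul_assoc, mul_smul_comm, smul_smul, ← Finset.sum_smul]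
    rw [Finset.sum_comm, show (∑ q, ∑ p, J p q * (D q y * D p x)) = (Dᵀ * J * D) x y by
      rw [Matrix.mul_apply]
      refine Finset.sum_congr rfl fun q _ => ?_
      rw [Matrix.mul_apply, Finset.sum_mul]
      refine Finset.sum_congr rfl fun p _ => ?_
      rw [Matrix.transpose_apply]; ring, hsim, Matrix.smul_apply, smul_eq_mul, mul_comm c, ← smul_smul, hW]
  have hUI : U ∈ Iso (gram (t + 1) J) := mul_mem hg (inv_mem hM)
  refine ⟨U, Du, w, by rw [hU, inv_mul_cancel_right], hUI, hUs, shaped_om hd ht hUI hUs, ?_⟩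
  conv_rhs => rw [← hW]
  rw [smul_smul, inv_mul_cancel₀ hc, one_smul]

end Cfsg.Agent.TensorWreath.Or
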