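import Cfsg.Agent.Lib.Forms.Max.TensorWreath.Orth.Roots
import Cfsg.Agent.Lib.Forms.Max.TensorWreath.Orth.NoSurj
import Cfsg.Agent.Lib.Forms.Max.TensorWreath.Orth.Slice

/-!
# Conjugates of root groups inside the wreath group come from the wreath group
-/

set_option autoImplicit false
set_option linter.unusedSectionVars false
set_option linter.unusedSimpArgs false
set_option maxHeartbeats 800000

namespace Cfsg.Agent.TensorWreath.Or

open Matrix Cfsg.Agent.Aschbacher

variable {F : Type*} [Field F] {k t : ℕ} {J : Matrix (Fin k) (Fin k) F} {a b : Fin k}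

/-- similitudes normalise `Ω` -/
theorem om_conj_sim {ι : Type} [Fintype ι] [DecidableEq ι] {P : Matrix ι ι F} {w : GL ι F} {c : F} (hc : c ≠ 0)
    (hw : w.valᵀ * P * w.val = c • P) {x : GL ι F} (hx : x ∈ Om P) : w * x * w⁻¹ ∈ Om P := by
  have hwi : (w⁻¹).valᵀ * P * (w⁻¹).val = c⁻¹ • P := by
    have h1 : (w⁻¹).valᵀ * (c • P) * (w⁻¹).val = P := by
      rw [← hw, Matrix.mul_assoc, Matrix.mul_assoc, ← Units.val_mul, mul_inv_cancel, Units.val_one, Matrix.mul_one,
        ← Matrix.mul_assoc, ← transpose_mul, ← Units.val_mul, mul_inv_cancel, Units.val_one, transpose_one,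
        Matrix.one_mul]
    rw [mul_smul_comm, smul_mul_assoc] at h1
    conv_rhs => rw [← h1]
    rw [smul_smul, inv_mul_cancel₀ hc, one_smul]
  have key : (Iso P).map (MulAut.conj w).toMonoidHom ≤ Iso P := by
    rintro _ ⟨y, hy, rfl⟩
    have hy' : y.valᵀ * P * y.val = P := hy
    show (w * y * w⁻¹).valᵀ * P * (w * y * w⁻¹).val = P
    rw [Units.val_mul, Units.val_mul, transpose_mul, transpose_mul]
    calc (w⁻¹).valᵀ * (y.valᵀ * w.valᵀ) * P * (w.val * y.val * (w⁻¹).val)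
        = (w⁻¹).valᵀ * (y.valᵀ * (w.valᵀ * P * w.val) * y.val) * (w⁻¹).val := by simp only [Matrix.mul_assoc]
      _ = P := by
        rw [hw, mul_smul_comm, smul_mul_assoc, hy', mul_smul_comm, smul_mul_assoc, hwi, smul_smul,
          mul_inv_cancel₀ hc, one_smul]
  have h1 : (Om P).map (MulAut.conj w).toMonoidHom ≤ Om P := by
    rw [Om, Subgroup.map_commutator]
    exact Subgroup.commutator_mono key key
  exact h1 ⟨x, hx, rfl⟩

theorem conj_swap_S (l : Fin (t + 1)) (z : Matrix (Fin k) (Fin k) F) :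
    conjMat (permGL (Equiv.swap 0 l)) (S l z) = S (0 : Fin (t + 1)) z := by
  rw [conj_perm_S, Equiv.swap_apply_right]

variable [Fintype F] (hd : Hyp J a b)
include hd

/-- elements carrying a root group into the wreath group are wreath elements -/
theorem goodU {f₀ g₀ : Fin k → F} (hp : Pln J a b f₀ g₀) {t : ℕ}
    (IH : ∀ G' : Subgroup (GL (Fin (t + 1) → Fin k) F), Over J G' → G' ≤ Wr F k (t + 1) ∨ (1 ≤ t ∧ Om (gram (t + 1) J) ≤ G'))
    {G : Subgroup (GL (Fin (t + 1 + 1) → Fin k) F)} (hG : Over J G) (hT : TameU hd.sym a b G)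
    {g : GL (Fin (t + 1 + 1) → Fin k) F} (hg : g ∈ G) (j : Fin (t + 1 + 1))
    (h : ∀ u (hu : u ∈ Submodule.span F {f₀, g₀}),
      g⁻¹ * sgl j (sg hd.sym (Pi.single a 1) u (frm_aa hd) (frm_au hd (hp.mem_mid hu))) * g ∈ Wr F k (t + 1 + 1)) :
    g ∈ Wr F k (t + 1 + 1) := by
  classical
  have hk : 2 ≤ k := by have := hd.hk; omega
  obtain ⟨l, e, c, he0, hee, hc, hconj⟩ := conj_root hd hp (m := (1 : F)) one_ne_zero
    (by rw [one_smul]; exact hG.iso hg) j h
  obtain ⟨y, hy, r, hr, hye⟩ := exists_moveS hd he0 hee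
  have hyI := Sl_le_Iso hd.sym hy
  obtain ⟨Wu, hWu⟩ : ∃ Wu : GL (Fin (t + 1 + 1) → Fin k) F, Wu = permGL (Equiv.swap 0 j) := ⟨_, rfl⟩
  obtain ⟨Wy, hWy⟩ : ∃ Wy : GL (Fin (t + 1 + 1) → Fin k) F, Wy = sgl 0 y * permGL (Equiv.swap 0 l) := ⟨_, rfl⟩
  have hWuW : Wu ∈ W0 hd.sym (t + 1 + 1) := hWu ▸ perm_mem_W0 _
  have hWyW : Wy ∈ W0 hd.sym (t + 1 + 1) := hWy ▸ mul_mem (sgl_mem_W0 _ hy) (perm_mem_W0 _)
  obtain ⟨g', hg'⟩ : ∃ g', g' = Wu * g * Wy⁻¹ := ⟨_, rfl⟩
  obtain ⟨d, hdef⟩ : ∃ d, d = c * (r * r) := ⟨_, rfl⟩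
  have hd0 : d ≠ 0 := hdef ▸ mul_ne_zero hc (mul_ne_zero hr hr)
  have hNc : conjMat g'⁻¹ (S 0 (EA J a)) = S (0 : Fin (t + 1 + 1)) (d • EA J a) := by
    have e1 : conjMat Wu⁻¹ (S 0 (EA J a)) = S j (EA J a) := by
      rw [hWu, permGL_inv, Equiv.swap_inv, conj_perm_S, Equiv.swap_apply_left]
    rw [show g'⁻¹ = Wy * (g⁻¹ * Wu⁻¹) by rw [hg']; group, conjMat_mul, conjMat_mul, e1, hconj, hWy, conjMat_mul,
      conj_swap_S, conj_sgl_S0, map_smul (conjMat y), conj_op hyI, hye, op_smul_left, op_smul_right, smul_smul, smul_smul,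
      hdef, ← mul_assoc c]
  have hNg : S (0 : Fin (t + 1 + 1)) (EA J a) * g'.val = d • (g'.val * S 0 (EA J a)) := by
    have e := (conjMat_eq_iff_mul ..).1 hNc
    have e' := congrArg (fun M => g'.val * M * g'.val) e
    simp only [← mul_assoc, ← Units.val_mul, mul_inv_cancel, Units.val_one, one_mul, map_smul] at e'
    rw [e', mul_smul_comm, smul_mul_assoc, smul_mul_assoc, mul_assoc _ ((g'⁻¹).val), ← Units.val_mul, inv_mul_cancel,
      Units.val_one, mul_one]
  have hblk : ∀ x y, blk (S (0 : Fin (t + 1 + 1)) (EA J a) * g'.val) x y = (if x = a then (1 : F) else 0) • blk g'.val b y ∧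
      blk (g'.val * S (0 : Fin (t + 1 + 1)) (EA J a)) x y = (if y = b then (1 : F) else 0) • blk g'.val x a := by
    intro x y
    constructor
    · rw [map_mul, blk_S_zero, Matrix.mul_apply, Finset.sum_eq_single b (fun p _ hp => by
        rw [Matrix.map_apply, EA_eq hd, Matrix.single_apply, if_neg (fun h => hp h.2.symm), map_zero, zero_mul]) (by simp)]
      rw [Matrix.map_apply, ← Algebra.smul_def, EA_eq hd, Matrix.single_apply]
      simp [eq_comm]
    · rw [map_mul, blk_S_zero, Matrix.mul_apply, Finset.sum_eq_single a (fun p _ hp => by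
        rw [Matrix.map_apply, EA_eq hd, Matrix.single_apply, if_neg (fun h => hp h.1.symm), map_zero, mul_zero]) (by simp)]
      rw [Matrix.map_apply, ← Algebra.commutes, ← Algebra.smul_def, EA_eq hd, Matrix.single_apply]
      simp [eq_comm]
  have hNg' : ∀ x y, (if x = a then (1 : F) else 0) • blk g'.val b y =
      d • ((if y = b then (1 : F) else 0) • blk g'.val x a) := fun x y => by
    rw [← (hblk x y).1, ← (hblk x y).2, hNg, map_smul, Matrix.smul_apply]
  have hbb : blk g'.val b b = d • blk g'.val a a := by simpa using hNg' a b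
  have hcol : ∀ x, x ≠ a → blk g'.val x a = 0 := fun x hx => by
    have := hNg' x b
    rw [if_neg hx, zero_smul, if_pos rfl, one_smul] at this
    exact (smul_eq_zero.1 this.symm).resolve_left hd0
  have hrow : ∀ y, y ≠ b → blk g'.val b y = 0 := fun y hy => by
    have := hNg' a y
    rwa [if_pos rfl, one_smul, if_neg hy, zero_smul, smul_zero] at this
  have hI' : g' ∈ Iso (gram (t + 1 + 1) J) :=
    hg' ▸ mul_mem (mul_mem (W0_le_iso hWuW) (hG.iso hg)) (inv_mem (W0_le_iso hWyW))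
  have hGu := hG.conjSub hWuW
  have hTu := hT.conjSub hWuW
  have hmaps : ∀ z ∈ TensorWreath.conjSub Wy G, g' * z * g'⁻¹ ∈ TensorWreath.conjSub Wu G := fun z hz => by
    rw [mem_conjSub] at hz ⊢
    have e2 : Wu⁻¹ * (g' * z * g'⁻¹) * Wu = g * (Wy⁻¹ * z * Wy) * g⁻¹ := by rw [hg']; group
    rw [e2]
    exact mul_mem (mul_mem hg hz) (inv_mem hg)
  -- the inverse has scalar middle
  have hinv : ∀ (x : Fin k) (y : Fin k), ∑ p, blk (g'⁻¹).val x p * blk g'.val p y =
      (1 : Matrix (Fin k) (Fin k) _) x y := fun x y => by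
    rw [← Matrix.mul_apply, ← map_mul, ← Units.val_mul, inv_mul_cancel, Units.val_one, map_one]
  have hinv' : ∀ (x : Fin k) (y : Fin k), ∑ p, blk g'.val x p * blk (g'⁻¹).val p y =
      (1 : Matrix (Fin k) (Fin k) _) x y := fun x y => by
    rw [← Matrix.mul_apply, ← map_mul, ← Units.val_mul, mul_inv_cancel, Units.val_one, map_one]
  have hwa : blk (g'⁻¹).val a a * blk g'.val a a = 1 := by
    have h := hinv a a
    rwa [Finset.sum_eq_single a (fun p _ hp => by rw [hcol p hp, mul_zero]) (by simp), Matrix.one_apply_eq] at h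
  have hwa' : blk g'.val a a * blk (g'⁻¹).val a a = 1 := mul_eq_one_comm.1 hwa
  have hcol' : ∀ x, x ≠ a → blk (g'⁻¹).val x a = 0 := fun x hx => by
    have h := hinv x a
    rw [Finset.sum_eq_single a (fun p _ hp => by rw [hcol p hp, mul_zero]) (by simp), Matrix.one_apply_ne hx] at h
    have h2 := congrArg (· * blk (g'⁻¹).val a a) h
    rwa [mul_assoc, hwa', mul_one, zero_mul] at h2
  have hrow' : ∀ y, y ≠ b → blk (g'⁻¹).val b y = 0 := fun y hy => by
    have h := hinv' b y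
    rw [Finset.sum_eq_single b (fun p _ hp => by rw [hrow p hp, zero_mul]) (by simp), hbb, smul_mul_assoc,
      Matrix.one_apply_ne hy.symm] at h
    have h2 := congrArg (blk (g'⁻¹).val a a * ·) ((smul_eq_zero.1 h).resolve_left hd0)
    rwa [← mul_assoc, hwa, one_mul, mul_zero] at h2
  have hmid : ∀ q y, q ≠ a → q ≠ b → y ≠ a → y ≠ b → ∃ r : F, blk (g'⁻¹).val q y = r • blk (g'⁻¹).val a a := by
    intro q y hqa hqb hya hyb
    obtain ⟨u, hu, hJu⟩ := exists_mid_of_coord hd (Pi.single q (1 : F))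
    obtain ⟨s, hs⟩ : ∃ s, s = sg hd.sym (Pi.single a 1) u (frm_aa hd) (frm_au hd hu) := ⟨_, rfl⟩
    have hz : g' * sgl 0 s * g'⁻¹ ∈ TensorWreath.conjSub Wu G :=
      hmaps _ ((hG.conjSub hWyW).slot hk 0 (hs ▸ sg_mem_Sl _ _ _))
    have hent : ∀ x y, (blk (g' * sgl 0 s * g'⁻¹).val - 1) x y =
        ∑ p, ∑ q, sgN J (Pi.single a 1) u p q • (blk g'.val x p * blk (g'⁻¹).val q y) := by
      intro x y
      have e : blk (g' * sgl 0 s * g'⁻¹).val - 1 = blk g'.val * (blk (sgl (0 : Fin (t + 1 + 1)) s).val - 1) * blk (g'⁻¹).val := by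
        rw [mul_sub, sub_mul, mul_one, ← map_mul, ← map_mul, ← map_mul, ← Units.val_mul, ← Units.val_mul,
          ← Units.val_mul, mul_inv_cancel, Units.val_one, map_one]
      rw [e, blk_sgl0_sub, Matrix.mul_apply, Finset.sum_comm]
      refine Finset.sum_congr rfl fun q _ => ?_
      rw [Matrix.mul_apply, Finset.sum_mul]
      refine Finset.sum_congr rfl fun p _ => ?_
      rw [Matrix.map_apply, ← Algebra.commutes, ← Algebra.smul_def, smul_mul_assoc, hs, sg_coe, add_sub_cancel_left]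
    have hN := sgN_shp hd hu
    have hzs : Shp a b (blk (g' * sgl 0 s * g'⁻¹).val - 1) := by
      intro x y hxy
      rw [hent]
      refine Finset.sum_eq_zero fun p _ => Finset.sum_eq_zero fun q _ => ?_
      rcases shp_cases hN p q with h | ⟨hp, hq⟩ | ⟨hq, hp⟩
      · rw [h, zero_smul]
      · by_cases hx : x = a
        · have hy : y = a := by by_contra hy; exact hxy (Or.inl ⟨hx, hy⟩)
          rw [hy, hcol' q hq, mul_zero, smul_zero]
        · rw [hp, hcol x hx, zero_mul, smul_zero]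
      · by_cases hy : y = b
        · have hx : x = b := by by_contra hx; exact hxy (Or.inr ⟨hy, hx⟩)
          rw [hx, hrow p hp, zero_mul, smul_zero]
        · rw [hq, hrow' y hy, mul_zero, smul_zero]
    obtain ⟨r, hr⟩ := hTu.self hz hzs y hya
    have e := hent a y
    rw [Matrix.sub_apply, hr, Matrix.one_apply_ne (Ne.symm hya), sub_zero,
      Finset.sum_eq_single a (fun p _ hp => Finset.sum_eq_zero fun q _ => by
        rcases shp_cases hN p q with h | ⟨hp', -⟩ | ⟨hq, -⟩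
        · rw [h, zero_smul]
        · exact absurd hp' hp
        · rw [hq, hrow' y hyb, mul_zero, smul_zero]) (by simp),
      Finset.sum_eq_single q (fun p _ hpq => by
        rcases eq_or_ne p b with rfl | hpb
        · rw [hrow' y hyb, mul_zero, smul_zero]
        rcases eq_or_ne p a with rfl | hpa
        · rw [shp_aa hd.hab hN |>.1, zero_smul]
        rw [sgN_apply hd, if_neg hpb, if_pos rfl, if_neg (fun h => hpb h.2), hJu p hpa hpb, Pi.single_eq_of_ne hpq,
          sub_zero, sub_zero, zero_smul]) (by simp),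
      sgN_apply hd, if_neg hqb, if_pos rfl, if_neg (fun h => hqb h.2), hJu q hqa hqb, Pi.single_eq_same, zero_sub,
      sub_zero, neg_one_smul] at e
    refine ⟨-r, ?_⟩
    have e2 := congrArg (blk (g'⁻¹).val a a * ·) e
    rw [mul_smul_comm, mul_one, mul_neg, ← mul_assoc, hwa, one_mul] at e2
    rw [neg_smul, e2, neg_neg]
  obtain ⟨U, D, w, hgU, hUI, hUs, hUOm, hw⟩ := slice_split hd (by omega) hI' hd0 hcol hrow hbb hmid
  have hd0' : d⁻¹ ≠ 0 := inv_ne_zero hd0
  -- the group of the smaller power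
  let G'' : Subgroup (GL (Fin (t + 1) → Fin k) F) :=
    { carrier := {v | v ∈ Om (gram (t + 1) J) ∧ ∃ X ∈ Iso (gram (t + 1 + 1) J), Shp a b (blk X.val - 1) ∧
        X * liftW v ∈ TensorWreath.conjSub Wu G}
      one_mem' := ⟨one_mem _, 1, one_mem _, fun x y _ => by simp, by rw [map_one, one_mul]; exact one_mem _⟩
      mul_mem' := fun {v v'} ⟨hv, X, hX, hXs, hm⟩ ⟨hv', X', hX', hXs', hm'⟩ => by
        have hvI := liftW_iso (Om_le_Iso hv)
        refine ⟨mul_mem hv hv', X * (liftW v * X' * (liftW v)⁻¹), mul_mem hX (mul_mem (mul_mem hvI hX') (inv_mem hvI)),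
          (shp_mul_val hd.hab hXs (shp_liftW_conj hXs' v)).1, ?_⟩
        have e : X * (liftW v * X' * (liftW v)⁻¹) * liftW (v * v') = X * liftW v * (X' * liftW v') := by
          rw [map_mul]; group
        rw [e]
        exact mul_mem hm hm'
      inv_mem' := fun {v} ⟨hv, X, hX, hXs, hm⟩ => by
        have hvI := liftW_iso (Om_le_Iso hv)
        refine ⟨inv_mem hv, liftW v⁻¹ * X⁻¹ * (liftW v⁻¹)⁻¹, ?_, shp_liftW_conj (shp_inv_val hd.hab hXs).1 _, ?_⟩
        · rw [map_inv, inv_inv]; exact mul_mem (mul_mem (inv_mem hvI) (inv_mem hX)) hvI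
        · have e : liftW v⁻¹ * X⁻¹ * (liftW v⁻¹)⁻¹ * liftW v⁻¹ = (X * liftW v)⁻¹ := by rw [map_inv]; group
          rw [e]
          exact inv_mem hm }
  have hO : Over J G'' := ⟨fun v hv => hv.1, fun v hv => ⟨hv.2, 1, one_mem _, fun x y _ => by simp, by
    rw [one_mul]; exact hGu.ge ⟨liftW_mem hv.1, liftW_Om hv.2⟩⟩⟩
  rcases IH G'' hO with hle | hall
  swap
  · exact (noSurj hd hall.1 hGu hTu fun v hv => (hall.2 hv).2).elim
  have hwW : w ∈ Wr F k (t + 1) := by
    refine mem_of_conj_roots hd (Nat.succ_pos t) hd0' hw fun i x hx => hle ⟨om_conj_sim hd0' hw (sgl_Sl_Om hk i hx), ?_⟩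
    have hm := hmaps _ ((hG.conjSub hWyW).slot hk i.succ hx)
    have hc0 : sgl (0 : Fin (t + 1 + 1)) D * liftW (w * sgl i x * w⁻¹) * (sgl 0 D)⁻¹ = liftW (w * sgl i x * w⁻¹) := by
      rw [mul_inv_eq_iff_eq_mul, liftW_comm_sgl0]
    have e2 : g' * sgl i.succ x * g'⁻¹ =
        U * (sgl 0 D * liftW (w * sgl i x * w⁻¹) * (sgl 0 D)⁻¹) * U⁻¹ := by
      rw [hgU, ← liftW_sgl, map_mul, map_mul, map_inv]; group
    rw [e2, hc0] at hm
    obtain ⟨v, hv⟩ : ∃ v, v = w * sgl i x * w⁻¹ := ⟨_, rfl⟩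
    rw [← hv] at hm ⊢
    refine ⟨U * (liftW v * U⁻¹ * (liftW v)⁻¹), ?_,
      (shp_mul_val hd.hab hUs (shp_liftW_conj (shp_inv_val hd.hab hUs).1 v)).1, ?_⟩
    · have hvI : liftW v ∈ Iso (gram (t + 1 + 1) J) := liftW_iso (by
        rw [hv]; exact Om_le_Iso (om_conj_sim hd0' hw (sgl_Sl_Om hk i hx)))
      exact mul_mem hUI (mul_mem (mul_mem hvI (inv_mem hUI)) (inv_mem hvI))
    · have e3 : U * (liftW v * U⁻¹ * (liftW v)⁻¹) * liftW v = U * liftW v * U⁻¹ := by group
      rw [e3]; exact hm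
  -- the shaped factor is a slot element
  obtain ⟨h0, hh0⟩ : ∃ h0, h0 = Wu⁻¹ * (sgl 0 D * liftW w) * Wy := ⟨_, rfl⟩
  have hh0W : h0 ∈ Wr F k (t + 1 + 1) :=
    hh0 ▸ Subgroup.mul_mem _ (Subgroup.mul_mem _ (Subgroup.inv_mem _ (W0_le_wr hWuW))
      (Subgroup.mul_mem _ (sgl_mem _ _) (liftW_mem hwW))) (W0_le_wr hWyW)
  have hgeq : g = Wu⁻¹ * U * Wu * h0 := by
    rw [hh0, show g = Wu⁻¹ * g' * Wy by rw [hg']; group, hgU]; group
  have hUc : Wu⁻¹ * U * Wu ∈ Om (gram (t + 1 + 1) J) := by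
    have h := Om_normal (inv_mem (W0_le_iso hWuW)) hUOm
    rwa [inv_inv] at h
  have hh0G : h0 ∈ G := hG.ge ⟨hh0W, by
    rw [show h0 = (Wu⁻¹ * U * Wu)⁻¹ * g by rw [hgeq]; group]
    exact Subgroup.mul_mem _ (Subgroup.inv_mem _ hUc) (hG.le hg)⟩
  have hUG : U ∈ TensorWreath.conjSub Wu G := mem_conjSub.2 (by
    rw [show Wu⁻¹ * U * Wu = g * h0⁻¹ by rw [hgeq]; group]
    exact mul_mem hg (inv_mem hh0G))
  obtain ⟨Z, hZ⟩ := shaped_slot hd hGu hTu hUG hUs
  obtain ⟨Z', hZ'⟩ := shaped_slot hd hGu hTu (inv_mem hUG) (shp_inv_val hd.hab hUs).1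
  have hne : Nonempty (Fin (t + 1 + 1) → Fin k) := ⟨fun _ => a⟩
  have hZZ : Z * Z' = 1 := algHom_matrix_injective (S (F := F) (m := k) (0 : Fin (t + 1 + 1))) (by
    rw [map_mul, ← hZ, ← hZ', ← Units.val_mul, mul_inv_cancel, Units.val_one, map_one])
  let Zu : GL (Fin k) F := ⟨Z, Z', hZZ, mul_eq_one_comm.1 hZZ⟩
  have hUW : U ∈ Wr F k (t + 1 + 1) := by
    rw [show U = sgl 0 Zu from Units.ext (by rw [sgl_coe]; exact hZ)]
    exact sgl_mem _ _
  rw [hgeq]
  exact Subgroup.mul_mem _ (Subgroup.mul_mem _ (Subgroup.mul_mem _ (Subgroup.inv_mem _ (W0_le_wr hWuW)) hUW)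
    (W0_le_wr hWuW)) hh0W

end Cfsg.Agent.TensorWreath.Or
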