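import Cfsg.Agent.Lib.Forms.Max.TensorWreath.Orth.Engine

/-!
# Overgroups of the wreath elements lie in the wreath group or contain `Ω`
-/

set_option autoImplicit false
set_option linter.unusedSectionVars false

namespace Cfsg.Agent.TensorWreath.Or

open Matrix Cfsg.Agent.Aschbacher

variable {F : Type*} [Field F] {k : ℕ} {J : Matrix (Fin k) (Fin k) F} {a b : Fin k}

/-- one slot -/
theorem wr_one (g : GL (Fin (0 + 1) → Fin k) F) : g ∈ Wr F k (0 + 1) := by
  classical
  let A : Matrix (Fin k) (Fin k) F := Matrix.of fun i j => g.val (fun _ => i) fun _ => j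
  let B : Matrix (Fin k) (Fin k) F := Matrix.of fun i j => (g⁻¹).val (fun _ => i) fun _ => j
  have hmul : ∀ (u v : GL (Fin 1 → Fin k) F) (i j : Fin k),
      ((u * v : GL (Fin 1 → Fin k) F)).val (fun _ => i) (fun _ => j) =
        ∑ l, u.val (fun _ => i) (fun _ => l) * v.val (fun _ => l) (fun _ => j) := by
    intro u v i j
    rw [Units.val_mul, Matrix.mul_apply]
    exact Fintype.sum_equiv (Equiv.funUnique (Fin 1) (Fin k)) _ _ fun z => by
      have e : (fun _ : Fin 1 => z default) = z := funext fun l => congrArg z (Subsingleton.elim _ _)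
      simp only [Equiv.funUnique_apply, e]
  have h1 : ∀ u v : GL (Fin 1 → Fin k) F, u * v = 1 → Matrix.of (fun i j => u.val (fun _ => i) fun _ => j) *
      Matrix.of (fun i j => v.val (fun _ => i) fun _ => j) = (1 : Matrix (Fin k) (Fin k) F) := by
    intro u v huv
    ext i j
    rw [Matrix.mul_apply]
    simp only [Matrix.of_apply]
    rw [← hmul, huv, Units.val_one, Matrix.one_apply, Matrix.one_apply]
    exact if_congr ⟨fun h => congrFun h 0, fun h => by rw [h]⟩ rfl rfl
  let c : GL (Fin k) F := ⟨A, B, h1 _ _ (mul_inv_cancel g), h1 _ _ (inv_mul_cancel g)⟩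
  have e : g = pureGL fun _ => c := Units.ext (by
    rw [pureGL_coe]
    ext x y
    rw [pureTensor_apply, Fin.prod_univ_one]
    show g.val x y = g.val (fun _ => x 0) fun _ => y 0
    have hx : (fun _ : Fin 1 => x 0) = x := funext fun l => congrArg x (Subsingleton.elim (α := Fin 1) _ _)
    have hy : (fun _ : Fin 1 => y 0) = y := funext fun l => congrArg y (Subsingleton.elim (α := Fin 1) _ _)
    rw [hx, hy])
  rw [e]
  exact pureGL_mem _

theorem dich_aux [Fintype F] (hd : Hyp J a b) : ∀ (t : ℕ) (G : Subgroup (GL (Fin (t + 1) → Fin k) F)), Over J G →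
    G ≤ Wr F k (t + 1) ∨ (1 ≤ t ∧ Om (gram (t + 1) J) ≤ G) := by
  intro t
  induction t with
  | zero => exact fun G _ => Or.inl fun g _ => wr_one g
  | succ t ih =>
    intro G hG
    by_cases hT : TameU hd.sym a b G
    · exact Or.inl (tame_le hd ih hG hT)
    · exact Or.inr ⟨Nat.succ_le_succ (Nat.zero_le t), omega_of_not_tame hd hG hT⟩

/-- the dichotomy for the overgroups -/
theorem dich {F : Type*} [Field F] [Fintype F] {k : ℕ} {J : Matrix (Fin k) (Fin k) F} {a b : Fin k} (hd : Hyp J a b)
    (n : ℕ) (hn : 2 ≤ n) (G : Subgroup (GL (Fin n → Fin k) F)) (hG : Over J G) :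
    G ≤ Wr F k n ∨ Om (gram n J) ≤ G := by
  obtain ⟨m, rfl⟩ : ∃ m, n = m + 1 := ⟨n - 1, by omega⟩
  exact (dich_aux hd m G hG).imp_right And.right

end Cfsg.Agent.TensorWreath.Or
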