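import Cfsg.Agent.Lib.Forms.Max.TensorWreath.Orth.Setting
import Cfsg.Agent.Lib.Forms.Max.TensorWreath.Quadratic
import Cfsg.Agent.Lib.Forms.Max.OrthOrth.Space
import Cfsg.Agent.Lib.Forms.Max.Factor
import Cfsg.Agent.Lib.Forms.Max.SubfieldLinear

/-!
# Stabilisers of tensor power decompositions are maximal in the orthogonal `Ω`
-/

set_option autoImplicit false
set_option linter.unusedSectionVars false

namespace Cfsg.Agent.TensorWreath.Or

open Matrix Cfsg.Agent.Aschbacher Cfsg.Agent.Forms.Max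

variable {F : Type*} [Field F] [Fintype F] {k t : ℕ}

/-- a basis change adapting the Gram matrix to a hyperbolic pair -/
theorem exists_hyp {G : Matrix (Fin k) (Fin k) F} (hG : Sym G) (hk : 3 ≤ k)
    (hminus : k = 4 → ∀ x y : Fin k → F, frm G x x = 0 → frm G y y = 0 → frm G x y = 0 → x ≠ 0 →
      y ∈ Submodule.span F {x})
    (hbig : Nat.card F ≠ 3 ∨ 4 ≤ k) :
    ∃ (B : GL (Fin k) F) (a b : Fin k), Hyp (B.valᵀ * G * B.val) a b := by
  classical
  obtain ⟨m, rfl⟩ : ∃ m, k = m + 2 := ⟨k - 2, by omega⟩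
  obtain ⟨e, he0, hQe⟩ := OrthOrth.exists_sing_ne (qf_nd hG) hk
  obtain ⟨f, hp⟩ := OrthOrth.exists_pair_of (qf_nd hG) he0 hQe
  have hsing : ∀ {x : Fin (m + 2) → F}, qf G x = 0 → frm G x x = 0 := fun {x} h => by
    rw [qf_apply] at h; exact (mul_eq_zero.1 h).resolve_left (inv_ne_zero hG.two)
  have hee : frm G e e = 0 := hsing hp.hu
  have hff : frm G f f = 0 := hsing hp.hv
  have hef : frm G e f = 1 := by rw [← polar_qf hG]; exact hp.huv
  have hfe : frm G f e = 1 := by rw [frm_comm hG, hef]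
  let L : (Fin (m + 2) → F) →ₗ[F] F × F :=
    (Matrix.toLinearMap₂' F G e).prod (Matrix.toLinearMap₂' F G f)
  have hL : ∀ x, L x = (frm G e x, frm G f x) := fun x => by
    simp only [L, LinearMap.prod_apply, Function.prod, Matrix.toLinearMap₂'_apply', frm]
  set S := LinearMap.ker L with hS
  have hr : LinearMap.range L = ⊤ := by
    refine eq_top_iff.2 fun p _ => ⟨p.1 • f + p.2 • e, ?_⟩
    rw [hL]
    simp [frm_add_right, frm_smul_right, hee, hff, hef, hfe]
  have hdim : Module.finrank F S = m := by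
    have h1 := LinearMap.finrank_range_add_finrank_ker L
    rw [hr, finrank_top, Module.finrank_prod, Module.finrank_self, Module.finrank_fintype_fun_eq_card,
      Fintype.card_fin] at h1
    rw [hS]; omega
  let bs := Module.finBasisOfFinrankEq F S hdim
  have hse' : ∀ x ∈ S, frm G e x = 0 ∧ frm G f x = 0 := fun x hx => by
    rw [hS, LinearMap.mem_ker, hL, Prod.mk_eq_zero] at hx; exact hx
  set v : Fin (m + 2) → Fin (m + 2) → F := Fin.cons e (Fin.cons f fun i => (bs i : Fin (m + 2) → F)) with hv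
  have hli : LinearIndependent F v := by
    refine Fintype.linearIndependent_iff.2 fun g hg => ?_
    rw [Fin.sum_univ_succ, Fin.sum_univ_succ] at hg
    simp only [hv, Fin.cons_zero, Fin.cons_succ] at hg
    set z := ∑ i : Fin m, g i.succ.succ • (bs i : Fin (m + 2) → F)
    have hz : z ∈ S := S.sum_mem fun i _ => S.smul_mem _ (bs i).2
    have h0 : g 0 = 0 := by
      have := congrArg (fun x => frm G f x) hg
      simpa [frm_add_right, frm_smul_right, hfe, hff, (hse' z hz).2, frm_zero_right] using this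
    have h1 : g (Fin.succ 0) = 0 := by
      have := congrArg (fun x => frm G e x) hg
      simpa [frm_add_right, frm_smul_right, hee, hef, (hse' z hz).1, frm_zero_right] using this
    rw [h0, h1, zero_smul, zero_smul, zero_add, zero_add] at hg
    have h2 : ∀ i : Fin m, g i.succ.succ = 0 := by
      refine Fintype.linearIndependent_iff.1 bs.linearIndependent (fun i => g i.succ.succ) (Subtype.ext ?_)
      rw [Submodule.coe_sum, ZeroMemClass.coe_zero]
      exact hg
    intro i
    induction i using Fin.cases with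
    | zero => exact h0
    | succ i =>
      induction i using Fin.cases with
      | zero => exact h1
      | succ i => exact h2 i
  have hu : IsUnit (Matrix.of fun p q => v q p) := by
    rw [← Matrix.linearIndependent_cols_iff_isUnit]
    exact hli
  obtain ⟨B, hB⟩ := hu
  have hBv : ∀ p, B.val *ᵥ Pi.single p 1 = v p := fun p => by
    rw [hB, mulVec_single_one]; rfl
  have hent : ∀ p q, (B.valᵀ * G * B.val) p q = frm G (v p) (v q) := fun p q => by
    rw [← hBv, ← hBv, frm_mul]
    simp [frm]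
  refine ⟨B, 0, Fin.succ 0,
    ⟨⟨by rw [transpose_mul, transpose_mul, transpose_transpose, hG.symm, Matrix.mul_assoc],
      ((((Matrix.isUnit_transpose _).2 B.isUnit).mul hG.unit).mul B.isUnit), hG.two⟩,
    hk, (Fin.succ_ne_zero 0).symm, fun p => ?_, fun p => ?_, fun h4 u hu0 hu1 huu => ?_, hbig⟩⟩
  · rw [hent]
    induction p using Fin.cases with
    | zero => simp [hv, hee]
    | succ p =>
      induction p using Fin.cases with
      | zero => simp [hv, hfe]
      | succ p =>
        rw [if_neg fun h => Fin.succ_ne_zero _ (Fin.succ_injective _ h)]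
        simp [hv, frm_comm hG _ e, (hse' _ (bs p).2).1]
  · rw [hent]
    induction p using Fin.cases with
    | zero => simp [hv, hef]
    | succ p =>
      induction p using Fin.cases with
      | zero => simp [hv, hff]
      | succ p => simp [hv, frm_comm hG _ f, (hse' _ (bs p).2).2]
  · by_contra hne
    rw [← frm_mul] at huu
    have hBu : frm G e (B.val *ᵥ u) = 0 := by
      have hcol : ∀ p, (B.valᵀ * G * B.val) 0 p = if p = Fin.succ 0 then 1 else 0 := fun p => by
        rw [hent]
        induction p using Fin.cases with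
        | zero => simp [hv, hee]
        | succ p =>
          induction p using Fin.cases with
          | zero => simp [hv, hef]
          | succ p =>
            rw [if_neg fun h => Fin.succ_ne_zero _ (Fin.succ_injective _ h)]
            simp [hv, (hse' _ (bs p).2).1]
      rw [show e = B.val *ᵥ Pi.single 0 1 by rw [hBv]; rfl, frm_mul, single_dot]
      simp only [mulVec, dotProduct, hcol, ite_mul, one_mul, zero_mul, Finset.sum_ite_eq',
        Finset.mem_univ, if_true]
      exact hu1
    obtain ⟨c, hc⟩ := Submodule.mem_span_singleton.1 (hminus h4 e (B.val *ᵥ u) hee huu hBu he0)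
    rw [show e = B.val *ᵥ Pi.single 0 1 by rw [hBv]; rfl, ← mulVec_smul] at hc
    have hu' : c • Pi.single (0 : Fin (m + 2)) (1 : F) = u := mulVec_inj B hc
    have hc0 : c = 0 := by
      have := congrFun hu' 0
      simpa [hu0] using this
    exact hne (by rw [← hu', hc0, zero_smul])

variable {J : Matrix (Fin k) (Fin k) F} {a b : Fin k}

/-- the wreath group does not contain `Ω` -/
theorem not_Om_le (hd : Hyp J a b) (ht : 2 ≤ t) : ¬ Om (gram t J) ≤ Wr F k t := by
  classical
  intro hle
  have hk := hd.hk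
  obtain ⟨c, hca, hcb⟩ : ∃ c : Fin k, c ≠ a ∧ c ≠ b := by
    by_contra h
    push Not at h
    have h1 : (Finset.univ : Finset (Fin k)).card ≤ ({a, b} : Finset (Fin k)).card :=
      Finset.card_le_card fun x _ => by
        rw [Finset.mem_insert, Finset.mem_singleton]
        by_cases hx : x = a
        · exact Or.inl hx
        · exact Or.inr (h x hx)
    have h2 := (Finset.card_insert_le a ({b} : Finset (Fin k)))
    rw [Finset.card_univ, Fintype.card_fin] at h1
    rw [Finset.card_singleton] at h2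
    omega
  let i₀ : Fin t := ⟨0, by omega⟩
  let i₁ : Fin t := ⟨1, by omega⟩
  have hi : i₁ ≠ i₀ := by simp [i₀, i₁]
  let A : Fin t → Fin k := fun _ => a
  let X : Fin t → Fin k := fun _ => b
  let U : Fin t → Fin k := Function.update A i₁ c
  let Y : Fin t → Fin k := Function.update U i₀ b
  have hU1 : U i₁ = c := Function.update_self ..
  have hU0 : U i₀ = a := Function.update_of_ne hi.symm ..
  have hY1 : Y i₁ = c := by rw [show Y i₁ = U i₁ from Function.update_of_ne hi .., hU1]
  have hY0 : Y i₀ = b := Function.update_self ..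
  have hUX : U ≠ X := fun e => hcb (by rw [← hU1, e])
  have hUA : U ≠ A := fun e => hca (by rw [← hU1, e])
  have hYX : Y ≠ X := fun e => hcb (by rw [← hY1, e])
  have hYU : Y ≠ U := fun e => hd.hab (by rw [← hU0, ← e, hY0])
  have hJA : gram t J *ᵥ Pi.single A 1 = Pi.single X 1 := by
    funext y
    rw [mulVec_single_one, Matrix.col_apply, gram, pureTensor_apply]
    simp only [A, hd.ja]
    by_cases hy : y = X
    · subst hy; simp [X]
    · obtain ⟨l, hl⟩ := Function.ne_iff.1 hy
      rw [Finset.prod_eq_zero (Finset.mem_univ l) (if_neg hl), Pi.single_eq_of_ne hy]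
  have hS := gram_sym (t := t) hd.sym
  have he : frm (gram t J) (Pi.single A 1) (Pi.single A 1) = 0 := by
    rw [single_dot, hJA, Pi.single_eq_of_ne fun e : A = X => hd.hab (congrFun e i₀)]
  have hu : frm (gram t J) (Pi.single A 1) (Pi.single U 1) = 0 := by
    rw [frm_comm hS, single_dot, hJA, Pi.single_eq_of_ne hUX]
  obtain ⟨σ, cs, hcs⟩ := exists_nf (hle (sg_mem_Om hS (two_le_card (by omega) (by omega)) he hu))
  have hrow : ∀ x : Fin t → Fin k, x ≠ X → x ≠ U →
      (sg hS (Pi.single A 1) (Pi.single U 1) he hu).val U x = 0 := by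
    intro x hxX hxU
    simp [sg_coe, sgN, Qm, op_apply, hJA, Pi.single_eq_of_ne hxX, Matrix.one_apply_ne (Ne.symm hxU),
      Pi.single_eq_of_ne hUA]
  have hUU : (sg hS (Pi.single A 1) (Pi.single U 1) he hu).val U U ≠ 0 := by
    simp [sg_coe, sgN, Qm, op_apply, hJA, Pi.single_eq_of_ne hUX, Pi.single_eq_of_ne hUA]
  have hUX' : (sg hS (Pi.single A 1) (Pi.single U 1) he hu).val U X ≠ 0 := by
    simp [sg_coe, sgN, Qm, op_apply, hJA, Matrix.one_apply_ne hUX, Pi.single_eq_of_ne hUA]
  have h0 := hrow Y hYX hYU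
  rw [hcs, mulVec_perm_pure] at h0 hUU hUX'
  rw [Finset.prod_ne_zero_iff] at hUU hUX'
  obtain ⟨l, hl, hl0⟩ := Finset.prod_eq_zero_iff.1 h0
  rcases eq_or_ne l i₀ with rfl | hl'
  · exact hUX' _ hl (by rw [show X i₀ = Y i₀ from hY0.symm]; exact hl0)
  · exact hUU _ hl (by rw [show U l = Y l from (Function.update_of_ne hl' ..).symm]; exact hl0)

/-- the stabilisers of tensor power decompositions in `Ω`, given the dichotomy for overgroups -/
theorem orth_wreath_maximal_of {ι : Type} [Fintype ι] [DecidableEq ι]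
    (hdich : ∀ (J : Matrix (Fin k) (Fin k) F) (a b : Fin k), Hyp J a b →
      ∀ G : Subgroup (GL (Fin t → Fin k) F), Over J G → G ≤ Wr F k t ∨ Om (gram t J) ≤ G)
    (R : QuadraticForm F (ι → F)) (h2 : (2 : F) ≠ 0) (hk : 3 ≤ k) (ht : 2 ≤ t)
    (hex : ¬ (Fintype.card F = 3 ∧ k = 3)) (e : ι ≃ (Fin t → Fin k)) (P : GL ι F)
    (f₁ : (Fin k → F) → (Fin k → F) → F) (hf₁ : Cfsg.Geo.IsSymmetricForm f₁)
    (hminus : k = 4 → ¬ Cfsg.Geo.IsPlusTypeOn (fun v : Fin k → F => f₁ v v) ⊤)
    (hT : Cfsg.Geo.IsTensorPowerFormStructure id (QuadraticMap.polar ⇑R) f₁ e P) :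
    Cfsg.Geo.IsMaximalIn (Cfsg.Geo.omegaGL ⇑R)
      (Cfsg.Geo.tensorWreathSubgroup k t e P ⊓ Cfsg.Geo.omegaGL ⇑R) := by
  classical
  obtain ⟨κ, hκ0, hval⟩ := hT
  have hbig : Nat.card F ≠ 3 ∨ 4 ≤ k := by
    rw [Nat.card_eq_fintype_card]
    omega
  have hgram : ∀ x y, frm (Cfsg.Geo.gramMatrix f₁) x y = f₁ x y := fun x y => by
    rw [← Factor.formOfGram_gram (RingHom.id F) hf₁.bilinear.add_left hf₁.bilinear.smul_left
      (fun v x y => by rw [hf₁.symm, hf₁.bilinear.add_left, hf₁.symm x, hf₁.symm y])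
      (fun c v w => by rw [hf₁.symm, hf₁.bilinear.smul_left, hf₁.symm w]; rfl) x y]
    simp [frm, Cfsg.Geo.formOfGram, dotProduct, mulVec, Finset.mul_sum, mul_assoc]
  have hG : Sym (Cfsg.Geo.gramMatrix f₁) :=
    { symm := Matrix.ext fun i j => by
        simp only [Matrix.transpose_apply, Cfsg.Geo.gramMatrix]
        exact hf₁.symm _ _
      unit := by
        rw [Matrix.isUnit_iff_isUnit_det, isUnit_iff_ne_zero]
        intro h
        obtain ⟨v, hv, hv'⟩ := Matrix.exists_mulVec_eq_zero_iff.2 h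
        obtain ⟨y, hy⟩ := (hf₁.nondegenerate v hv).1
        exact hy (by rw [← hgram, frm, hv', dotProduct_zero])
      two := h2 }
  have hminus' : k = 4 → ∀ x y : Fin k → F, frm (Cfsg.Geo.gramMatrix f₁) x x = 0 →
      frm (Cfsg.Geo.gramMatrix f₁) y y = 0 → frm (Cfsg.Geo.gramMatrix f₁) x y = 0 → x ≠ 0 →
      y ∈ Submodule.span F {x} := by
    intro hk4 x y hxx hyy hxy hx0
    by_contra hy
    refine hminus hk4 ⟨Submodule.span F {x, y}, le_top, fun v hv => ?_, ?_⟩
    · obtain ⟨α, β, rfl⟩ := Submodule.mem_span_pair.1 hv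
      show f₁ _ _ = 0
      rw [← hgram]
      simp [frm_add_left, frm_add_right, frm_smul_left, frm_smul_right, hxx, hyy, hxy, frm_comm hG y x]
    · have hli : LinearIndependent F ![x, y] :=
        (LinearIndependent.pair_iff' hx0).2 fun c h => hy (Submodule.mem_span_singleton.2 ⟨c, h⟩)
      have h := finrank_span_eq_card hli
      rw [Matrix.range_cons_cons_empty, Fintype.card_fin] at h
      rw [h, finrank_top, Module.finrank_fintype_fun_eq_card, Fintype.card_fin, hk4]
  obtain ⟨B, a, b, hd⟩ := exists_hyp hG hk hminus' hbig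
  set J := B.valᵀ * Cfsg.Geo.gramMatrix f₁ * B.val
  set Q₀ : GL (Fin t → Fin k) F := pureGL fun _ => B with hQ₀
  have hQW : Q₀ ∈ Wr F k t := pureGL_mem _
  let φ : GL (Fin t → Fin k) F ≃* GL ι F :=
    (MulAut.conj Q₀).trans ((Cfsg.Geo.glReindex e.symm).trans (MulAut.conj P))
  let π : ((Fin t → Fin k) → F) → (ι → F) := fun x => (Units.val P) *ᵥ ((Q₀.val *ᵥ x) ∘ e)
  have hform : ∀ x y, QuadraticMap.polar R (π x) (π y) = κ * frm (gram t J) x y := fun x y => by
    have e1 : frm (gram t J) x y = frm (gram t (Cfsg.Geo.gramMatrix f₁)) (Q₀.val *ᵥ x) (Q₀.val *ᵥ y) := by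
      rw [frm_mul]
      congr 1
      simp only [Q₀, J, gram, pureGL_coe, pure_transpose, ← map_mul]
      rfl
    rw [e1]
    simp only [π]
    rw [hval]
    simp only [frm, dotProduct, mulVec, gram, pureTensor_apply, Finset.mul_sum, id, mul_assoc]
  have hcoord : ∀ z, ∃ x, z = π x := fun z =>
    ⟨(Q₀⁻¹).val *ᵥ (((Units.val P⁻¹) *ᵥ z) ∘ e.symm), by
      simp only [π]
      rw [cancelV', Function.comp_assoc, Equiv.symm_comp_self, Function.comp_id, cancelV']⟩
  have hreidx : ∀ (g : GL (Fin t → Fin k) F) (x : (Fin t → Fin k) → F),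
      (Cfsg.Geo.glReindex e.symm g).val *ᵥ (x ∘ e) = (g.val *ᵥ x) ∘ e := fun g x => by
    show Matrix.reindexAlgEquiv F F e.symm g.val *ᵥ _ = _
    rw [Matrix.coe_reindexAlgEquiv, Matrix.reindex_apply, Matrix.submatrix_mulVec_equiv]
    simp [Function.comp_assoc]
  have hφ : ∀ g x, (Units.val (φ g)) *ᵥ π x = π (g.val *ᵥ x) := fun g x => by
    show (P * Cfsg.Geo.glReindex e.symm (Q₀ * g * Q₀⁻¹) * P⁻¹ : GL ι F).val *ᵥ π x = _
    simp only [π, Units.val_mul]
    rw [← mulVec_mulVec, ← mulVec_mulVec, cancelV, hreidx, Units.val_mul, Units.val_mul, ← mulVec_mulVec,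
      ← mulVec_mulVec, cancelV]
  have hhalf : ∀ z, (2 : F) * R z = QuadraticMap.polar R z z := fun z => (Classical.Orth.polar_self' z).symm
  have hpol : ∀ g : GL ι F, g ∈ Cfsg.isometryGroup F ⇑R ↔
      ∀ u v, QuadraticMap.polar R (g.val *ᵥ u) (g.val *ᵥ v) = QuadraticMap.polar R u v := by
    intro g
    rw [mem_isoG_iff]
    refine ⟨fun h u v => by simp only [QuadraticMap.polar, ← mulVec_add, h], fun h z => ?_⟩
    exact mul_left_cancel₀ h2 (by rw [hhalf, hhalf, h])
  have hmapI : (Iso (gram t J)).map φ.toMonoidHom = Cfsg.isometryGroup F ⇑R := by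
    ext g
    constructor
    · rintro ⟨x, hx, rfl⟩
      refine (hpol _).2 fun u v => ?_
      obtain ⟨u, rfl⟩ := hcoord u
      obtain ⟨v, rfl⟩ := hcoord v
      show QuadraticMap.polar R ((Units.val (φ x)) *ᵥ _) ((Units.val (φ x)) *ᵥ _) = _
      rw [hφ, hφ, hform, hform, iso_frm hx]
    · intro hg
      refine ⟨φ.symm g, ?_, φ.apply_symm_apply g⟩
      refine mem_Iso_frm.2 fun x y => mul_left_cancel₀ hκ0 ?_
      rw [← hform, ← hform, ← hφ, ← hφ, φ.apply_symm_apply]
      exact (hpol g).1 hg _ _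
  have hmap : (Om (gram t J)).map φ.toMonoidHom = Cfsg.Geo.omegaGL ⇑R := by
    rw [Om, Subgroup.map_commutator, hmapI]
    exact (Subgroup.map_subtype_commutator _).symm
  have hcore : Cfsg.Geo.IsMaximalIn (Om (gram t J)) (Wr F k t ⊓ Om (gram t J)) := by
    refine isMaximalIn_of inf_le_right (fun h => not_Om_le hd ht fun g hg => (h hg).1)
      fun M hM hMK g hgM hg => ?_
    rcases hdich J a b hd M ⟨hMK, hM⟩ with h | h
    · exact absurd ⟨h hgM, hMK hgM⟩ hg
    · exact h
  have h := SubfieldLinear.isMaximalIn_map φ hcore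
  rw [Subgroup.map_inf (Wr F k t) (Om (gram t J)) _ φ.injective, hmap] at h
  convert h using 2
  have hfix : (Wr F k t).map (MulAut.conj Q₀).toMonoidHom = Wr F k t := by
    ext x
    constructor
    · rintro ⟨y, hy, rfl⟩
      exact mul_mem (mul_mem hQW hy) (inv_mem hQW)
    · intro hx
      exact ⟨Q₀⁻¹ * x * Q₀, mul_mem (mul_mem (inv_mem hQW) hx) hQW, by simp [mul_assoc]⟩
  rw [Cfsg.Geo.tensorWreathSubgroup, show Cfsg.Geo.tensorWreathStandard k t F = Wr F k t from rfl]
  conv_lhs => rw [← hfix]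
  rw [Subgroup.map_map, Subgroup.map_map]
  rfl

end Cfsg.Agent.TensorWreath.Or
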