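import Cfsg.Agent.Lib.Forms.Max.TensorWreath.Orth.Rows

/-!
# Overgroups which are not tame have corners
-/

set_option autoImplicit false
set_option linter.unusedSectionVars false
set_option linter.unusedSimpArgs false

namespace Cfsg.Agent.TensorWreath.Or

open Matrix Cfsg.Agent.Aschbacher

variable {F : Type*} [Field F] [Fintype F] {k t : ℕ} {J : Matrix (Fin k) (Fin k) F} {a b : Fin k}

variable (hd : Hyp J a b)
include hd

/-- flipping a pattern value -/
theorem pat_flip {X : Matrix (Fin k) (Fin k) F} (h : Pat J a b X) :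
    ∃ x ∈ Sl hd.sym, ∃ r : F, r ≠ 0 ∧ (X * conjMat x X) *ᵥ Pi.single a 1 = r • Pi.single a 1 ∧
      (X ≠ 1 → (conjMat x X * X) *ᵥ Pi.single a 1 = 0) := by
  have h2 := hd.sym.two
  rcases h with rfl | rfl | ⟨f, hf, hσ, rfl⟩
  · exact ⟨1, one_mem _, 1, one_ne_zero, by rw [map_one, one_mul, one_mulVec, one_smul], fun h => absurd rfl h⟩
  · obtain ⟨f, hf, hσ⟩ := exists_aniso hd
    obtain ⟨x, hx, xa, -, -⟩ := exists_flip hd hf hσ
    refine ⟨x, hx, _, mul_ne_zero (div_ne_zero (neg_ne_zero.2 h2) hσ) (div_ne_zero (neg_ne_zero.2 h2) hσ), ?_,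
      fun _ => ?_⟩
    · simp only [← mulVec_mulVec, EA, conj_op (Sl_le_Iso hd.sym hx), xa, op_smul_left, op_smul_right, smul_smul, smul_mulVec,
        op_mulVec hd.sym, frm_ba hd, frm_ab hd, frm_smul_right, one_smul, mulVec_smul, mul_one]
    · rw [← mulVec_mulVec, EA, op_mulVec hd.sym, frm_aa hd, zero_smul, mulVec_zero]
  · obtain ⟨x, hx, xa, -, xm⟩ := exists_flip hd hf hσ
    refine ⟨x, hx, -2, neg_ne_zero.2 h2, ?_, fun _ => ?_⟩
    · have hxf : x.val *ᵥ f = -f := by
        rw [xm f hf, mul_div_assoc, div_self hσ]; module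
      rw [← mulVec_mulVec, conj_Qm (Sl_le_Iso hd.sym hx), xa, hxf, Qm_mulVec hd.sym, Qm_mulVec hd.sym]
      simp only [frm_neg_left, frm_smul_left, frm_sub_right, frm_smul_right, frm_neg_right, frm_ua hd hf, frm_ba hd,
        frm_au hd hf, frm_aa hd]
      match_scalars <;> field_simp <;> ring
    · rw [← mulVec_mulVec, Qm_mulVec hd.sym, frm_ua hd hf, frm_aa hd, zero_smul, zero_smul, sub_zero, mulVec_zero]

/-- an orthogonal anisotropic vector of an isotropic vector of the middle -/
theorem exists_perp_iso {w : Fin k → F} (hw : w ∈ mid F a b) (hw0 : w ≠ 0) (hQ : frm J w w = 0) :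
    ∃ g ∈ mid F a b, frm J g w = 0 ∧ frm J g g ≠ 0 := by
  classical
  have h2 := hd.sym.two
  obtain ⟨v, hv, hwv⟩ : ∃ v ∈ mid F a b, frm J w v = 1 := by
    obtain ⟨f, hf, -, hwf⟩ := exists_aniso_pairing hd hw hw0
    exact ⟨(frm J w f)⁻¹ • f, Submodule.smul_mem _ _ hf, by rw [frm_smul_right, inv_mul_cancel₀ hwf]⟩
  set v0 := v - ((2 : F)⁻¹ * frm J v v) • w with hv0
  have hv0m : v0 ∈ mid F a b := sub_mem hv (Submodule.smul_mem _ _ hw)
  have e1 : frm J w v0 = 1 := by rw [hv0, frm_sub_right, frm_smul_right, hwv, hQ, mul_zero, sub_zero]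
  have e2 : frm J v0 v0 = 0 := by
    simp only [hv0, frm_sub_left, frm_sub_right, frm_smul_left, frm_smul_right, hwv, hQ, frm_comm hd.sym v w]
    field_simp; ring
  have e1' : frm J v0 w = 1 := by rw [frm_comm hd.sym, e1]
  let P : (Fin k → F) →ₗ[F] (Fin k → F) :=
    { toFun := fun x => x - frm J x v0 • w - frm J x w • v0
      map_add' := fun x y => by simp only [frm_add_left, add_smul]; abel
      map_smul' := fun c x => by simp only [frm_smul_left, RingHom.id_apply, smul_sub, smul_smul] }
  obtain ⟨x, hx, hne⟩ := exists_aniso_proj hd P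
    (fun x hx => sub_mem (sub_mem hx (Submodule.smul_mem _ _ hw)) (Submodule.smul_mem _ _ hv0m))
    (fun x _ y _ => by
      simp only [P, LinearMap.coe_mk, AddHom.coe_mk, frm_sub_left, frm_sub_right, frm_smul_left, frm_smul_right,
        e1, e1', e2, hQ, frm_comm hd.sym w y, frm_comm hd.sym v0 y]
      ring)
    (by
      by_contra hc
      push Not at hc
      rcases (show 5 ≤ k ∨ k = 4 ∨ k = 3 by have := hd.hk; omega) with h5 | h4 | h3
      · have hle : mid F a b ≤ Submodule.span F (Set.range ![w, v0]) := fun x hx => by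
          have := hc x hx
          simp only [P, LinearMap.coe_mk, AddHom.coe_mk, sub_sub, sub_eq_zero] at this
          rw [this]
          exact add_mem (Submodule.smul_mem _ _ (Submodule.subset_span ⟨0, rfl⟩))
            (Submodule.smul_mem _ _ (Submodule.subset_span ⟨1, rfl⟩))
        have h1 := (Submodule.finrank_mono hle).trans (finrank_range_le_card _)
        have h3 := finrank_mid (F := F) (J := J) (a := a) (b := b) hd
        rw [Fintype.card_fin] at h1
        omega
      · exact hw0 (hd.minus h4 w (mem_mid.1 hw).1 (mem_mid.1 hw).2 hQ)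
      · have hli : LinearIndependent F ![(Pi.single a 1 : Fin k → F), Pi.single b 1, w, v0] := by
          refine Fintype.linearIndependent_iff.2 fun c hcc => ?_
          simp only [Fin.sum_univ_four, Matrix.cons_val_zero, Matrix.cons_val_one, Matrix.cons_val] at hcc
          have t1 := congrArg (fun z => frm J z (Pi.single b 1)) hcc
          have t2 := congrArg (fun z => frm J z (Pi.single a 1)) hcc
          have t3 := congrArg (fun z => frm J z v0) hcc
          have t4 := congrArg (fun z => frm J z w) hcc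
          simp only [frm_add_left, frm_smul_left, frm_zero_left, frm_ab hd, frm_aa hd, frm_bb hd, frm_ba hd,
            frm_au hd hw, frm_au hd hv0m, frm_bu hd hw, frm_bu hd hv0m, frm_ub hd hw, frm_ub hd hv0m, frm_ua hd hw,
            frm_ua hd hv0m, e1, e1', e2, hQ, mul_zero, mul_one, add_zero, zero_add] at t1 t2 t3 t4
          intro i
          fin_cases i <;> assumption
        have h1 := hli.fintype_card_le_finrank
        rw [Module.finrank_fintype_fun_eq_card, Fintype.card_fin, Fintype.card_fin] at h1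
        omega)
  refine ⟨P x, sub_mem (sub_mem hx (Submodule.smul_mem _ _ hw)) (Submodule.smul_mem _ _ hv0m), ?_, hne⟩
  simp only [P, LinearMap.coe_mk, AddHom.coe_mk, frm_sub_left, frm_smul_left, e1', hQ, mul_zero, mul_one, sub_zero, sub_self]

variable {G : Subgroup (GL (Fin (t + 1) → Fin k) F)}

/-- a shaped element with a non-scalar row gives corners -/
theorem corner_of_shaped (hG : Over J G) (hke : k = 4 → Even k) {z : GL (Fin (t + 1) → Fin k) F} (hz : z ∈ G)
    (hs : Shp a b (blk z.val - 1)) {y : Fin k} (hya : y ≠ a) (hy : ∀ c : F, blk z.val a y ≠ c • 1) :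
    ∃ B ∈ corners hd G, B ≠ 0 := by
  classical
  have h2 := hd.sym.two
  set X := blk z.val - 1 with hX
  have eX : blk z.val = 1 + X := by rw [hX]; abel
  have hmid : ∀ q, q ≠ a → q ≠ b → (Pi.single q 1 : Fin k → F) ∈ mid F a b := fun q ha hb =>
    mem_mid.2 ⟨Pi.single_eq_of_ne (Ne.symm ha) _, Pi.single_eq_of_ne (Ne.symm hb) _⟩
  by_contra hC
  push Not at hC
  -- the middle rows are self-adjoint
  have hD : ∀ p, p ≠ a → p ≠ b → X a p + ∑ q, J q p • X q b = 0 := by
    intro p ha hb
    have := hC _ (corner_of_sg hd hG hz hs (hmid p ha hb))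
    rw [← hX, Finset.sum_add_distrib, Finset.sum_eq_single p (fun q _ hq => by rw [Pi.single_eq_of_ne hq, zero_smul]) (by simp),
      Pi.single_eq_same, one_smul] at this
    simpa using this
  have hsl : ∀ p, p ≠ a → p ≠ b → X a p ∈ slf (gram t J) := by
    intro p ha hb
    have h1 := shp_rel hd (hG.iso hz) hs ha hb
    have h3 := hD p ha hb
    have hsym : ∀ q, J q p = J p q := fun q => congrFun (congrFun hd.sym.symm p) q
    simp only [hsym] at h3
    rw [← hX, ← neg_eq_iff_add_eq_zero.2 h3, mul_neg, add_neg_eq_zero] at h1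
    rw [mem_slf, transpose_mul, (gram_sym hd.sym).symm, h1]
  by_cases hmids : ∀ p, p ≠ a → p ≠ b → ∃ c : F, X a p = c • 1
  · -- only the corner is not scalar
    choose! r hr using hmids
    let φ : Fin k → F := fun p => if p = a ∨ p = b then 0 else r p
    obtain ⟨U, hU⟩ := hd.sym.unit
    obtain ⟨u, hJu⟩ : ∃ u, J *ᵥ u = φ := ⟨(U⁻¹).val *ᵥ φ, by rw [← hU, cancelV']⟩
    have hu : u ∈ mid F a b := by
      refine mem_mid.2 ⟨?_, ?_⟩
      · rw [← frm_b hd u, single_dot, hJu]; simp [φ]
      · rw [← frm_a hd u, single_dot, hJu]; simp [φ]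
    have hY := sg_shp (t := t) hd hu
    set s := sg hd.sym _ u (frm_aa hd) (frm_au hd hu) with hsdef
    set Y := blk (sgl (0 : Fin (t + 1)) s).val - 1 with hYdef
    have eY : blk (sgl (0 : Fin (t + 1)) s).val = 1 + Y := by rw [hYdef]; abel
    have hYv : ∀ x y, Y x y = sgN J (Pi.single a 1) u x y • 1 := fun x y => by
      rw [hYdef, blk_sgl0_sub, Matrix.map_apply, Algebra.algebraMap_eq_smul_one, hsdef, sg_coe, add_sub_cancel_left]
    set z2 := z * sgl 0 s
    have hz2 : z2 ∈ G := mul_mem hz (hG.slot (by have := hd.hk; omega) 0 (sg_mem_Sl hd.sym _ _))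
    set X2 := X + Y + Matrix.single a b ((X * Y) a b) with hX2
    have e2 : blk z2.val = 1 + X2 := by rw [Units.val_mul, map_mul, eX, eY, shp_prod hd.hab hs hY]
    have hs2 : Shp a b X2 := shp_add (shp_add hs hY) (shp_single hd.hab _)
    have hrow : ∀ p, p ≠ a → p ≠ b → X2 a p = 0 := by
      intro p ha hb
      rw [hX2, Matrix.add_apply, Matrix.add_apply, Matrix.single_apply, if_neg (fun h => hb h.2.symm), add_zero,
        hr p ha hb, hYv, sgN_apply hd]
      simp [ha, hb, hJu, φ]
    have hs2' : Shp a b (blk z2.val - 1) := by rw [e2, add_sub_cancel_left]; exact hs2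
    let V : Fin k → Matrix (Fin t → Fin k) (Fin t → Fin k) F := fun q => if q = a ∨ q = b then 0 else X2 q b
    have hV : V = 0 := by
      refine col_zero hd (by simp [V]) (by simp [V]) fun m ha hb => ?_
      have h1 := shp_rel hd (hG.iso hz2) hs2' ha hb
      rw [e2, add_sub_cancel_left, hrow m ha hb, transpose_zero, zero_mul, zero_add] at h1
      refine (gram_sym hd.sym).unit.mul_left_cancel (Eq.trans ?_ (h1.trans (mul_zero _).symm))
      congr 1
      refine Finset.sum_congr rfl fun q _ => ?_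
      simp only [V]
      split_ifs with hq
      · obtain ⟨hma, hmb, -, -⟩ := J_entries hd ha hb
        rcases hq with rfl | rfl
        · rw [hma, zero_smul, zero_smul]
        · rw [hmb, zero_smul, zero_smul]
      · rfl
    have hX2e : X2 = Matrix.single a b (X2 a b) := by
      ext p q : 1
      rw [Matrix.single_apply]
      split_ifs with h
      · rw [h.1, h.2]
      rcases shp_cases hs2 p q with h0 | ⟨hp, hq⟩ | ⟨hq, hp⟩
      · exact h0
      · rw [hp]; exact hrow q hq fun e => h ⟨hp.symm, e.symm⟩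
      · by_cases hpa : p = a
        · exact absurd ⟨hpa.symm, hq.symm⟩ h
        have := congrFun hV p
        simp only [V, hpa, hp, or_self, if_false, Pi.zero_apply] at this
        rw [hq]; exact this
    have hraw : IsCorner J a G (X2 a b) := ⟨z2, hz2, (corner_blk hd).2 (by rw [e2]; exact congrArg (1 + ·) hX2e)⟩
    by_cases hyb : y = b
    swap
    · obtain ⟨-, hy'⟩ : y ≠ a ∧ y ≠ b := ⟨hya, hyb⟩
      exact hy (r y) (by rw [eX, Matrix.add_apply, Matrix.one_apply_ne (Ne.symm hya), zero_add, hr y hya hy'])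
    subst hyb
    have hne : X2 a y ≠ 0 := by
      intro e
      let S1 : Submodule F (Matrix (Fin t → Fin k) (Fin t → Fin k) F) := Submodule.span F {1}
      have h1 : X a y ∈ S1 := by
        have e' : X a y = -(Y a y + (X * Y) a y) := by
          rw [hX2, Matrix.add_apply, Matrix.add_apply, Matrix.single_apply_same] at e
          rw [eq_neg_iff_add_eq_zero, ← e]; abel
        rw [e', Matrix.mul_apply, hYv]
        refine S1.neg_mem (S1.add_mem (S1.smul_mem _ (Submodule.mem_span_singleton_self _)) (S1.sum_mem fun p _ => ?_))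
        rw [hYv, mul_smul_comm, mul_one]
        rcases eq_or_ne p a with rfl | hpa
        · rw [(shp_aa hd.hab hs).1, smul_zero]; exact zero_mem _
        rcases eq_or_ne p y with rfl | hpy
        · rw [sgN_apply hd]
          simp [hd.hab.symm, (mem_mid.1 hu).2]
        · rw [hr p hpa hpy]
          exact S1.smul_mem _ (S1.smul_mem _ (Submodule.mem_span_singleton_self _))
      obtain ⟨c, hc⟩ := Submodule.mem_span_singleton.1 h1
      exact hy c (by rw [eX, Matrix.add_apply, Matrix.one_apply_ne (Ne.symm hya), zero_add, hc])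
    obtain ⟨B, hB, hB0⟩ := corners_of_raw hd hG hraw hne
    exact hB0 (hC B hB)
  -- patterns in the rows
  push Not at hmids
  obtain ⟨q, hqa, hqb, hq⟩ := hmids
  let A : Fin k → Matrix (Fin t → Fin k) (Fin t → Fin k) F := fun p => if p = a ∨ p = b then 0 else X a p
  have hA : A ∈ rowsp hd hG := by
    refine ⟨fun p => ?_, by simp [A], by simp [A], z, hz, hs, fun p ha hb => ?_⟩
    · simp only [A]
      split_ifs with h
      · exact Submodule.zero_mem _
      · push Not at h; exact hsl p h.1 h.2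
    · simp [A, ha, hb, eX, Matrix.one_apply_ne (Ne.symm ha)]
  have hinv : InvT hd.sym (rowsp hd hG) := fun j x hx Y hY =>
    rowsp_conj hd hG (sgl_iso j (Sl_le_Iso hd.sym hx)) (slot_normal hd hG j hx) hY
  have hsep : SepT a b hd.sym (rowsp hd hG) := by
    rcases Nat.lt_or_ge t 2 with ht | ht
    · rcases (show t = 0 ∨ t = 1 by omega) with ht | ht
      · exact Or.inr (Or.inr (Or.inl ht))
      · exact Or.inr (Or.inr (Or.inr ⟨ht, Or.inr fun Y hY m => hY.1 m⟩))
    · by_cases h4 : k = 4
      · exact Or.inr (Or.inl fun j h hne _ Y hY =>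
          rowsp_conj hd hG (sgl_iso j (rfl'_iso _ _ _)) (refl_normal hd hG (hke h4) ht j hne) hY)
      · exact Or.inl h4
  obtain ⟨lam, hlam, T, hT, ⟨i₀, hi₀⟩, hmem⟩ := extract hd t _ hinv hsep A hA
    ⟨q, fun c e => hq c (by simpa [A, hqa, hqb] using e)⟩
  have hmem' := hmem
  obtain ⟨hlsl, hla, hlb, -⟩ := hmem'
  choose x hx r hr e1 e2 using fun i => pat_flip hd (hT i)
  -- the commutator vector
  set T' := fun i => conjMat (x i) (T i) with hT'
  set P := pureTensor T with hP
  set P' := pureTensor T' with hP'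
  set v : (Fin t → Fin k) → F := pvec fun _ => Pi.single a 1 with hv
  have hv0 : v ≠ 0 := by
    intro e
    have := congrFun e fun _ => a
    simp [hv, pvec] at this
  have hPP : (P * P') *ᵥ v = (∏ i, r i) • v := by
    rw [hP, hP', ← map_mul, hv, pure_mulVec_pvec]
    simp only [Pi.mul_apply, hT', e1]
    funext p
    simp [pvec, Finset.prod_mul_distrib]
  have hP'P : (P' * P) *ᵥ v = 0 := by
    rw [hP, hP', ← map_mul, hv, pure_mulVec_pvec]
    funext p
    rw [pvec, Pi.zero_apply]
    refine Finset.prod_eq_zero (Finset.mem_univ i₀) ?_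
    rw [Pi.mul_apply, hT', e2 i₀ hi₀, Pi.zero_apply]
  have hP0 : P ≠ 0 := fun e => by
    rw [e, zero_mul, zero_mulVec] at hPP
    exact smul_ne_zero (Finset.prod_ne_zero_iff.2 fun i _ => hr i) hv0 hPP.symm
  have hz0 : ∀ p, lam p • P = 0 → lam p = 0 := fun p e => (smul_eq_zero.1 e).resolve_right hP0
  obtain ⟨U, hU⟩ := hd.sym.unit
  obtain ⟨w, hJw⟩ : ∃ w, J *ᵥ w = lam := ⟨(U⁻¹).val *ᵥ lam, by rw [← hU, cancelV']⟩
  have hw : w ∈ mid F a b := by
    refine mem_mid.2 ⟨?_, ?_⟩
    · rw [← frm_b hd w, single_dot, hJw]; exact hz0 b hlb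
    · rw [← frm_a hd w, single_dot, hJw]; exact hz0 a hla
  have hw0 : w ≠ 0 := fun e => hlam (by rw [← hJw, e, mulVec_zero])
  obtain ⟨p, hp⟩ := Function.ne_iff.1 hlam
  have hPs : P ∈ slf (gram t J) := (Submodule.smul_mem_iff _ hp).1 (hlsl p)
  have hcI : pureGL x ∈ Iso (gram t J) := pureGL_iso fun i => Sl_le_Iso hd.sym (hx i)
  have hcn : ∀ g ∈ G, liftW (pureGL x) * g * (liftW (pureGL x))⁻¹ ∈ G := fun g hg => by
    have h1 : liftW (pureGL x) ∈ G := by
      have e : liftW (pureGL x) = pureGL (Fin.cons 1 x) := Units.ext (by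
        rw [liftW_coe, pureGL_coe, pureGL_coe, lift_pure]
        congr 1
        funext i
        induction i using Fin.cases <;> simp)
      rw [e]
      exact hG.pure (hS := hd.sym) (by have := hd.hk; omega) fun i => by
        induction i using Fin.cases with
        | zero => simp
        | succ i => simpa using hx i
    exact mul_mem (mul_mem h1 hg) (inv_mem h1)
  have hP's : P' ∈ slf (gram t J) := by
    have := conj_slf hcI hPs
    rwa [hP, conj_pure_pureT] at this
  have hrowsW : (fun p => (J *ᵥ w) p • P) ∈ rowsp hd hG := by rw [hJw]; exact hmem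
  have hrowsW' : (fun p => (J *ᵥ w) p • P') ∈ rowsp hd hG := by
    convert rowsp_conj hd hG hcI hcn hrowsW using 1
    funext p
    rw [cj_apply, map_smul, hP, conj_pure_pureT]
  obtain ⟨w', hw', hpair, hrows⟩ : ∃ w' ∈ mid F a b, frm J w w' ≠ 0 ∧ (fun p => (J *ᵥ w') p • P') ∈ rowsp hd hG := by
    by_cases hQ : frm J w w = 0
    swap
    · exact ⟨w, hw, hQ, hrowsW'⟩
    obtain ⟨f, hf, hσ, hwf⟩ := exists_aniso_pairing hd hw hw0
    obtain ⟨g, hg, hgw, hρ⟩ := exists_perp_iso hd hw hw0 hQ
    obtain ⟨l, hl, la, lb, lm⟩ := exists_levi hd hf hσ hg hρ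
    have hlmid : ∀ m ∈ mid F a b, l.val *ᵥ m ∈ mid F a b := fun m hm => by
      rw [lm m hm]
      exact sub_mem (sub_mem hm (Submodule.smul_mem _ _ hg)) (Submodule.smul_mem _ _ hf)
    refine ⟨(frm J f f / frm J g g) • (l.val *ᵥ w), Submodule.smul_mem _ _ (hlmid w hw), ?_,
      rows_levi hd hG hl la lb hlmid hw hrowsW'⟩
    rw [frm_smul_right, lm w hw, refl, refl, hgw]
    simp only [mul_zero, zero_div, zero_smul, sub_zero, frm_sub_right, frm_smul_right, hQ, zero_sub]
    refine mul_ne_zero (div_ne_zero hσ hρ) (neg_ne_zero.2 (mul_ne_zero (div_ne_zero (mul_ne_zero h2 ?_) hσ) hwf))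
    rwa [frm_comm hd.sym]
  have := hC _ (corner_of_pair hd hG hw hw' hPs hP's hrowsW hrows)
  rw [smul_eq_zero, sub_eq_zero] at this
  have e := this.resolve_left hpair
  rw [← e, hP'P] at hPP
  exact smul_ne_zero (Finset.prod_ne_zero_iff.2 fun i _ => hr i) hv0 hPP.symm

/-- an overgroup which is not tame has a conjugate with corners -/
theorem corner_of_not_tame (hG : Over J G) (hke : k = 4 → Even k) (hT : ¬ TameU hd.sym a b G) :
    ∃ w ∈ W0 hd.sym (t + 1), ∃ B ∈ corners hd (TensorWreath.conjSub w G), B ≠ 0 := by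
  unfold TameU at hT
  push Not at hT
  obtain ⟨w, hw, z, hz, hs, y, hya, hy⟩ := hT
  exact ⟨w, hw, corner_of_shaped hd (hG.conjSub hw) hke (mem_conjSub.2 (by simpa [mul_assoc] using hz)) hs hya hy⟩

end Cfsg.Agent.TensorWreath.Or
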