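import Cfsg.Agent.Lib.Forms.Max.TensorWreath.Orth.Data

/-!
# Operators built from the conjugates by Siegel elements
-/

set_option autoImplicit false
set_option linter.unusedSectionVars false
set_option linter.unusedSimpArgs false

namespace Cfsg.Agent.TensorWreath.Or

open Matrix Cfsg.Agent.Aschbacher

section Gen
variable {F : Type*} [Field F] {ι : Type} [Fintype ι] [DecidableEq ι] {J : Matrix ι ι F}

theorem op_sandwich (hS : Sym J) (x y z w : ι → F) (X : Matrix ι ι F) :
    op J x y * X * op J z w = frm J y (X *ᵥ z) • op J x w := by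
  refine Matrix.ext_of_mulVec_single fun i => ?_
  rw [← mulVec_mulVec, ← mulVec_mulVec, op_mulVec hS, op_mulVec hS, smul_mulVec, op_mulVec hS, mulVec_smul,
    frm_smul_right, smul_smul, mul_comm]

theorem frm_mulVec_single (X : Matrix ι ι F) (p q : ι) :
    (J * X) p q = frm J (Pi.single p 1) (X *ᵥ Pi.single q 1) := by
  rw [single_dot, mulVec_mulVec, mulVec_single_one]; rfl

theorem mem_skew_frm (hS : Sym J) {X : Matrix ι ι F} :
    X ∈ skew J ↔ ∀ x y, frm J x (X *ᵥ y) = -frm J (X *ᵥ x) y := by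
  refine ⟨fun h x y => ?_, fun h => ?_⟩
  · rw [frm, mulVec_mulVec, dotProduct_mulVec, ← mulVec_transpose, mem_skew.1 h, neg_mulVec, neg_dotProduct,
      ← mulVec_mulVec, dotProduct_comm, ← frm, frm_comm hS]
  · rw [mem_skew]
    ext p q
    rw [transpose_apply, Matrix.neg_apply, frm_mulVec_single, frm_mulVec_single, h, frm_comm hS]

variable {μ : Type}

/-- simultaneous conjugation -/
def cj (g : GL ι F) : (μ → Matrix ι ι F) →ₗ[F] (μ → Matrix ι ι F) :=
  LinearMap.pi fun m => (conjMat g).toLinearMap ∘ₗ LinearMap.proj m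

theorem cj_apply (g : GL ι F) (Y : μ → Matrix ι ι F) (m : μ) : cj g Y m = conjMat g (Y m) := rfl

theorem conjMat_one' (g : GL ι F) : conjMat g (1 : Matrix ι ι F) = 1 := map_one _

/-- the odd part of a Siegel conjugation -/
noncomputable def odd (hS : Sym J) (e u : ι → F) (he : frm J e e = 0) (hu : frm J e u = 0) :
    Matrix ι ι F →ₗ[F] Matrix ι ι F :=
  (2 : F)⁻¹ • ((conjMat (sg hS e u he hu)).toLinearMap -
    (conjMat (sg hS e (-u) he (by rw [frm_neg_right, hu, neg_zero]))).toLinearMap)

theorem odd_apply (hS : Sym J) (e u : ι → F) (he : frm J e e = 0) (hu : frm J e u = 0) (X : Matrix ι ι F) :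
    odd hS e u he hu X = (2 : F)⁻¹ • (conjMat (sg hS e u he hu) X -
      conjMat (sg hS e (-u) he (by rw [frm_neg_right, hu, neg_zero])) X) := rfl

theorem odd_one (hS : Sym J) (e u : ι → F) (he : frm J e e = 0) (hu : frm J e u = 0) : odd hS e u he hu 1 = 0 := by
  rw [odd_apply, map_one, map_one, sub_self, smul_zero]

theorem odd_Qm (hS : Sym J) {e u : ι → F} (he : frm J e e = 0) (hu : frm J e u = 0) (x y : ι → F) :
    odd hS e u he hu (Qm J x y) =
      Qm J (frm J e x • u - frm J u x • e) (y - ((2 : F)⁻¹ * frm J u u * frm J e y) • e) +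
      Qm J (x - ((2 : F)⁻¹ * frm J u u * frm J e x) • e) (frm J e y • u - frm J u y • e) := by
  have h2 := hS.two
  rw [odd_apply, conj_Qm (sg_iso hS he hu), conj_Qm (sg_iso hS he _), sg_mulVec, sg_mulVec, sg_mulVec, sg_mulVec]
  simp only [frm_neg_left, frm_neg_right, neg_neg, Qm, op_add_left, op_add_right, op_sub_left, op_sub_right,
    op_smul_left, op_smul_right, op_neg_left, op_neg_right]
  match_scalars <;> field_simp <;> ring

end Gen

variable {F : Type*} [Field F] {k : ℕ} {J : Matrix (Fin k) (Fin k) F} {a b : Fin k} {μ : Type}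

/-- invariant under the slot group -/
def Inv (hS : Sym J) (W : Submodule F (μ → Matrix (Fin k) (Fin k) F)) : Prop :=
  ∀ x ∈ Sl hS, ∀ Y ∈ W, cj x Y ∈ W

theorem Inv.odd_mem {hS : Sym J} {W : Submodule F (μ → Matrix (Fin k) (Fin k) F)} (hW : Inv hS W)
    {e u : Fin k → F} (he : frm J e e = 0) (hu : frm J e u = 0) {Y : μ → Matrix (Fin k) (Fin k) F} (hY : Y ∈ W) :
    (fun m => odd hS e u he hu (Y m)) ∈ W := by
  have h := W.smul_mem (2 : F)⁻¹ (W.sub_mem (hW _ (sg_mem_Sl hS he hu) Y hY)
    (hW _ (sg_mem_Sl hS he (u := -u) (by rw [frm_neg_right, hu, neg_zero])) Y hY))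
  exact h

variable (hd : Hyp J a b)
include hd

/-- the expansion of a Siegel conjugation -/
theorem conj_expand {f : Fin k → F} (hf : f ∈ mid F a b) (c : F) (X : Matrix (Fin k) (Fin k) F) :
    conjMat (sg hd.sym _ (c • f) (frm_aa hd) (frm_au hd (Submodule.smul_mem _ c hf))) X = X +
      c • (Qm J f (Pi.single a 1) * X - X * Qm J f (Pi.single a 1)) +
      (c * c) • ((-((2 : F)⁻¹ * frm J f f)) • (EA J a * X + X * EA J a) -
        Qm J f (Pi.single a 1) * X * Qm J f (Pi.single a 1)) +
      (c * c * c * (-((2 : F)⁻¹ * frm J f f))) •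
        (Qm J f (Pi.single a 1) * X * EA J a - EA J a * X * Qm J f (Pi.single a 1)) +
      (c * c * c * c * ((2 : F)⁻¹ * frm J f f) * ((2 : F)⁻¹ * frm J f f)) • (EA J a * X * EA J a) := by
  rw [conjMat_apply, sg_inv, sg_coe, sg_coe]
  simp only [sgN, Qm, frm_neg_left, frm_neg_right, frm_smul_left, frm_smul_right, op_neg_left, op_neg_right,
    op_smul_left, op_smul_right, EA, mul_add, add_mul, one_mul, mul_one, mul_sub, sub_mul, smul_mul_assoc,
    mul_smul_comm, neg_mul, mul_neg, neg_neg, smul_sub, smul_add, smul_smul]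
  match_scalars <;> ring

theorem NE_zero {f : Fin k → F} (hf : f ∈ mid F a b) :
    Qm J f (Pi.single a 1) * EA J a = 0 ∧ EA J a * Qm J f (Pi.single a 1) = 0 ∧ EA J a * EA J a = 0 ∧
      Qm J f (Pi.single a 1) * Qm J f (Pi.single a 1) = (-frm J f f) • EA J a := by
  simp [Qm, EA, sub_mul, mul_sub, op_mul hd.sym, frm_aa hd, frm_au hd hf, frm_ua hd hf]

variable [Fintype F]

/-- a sum of powers -/
theorem sum_pow_card_sub (i : ℕ) (hi : i ≤ 4) (h5 : 5 ≤ Fintype.card F) :
    ∑ c : F, c ^ (Fintype.card F - 5 + i) = if i = 4 then -1 else 0 := by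
  classical
  split_ifs with h
  · subst h
    rw [show Fintype.card F - 5 + 4 = Fintype.card F - 1 by omega, ← Finset.sum_erase_add _ _ (Finset.mem_univ (0 : F)),
      zero_pow (by omega), add_zero, Finset.sum_congr rfl fun c hc => FiniteField.pow_card_sub_one_eq_one c
        (Finset.ne_of_mem_erase hc), Finset.sum_const, Finset.card_erase_of_mem (Finset.mem_univ _), Finset.card_univ,
      nsmul_one, Nat.cast_sub (by omega), FiniteField.cast_card_eq_zero, Nat.cast_one, zero_sub]
  · exact FiniteField.sum_pow_lt_card_sub_one (K := F) _ (by omega)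

theorem card_five (hq : Nat.card F ≠ 3) : 5 ≤ Fintype.card F := by
  have hodd := FiniteField.odd_card_of_char_ne_two (F := F) fun h => hd.sym.two (by
      have : CharP F 2 := h ▸ ringChar.charP F
      exact CharTwo.two_eq_zero)
  have h1 : 1 < Fintype.card F := Fintype.one_lt_card
  rw [Nat.card_eq_fintype_card] at hq
  omega

/-- the quartic coefficient of the conjugations along a line -/
theorem EXE_sum (hq : Nat.card F ≠ 3) {f : Fin k → F} (hf : f ∈ mid F a b) (X : Matrix (Fin k) (Fin k) F) :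
    ∑ c : F, c ^ (Fintype.card F - 5) • conjMat (sg hd.sym _ (c • f) (frm_aa hd)
        (frm_au hd (Submodule.smul_mem _ c hf))) X =
      (-(((2 : F)⁻¹ * frm J f f) * ((2 : F)⁻¹ * frm J f f))) • (EA J a * X * EA J a) := by
  have h5 := card_five hd hq
  have hs : ∀ i, i ≤ 4 → ∑ c : F, c ^ (Fintype.card F - 5) * c ^ i = if i = 4 then -1 else 0 := fun i hi => by
    rw [← sum_pow_card_sub hd i hi h5]; exact Finset.sum_congr rfl fun c _ => (pow_add _ _ _).symm
  simp only [conj_expand hd hf, smul_add, Finset.sum_add_distrib, smul_smul, ← Finset.sum_smul]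
  have h0 := hs 0 (by omega)
  have h1 := hs 1 (by omega)
  have h2 := hs 2 (by omega)
  have h3 := hs 3 (by omega)
  have h4 := hs 4 le_rfl
  simp only [pow_zero, mul_one, pow_one, if_true, show ((0 : ℕ) = 4) = False by simp, show ((1 : ℕ) = 4) = False by simp,
    show ((2 : ℕ) = 4) = False by simp, show ((3 : ℕ) = 4) = False by simp, if_false] at h0 h1 h2 h3 h4
  simp only [pow_succ, pow_zero, one_mul] at h2 h3 h4
  have hm : ∀ (r : F) (g : F → F), ∑ c : F, g c * r = (∑ c, g c) * r := fun r g => (Finset.sum_mul ..).symm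
  simp only [← mul_assoc, hm] at h2 h3 h4 ⊢
  rw [h0, h1, h2, h3, h4]
  simp only [zero_smul, zero_mul, zero_add, neg_one_mul, neg_mul, one_mul]

variable {W : Submodule F (μ → Matrix (Fin k) (Fin k) F)} (hW : Inv hd.sym W)
  {Y : μ → Matrix (Fin k) (Fin k) F}
include hW

/-- sandwiches by the root operator -/
theorem EXE_mem (hY : Y ∈ W) : (fun m => EA J a * Y m * EA J a) ∈ W := by
  have h2 := hd.sym.two
  by_cases hq : Nat.card F ≠ 3
  · obtain ⟨f, hf, hσ⟩ := exists_aniso hd
    have hr : -(((2 : F)⁻¹ * frm J f f) * ((2 : F)⁻¹ * frm J f f)) ≠ 0 :=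
      neg_ne_zero.2 (mul_ne_zero (mul_ne_zero (inv_ne_zero h2) hσ) (mul_ne_zero (inv_ne_zero h2) hσ))
    refine (Submodule.smul_mem_iff _ hr).1 ?_
    have h := W.sum_mem (t := Finset.univ) fun c _ =>
      W.smul_mem (c ^ (Fintype.card F - 5)) (hW _ (sg_mem_Sl hd.sym (frm_aa hd)
        (frm_au hd (Submodule.smul_mem _ c hf))) Y hY)
    convert h using 1
    funext m
    rw [Finset.sum_apply, Pi.smul_apply, ← EXE_sum hd hq hf]
    rfl
  · obtain ⟨f, hf, g, hg, hgf, hσ, hρ, -⟩ := exists_plane hd (hd.big.resolve_left hq)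
    have ev : ∀ {u} (_ : u ∈ mid F a b), ∀ Z ∈ W, (fun m =>
        (-((2 : F)⁻¹ * frm J u u)) • (EA J a * Z m + Z m * EA J a) - Qm J u (Pi.single a 1) * Z m * Qm J u (Pi.single a 1) +
          (((2 : F)⁻¹ * frm J u u) * ((2 : F)⁻¹ * frm J u u)) • (EA J a * Z m * EA J a)) ∈ W := by
      intro u hu Z hZ
      have h := W.sub_mem (W.smul_mem (2 : F)⁻¹ (W.add_mem
        (hW _ (sg_mem_Sl hd.sym (frm_aa hd) (frm_au hd (Submodule.smul_mem _ (1 : F) hu))) Z hZ)
        (hW _ (sg_mem_Sl hd.sym (frm_aa hd) (frm_au hd (Submodule.smul_mem _ (-1 : F) hu))) Z hZ))) hZ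
      convert h using 1
      funext m
      simp only [Pi.sub_apply, Pi.smul_apply, Pi.add_apply, cj_apply, conj_expand hd hu]
      match_scalars <;> field_simp <;> ring
    have h := ev hg _ (ev hf Y hY)
    have hr : (2 : F)⁻¹ * frm J f f * frm J g g ≠ 0 := mul_ne_zero (mul_ne_zero (inv_ne_zero h2) hσ) hρ
    refine (Submodule.smul_mem_iff _ hr).1 ?_
    convert h using 1
    funext m
    obtain ⟨f1, f2, f3, -⟩ := NE_zero hd hf
    obtain ⟨g1, g2, -, -⟩ := NE_zero hd hg
    have fg : Qm J g (Pi.single a 1) * Qm J f (Pi.single a 1) = 0 ∧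
        Qm J f (Pi.single a 1) * Qm J g (Pi.single a 1) = 0 := by
      simp [Qm, sub_mul, mul_sub, op_mul hd.sym, frm_aa hd, frm_au hd hf, frm_ua hd hf, frm_au hd hg, frm_ua hd hg,
        hgf, frm_comm hd.sym f g]
    have l1 : ∀ A : Matrix (Fin k) (Fin k) F, EA J a * (EA J a * A) = 0 := fun A => by
      rw [← Matrix.mul_assoc, f3, Matrix.zero_mul]
    have l2 : ∀ A : Matrix (Fin k) (Fin k) F, EA J a * (Qm J f (Pi.single a 1) * A) = 0 := fun A => by
      rw [← Matrix.mul_assoc, f2, Matrix.zero_mul]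
    have l3 : ∀ A : Matrix (Fin k) (Fin k) F, Qm J g (Pi.single a 1) * (EA J a * A) = 0 := fun A => by
      rw [← Matrix.mul_assoc, g1, Matrix.zero_mul]
    have l4 : ∀ A : Matrix (Fin k) (Fin k) F, Qm J g (Pi.single a 1) * (Qm J f (Pi.single a 1) * A) = 0 := fun A => by
      rw [← Matrix.mul_assoc, fg.1, Matrix.zero_mul]
    simp only [Pi.smul_apply, mul_add, add_mul, mul_sub, sub_mul, smul_mul_assoc, mul_smul_comm, Matrix.mul_assoc,
      l1, l2, l3, l4, f1, f2, f3, g1, g2, fg.1, fg.2, mul_zero, smul_zero, add_zero, zero_add, sub_zero, zero_sub,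
      neg_zero]
    match_scalars <;> field_simp <;> ring

/-- the values at the singular vectors -/
theorem beta_mem (hY : Y ∈ W) {e : Fin k → F} (he : e ≠ 0) (hQ : frm J e e = 0) :
    (fun m => frm J e (Y m *ᵥ e) • EA J a) ∈ W := by
  obtain ⟨x, hx, c, hc, hxe⟩ := exists_moveS hd he hQ
  have hI := Sl_le_Iso hd.sym hx
  have h := W.smul_mem (c * c) (EXE_mem hd hW (hW x hx Y hY))
  convert h using 1
  funext m
  rw [Pi.smul_apply, cj_apply, EA, op_sandwich hd.sym, smul_smul]
  congr 1
  have e1 : c • Pi.single a 1 = x.val *ᵥ e := hxe.symm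
  have e2 : conjMat x (Y m) *ᵥ (x.val *ᵥ e) = x.val *ᵥ (Y m *ᵥ e) := by
    rw [conjMat_apply, ← mulVec_mulVec, cancelV, ← mulVec_mulVec]
  have e3 : c * c * frm J (Pi.single a 1) (conjMat x (Y m) *ᵥ Pi.single a 1) =
      frm J (c • Pi.single a 1) (conjMat x (Y m) *ᵥ (c • Pi.single a 1)) := by
    rw [mulVec_smul, frm_smul_left, frm_smul_right, mul_assoc]
  rw [e3, e1, e2, iso_frm hI]

omit hW

/-- vanishing at the singular vectors -/
theorem skew_of_beta {X : Matrix (Fin k) (Fin k) F}
    (h : ∀ e : Fin k → F, e ≠ 0 → frm J e e = 0 → frm J e (X *ᵥ e) = 0) :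
    ∃ c : F, X - c • 1 ∈ skew J := by
  have h2 := hd.sym.two
  set C := frm J (Pi.single a 1) (X *ᵥ (Pi.single b 1)) + frm J (Pi.single b 1) (X *ᵥ (Pi.single a 1)) with hC
  let L1 := fun w => frm J (Pi.single a 1) (X *ᵥ w) + frm J w (X *ᵥ (Pi.single a 1))
  let L2 := fun w => frm J (Pi.single b 1) (X *ᵥ w) + frm J w (X *ᵥ (Pi.single b 1))
  have hA0 : (Pi.single a 1 : Fin k → F) ≠ 0 := fun e => one_ne_zero (by simpa using congrFun e a : (1 : F) = 0)
  have hB0 : (Pi.single b 1 : Fin k → F) ≠ 0 := fun e => one_ne_zero (by simpa using congrFun e b : (1 : F) = 0)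
  have dA := h (Pi.single a 1) hA0 (frm_aa hd)
  have dB := h (Pi.single b 1) hB0 (frm_bb hd)
  have key : ∀ w ∈ mid F a b, ∀ l : F, l ≠ 0 →
      frm J w (X *ᵥ w) + l * (-frm J w w / (2 * l)) * C + l * L2 w + (-frm J w w / (2 * l)) * L1 w = 0 := by
    intro w hw l hl
    set m := -frm J w w / (2 * l) with hm
    have hne : l • (Pi.single b 1) + w + m • (Pi.single a 1) ≠ 0 := fun e => hl (by
      have := congrFun e b
      simpa [(mem_mid.1 hw).2, hd.hab.symm] using this)
    have hQ : frm J (l • (Pi.single b 1) + w + m • (Pi.single a 1)) (l • (Pi.single b 1) + w + m • (Pi.single a 1)) = 0 := by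
      simp only [frm_add_left, frm_add_right, frm_smul_left, frm_smul_right, frm_aa hd, frm_bb hd, frm_ab hd,
        frm_ba hd, frm_au hd hw, frm_bu hd hw, frm_ua hd hw, frm_ub hd hw, hm]
      field_simp
      ring
    have h1 := h _ hne hQ
    simp only [mulVec_add, mulVec_smul, frm_add_left, frm_add_right, frm_smul_left, frm_smul_right, dA, dB] at h1
    simp only [hC, L1, L2]
    linear_combination h1
  have hneg : ∀ w, L1 (-w) = -L1 w ∧ L2 (-w) = -L2 w := fun w => by
    simp only [L1, L2, mulVec_neg, frm_neg_left, frm_neg_right]; constructor <;> ring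
  have hcore : ∀ w ∈ mid F a b, 2 * frm J w (X *ᵥ w) = frm J w w * C ∧
      ∀ l : F, l ≠ 0 → 2 * l * l * L2 w = frm J w w * L1 w := by
    intro w hw
    refine ⟨?_, fun l hl => ?_⟩
    · have e1 := key w hw 1 one_ne_zero
      have e2 := key (-w) (neg_mem hw) 1 one_ne_zero
      rw [(hneg w).1, (hneg w).2, mulVec_neg, frm_neg_left, frm_neg_right, neg_neg, frm_neg_left, frm_neg_right,
        neg_neg] at e2
      field_simp at e1 e2 ⊢
      exact mul_left_cancel₀ h2 (by linear_combination e1 + e2)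
    · have e1 := key w hw l hl
      have e2 := key (-w) (neg_mem hw) l hl
      rw [(hneg w).1, (hneg w).2, mulVec_neg, frm_neg_left, frm_neg_right, neg_neg, frm_neg_left, frm_neg_right,
        neg_neg] at e2
      field_simp at e1 e2
      exact mul_left_cancel₀ h2 (by linear_combination e1 - e2)
  have hL1 : ∀ w ∈ mid F a b, L1 w = 0 := by
    by_cases hq : Nat.card F ≠ 3
    · obtain ⟨l, hl0, hl1⟩ : ∃ l : F, l ≠ 0 ∧ l * l ≠ 1 := by
        classical
        by_contra hc
        push Not at hc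
        have h5 := card_five hd hq
        have hsub : (Finset.univ : Finset F) ⊆ {0, 1, -1} := fun c _ => by
          simp only [Finset.mem_insert, Finset.mem_singleton]
          by_cases h0 : c = 0
          · exact Or.inl h0
          · exact Or.inr (mul_self_eq_one_iff.1 (hc c h0))
        have := (Finset.card_le_card hsub).trans Finset.card_le_three
        rw [Finset.card_univ] at this
        omega
      intro w hw
      refine aniso_span hd (T := LinearMap.ker ({
          toFun := L1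
          map_add' := fun x y => by simp only [L1, mulVec_add, frm_add_left, frm_add_right]; ring
          map_smul' := fun r x => by
            simp only [L1, mulVec_smul, frm_smul_left, frm_smul_right, RingHom.id_apply, smul_eq_mul]; ring
        } : (Fin k → F) →ₗ[F] F)) (fun f hf hσ => ?_) hw
      rw [LinearMap.mem_ker]
      show L1 f = 0
      have e1 := (hcore f hf).2 1 one_ne_zero
      have e2 := (hcore f hf).2 l hl0
      have h0 : (l * l - 1) * (2 * L2 f) = 0 := by linear_combination e2 - e1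
      have hL2 := (mul_eq_zero.1 ((mul_eq_zero.1 h0).resolve_left (sub_ne_zero.2 hl1))).resolve_left h2
      rw [hL2, mul_zero] at e1
      exact (mul_eq_zero.1 e1.symm).resolve_left hσ
    · have h4 := hd.big.resolve_left hq
      have step : ∀ w ∈ mid F a b, ∀ w' ∈ mid F a b,
          frm J w' w' * L1 w + 2 * frm J w w' * L1 w' = 0 := by
        intro w hw w' hw'
        have e1 := (hcore _ (add_mem hw hw')).2 1 one_ne_zero
        have e2 := (hcore _ (sub_mem hw hw')).2 1 one_ne_zero
        have e3 := (hcore _ hw).2 1 one_ne_zero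
        simp only [L1, L2, mulVec_add, mulVec_sub, frm_add_left, frm_add_right, frm_sub_left, frm_sub_right,
          frm_comm hd.sym w' w] at e1 e2 e3 ⊢
        exact mul_left_cancel₀ h2 (by linear_combination 2 * e3 - e1 - e2)
      obtain ⟨f, hf, g, hg, hgf, hσ, hρ, -⟩ := exists_plane hd h4
      have hf0 : L1 f = 0 := by
        have := step f hf g hg
        rw [frm_comm hd.sym f g, hgf, mul_zero, zero_mul, add_zero] at this
        exact (mul_eq_zero.1 this).resolve_left hρ
      intro w hw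
      have := step w hw f hf
      rw [hf0, mul_zero, add_zero] at this
      exact (mul_eq_zero.1 this).resolve_left hσ
  have hL2 : ∀ w ∈ mid F a b, L2 w = 0 := fun w hw => by
    have e1 := (hcore w hw).2 1 one_ne_zero
    rw [hL1 w hw, mul_zero, mul_one, mul_one] at e1
    exact (mul_eq_zero.1 e1).resolve_left h2
  have hD : ∀ x, frm J x (X *ᵥ x) = (2 : F)⁻¹ * C * frm J x x := by
    intro x
    set w := x - x a • (Pi.single a 1) - x b • (Pi.single b 1) with hw'
    have hw : w ∈ mid F a b := sub_pair_mem hd x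
    have ex : x = w + x a • (Pi.single a 1) + x b • (Pi.single b 1) := by rw [hw']; abel
    have e1 := hL1 w hw
    have e2 := hL2 w hw
    simp only [L1, L2] at e1 e2
    rw [ex]
    simp only [mulVec_add, mulVec_smul, frm_add_left, frm_add_right, frm_smul_left, frm_smul_right, dA, dB,
      frm_aa hd, frm_bb hd, frm_ab hd, frm_ba hd, frm_au hd hw, frm_bu hd hw, frm_ua hd hw,
      frm_ub hd hw] at e1 e2 ⊢
    simp only [hC]
    field_simp
    linear_combination (2 * x a) * e1 + (2 * x b) * e2 + (hcore w hw).1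
  refine ⟨(2 : F)⁻¹ * C, (mem_skew_frm hd.sym).2 fun x y => ?_⟩
  have hxy := hD (x + y)
  simp only [mulVec_add, frm_add_left, frm_add_right, hD, frm_comm hd.sym (X *ᵥ x) y, frm_comm hd.sym y x] at hxy
  rw [sub_mulVec, sub_mulVec, smul_mulVec, smul_mulVec, one_mulVec, one_mulVec, frm_sub_left, frm_sub_right,
    frm_smul_left, frm_smul_right, frm_comm hd.sym (X *ᵥ x) y]
  linear_combination hxy

/-- skew operators commuting with the root group -/
theorem skew_fixed {X : Matrix (Fin k) (Fin k) F} (hX : X ∈ skew J) (hE : EA J a * X = X * EA J a)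
    (hN : ∀ u ∈ mid F a b, Qm J u (Pi.single a 1) * X = X * Qm J u (Pi.single a 1)) :
    ∃ g ∈ mid F a b, X = Qm J (Pi.single a 1) g := by
  have h2 := hd.sym.two
  have hs := (mem_skew_frm hd.sym).1 hX
  have hXA : X *ᵥ (Pi.single a 1) = frm J (Pi.single a 1) (X *ᵥ (Pi.single b 1)) • (Pi.single a 1) := by
    have := congrArg (fun M => M *ᵥ (Pi.single b 1)) hE
    simp only [← mulVec_mulVec, EA, op_mulVec hd.sym, frm_ab hd, one_smul] at this
    exact this.symm
  have hμ : frm J (Pi.single a 1) (X *ᵥ (Pi.single b 1)) = 0 := by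
    have := hs (Pi.single a 1) (Pi.single b 1)
    rw [hXA, frm_smul_left, frm_ab hd, mul_one, eq_neg_iff_add_eq_zero, ← two_mul] at this
    exact (mul_eq_zero.1 this).resolve_left h2
  rw [hμ, zero_smul] at hXA
  have hga : (X *ᵥ (Pi.single b 1)) a = 0 := by
    have h1 := hs (Pi.single b 1) (Pi.single b 1)
    rw [frm_comm hd.sym (X *ᵥ (Pi.single b 1)), eq_neg_iff_add_eq_zero, ← two_mul] at h1
    have := (mul_eq_zero.1 h1).resolve_left h2
    rwa [frm_b hd] at this
  have hg : -(X *ᵥ (Pi.single b 1)) ∈ mid F a b := neg_mem (mem_mid.2 ⟨hga, (frm_a hd _).symm.trans hμ⟩)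
  refine ⟨_, hg, Matrix.ext_iff_mulVec.2 fun v => ?_⟩
  set w := v - v a • (Pi.single a 1) - v b • (Pi.single b 1) with hw'
  have hw : w ∈ mid F a b := sub_pair_mem hd v
  have hXw : X *ᵥ w = frm J (-(X *ᵥ (Pi.single b 1))) w • (Pi.single a 1) := by
    have := congrArg (fun M => M *ᵥ (Pi.single b 1)) (hN w hw)
    simp only [← mulVec_mulVec, Qm_mulVec hd.sym, hμ, frm_ab hd, frm_ub hd hw, zero_smul, zero_sub,
      one_smul, sub_zero] at this
    rw [← this, frm_neg_left, frm_comm hd.sym w, neg_smul]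
  have ev : v = w + v a • (Pi.single a 1) + v b • (Pi.single b 1) := by rw [hw']; abel
  rw [ev]
  simp only [mulVec_add, mulVec_smul, Qm_mulVec hd.sym, frm_add_right, frm_smul_right, hXA, hXw, frm_aa hd, frm_ab hd, frm_au hd hw,
    frm_ua hd hg, frm_ub hd hg, smul_zero, zero_smul, sub_zero, add_zero]
  module

end Cfsg.Agent.TensorWreath.Or
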