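import Cfsg.Agent.Lib.Forms.Max.TensorWreath.Orth.NonTame

/-!
# Products of flipped pattern values
-/

set_option autoImplicit false
set_option linter.unusedSectionVars false
set_option linter.unusedSimpArgs false

namespace Cfsg.Agent.TensorWreath.Or

open Matrix Cfsg.Agent.Aschbacher

variable {F : Type*} [Field F] {k t : ℕ} {J : Matrix (Fin k) (Fin k) F} {a b : Fin k}

theorem slf_frm (hS : Sym J) {X : Matrix (Fin k) (Fin k) F} (h : X ∈ slf J) (x y : Fin k → F) :
    frm J x (X *ᵥ y) = frm J (X *ᵥ x) y := by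
  rw [frm, mulVec_mulVec, dotProduct_mulVec, ← mulVec_transpose, mem_slf.1 h, ← mulVec_mulVec, dotProduct_comm, ← frm,
    frm_comm hS]

theorem skew_diag (hS : Sym J) {X : Matrix (Fin k) (Fin k) F} (h : X ∈ skew J) (e : Fin k → F) :
    frm J e (X *ᵥ e) = 0 := by
  have h1 := (mem_skew_frm hS).1 h e e
  rw [frm_comm hS (X *ᵥ e) e, eq_neg_iff_add_eq_zero, ← two_mul] at h1
  exact (mul_eq_zero.1 h1).resolve_left hS.two

theorem op_skew_op (hS : Sym J) {X : Matrix (Fin k) (Fin k) F} (h : X ∈ skew J) (e : Fin k → F) :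
    op J e e * X * op J e e = 0 := by rw [op_sandwich hS, skew_diag hS h, zero_smul]

theorem val_swap_skew (hS : Sym J) {X Y : Matrix (Fin k) (Fin k) F} (hX : X ∈ skew J) (hY : Y ∈ skew J)
    (e : Fin k → F) : frm J e ((Y * X) *ᵥ e) = frm J e ((X * Y) *ᵥ e) := by
  rw [← mulVec_mulVec, ← mulVec_mulVec, (mem_skew_frm hS).1 hX, (mem_skew_frm hS).1 hY, frm_comm hS (Y *ᵥ e)]

theorem val_swap_slf (hS : Sym J) {X Y : Matrix (Fin k) (Fin k) F} (hX : X ∈ slf J) (hY : Y ∈ slf J)
    (e : Fin k → F) : frm J e ((Y * X) *ᵥ e) = frm J e ((X * Y) *ᵥ e) := by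
  rw [← mulVec_mulVec, ← mulVec_mulVec, slf_frm hS hX, slf_frm hS hY, frm_comm hS (Y *ᵥ e)]

theorem val_swap_mixed (hS : Sym J) {X Y : Matrix (Fin k) (Fin k) F} (hX : X ∈ slf J) (hY : Y ∈ skew J)
    (e : Fin k → F) : frm J e ((Y * X) *ᵥ e) = -frm J e ((X * Y) *ᵥ e) := by
  rw [← mulVec_mulVec, ← mulVec_mulVec, slf_frm hS hX, (mem_skew_frm hS).1 hY, frm_comm hS (Y *ᵥ e)]

/-- invariance under the slot groups -/
def InvS (hS : Sym J) (W : Submodule F (Matrix (Fin t → Fin k) (Fin t → Fin k) F)) : Prop :=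
  ∀ (j : Fin t), ∀ x ∈ Sl hS, ∀ Y ∈ W, conjMat (sgl j x) Y ∈ W

theorem conj_putL (j : Fin t) (x : GL (Fin k) F) (T : Fin t → Matrix (Fin k) (Fin k) F) (X : Matrix (Fin k) (Fin k) F) :
    conjMat (sgl j x) (putL j T X) = putL j T (conjMat x X) := by
  show conjMat (sgl j x) (pureTensor _) = pureTensor _
  rw [conj_sgl_pure, Function.update_self, Function.update_idem]

theorem putL_update (j : Fin t) (T : Fin t → Matrix (Fin k) (Fin k) F) (X : Matrix (Fin k) (Fin k) F) :
    putL j T X = pureTensor (Function.update T j X) := rfl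

variable [Fintype F] (hd : Hyp J a b)
include hd

theorem pair_val {X Z : Matrix (Fin k) (Fin k) F}
    (h : (X = EA J a ∧ Z = EA J a) ∨ ∃ f ∈ mid F a b, ∃ g ∈ mid F a b,
      frm J f f ≠ 0 ∧ frm J g g ≠ 0 ∧ X = Qm J (Pi.single a 1) f ∧ Z = Qm J (Pi.single a 1) g) :
    ∃ x ∈ Sl hd.sym, ∃ (e : Fin k → F) (v : F), e ≠ 0 ∧ frm J e e = 0 ∧ v ≠ 0 ∧
      frm J e ((X * conjMat x Z) *ᵥ e) = v ∧ frm J e ((conjMat x Z * X) *ᵥ e) = v := by
  have h2 := hd.sym.two
  have hne : ∀ {m : Fin k → F} (_ : m ∈ mid F a b) (c : F), Pi.single b 1 + m + c • Pi.single a 1 ≠ 0 := fun hm c e =>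
    one_ne_zero (by simpa [(mem_mid.1 hm).2, hd.hab.symm] using congrFun e b : (1 : F) = 0)
  have hiso : ∀ {m : Fin k → F} (_ : m ∈ mid F a b),
      frm J (Pi.single b 1 + m + (-((2 : F)⁻¹ * frm J m m)) • Pi.single a 1)
        (Pi.single b 1 + m + (-((2 : F)⁻¹ * frm J m m)) • Pi.single a 1) = 0 := by
    intro m hm
    simp only [frm_add_left, frm_add_right, frm_smul_left, frm_smul_right, frm_aa hd, frm_bb hd, frm_ab hd,
      frm_ba hd, frm_au hd hm, frm_bu hd hm, frm_ua hd hm, frm_ub hd hm]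
    field_simp
    ring
  rcases h with ⟨rfl, rfl⟩ | ⟨f, hf, g, hg, hσ, hρ, rfl, rfl⟩
  · obtain ⟨f, hf, hσ⟩ := exists_aniso hd
    obtain ⟨x, hx, xa, -, -⟩ := exists_flip hd hf hσ
    refine ⟨x, hx, _, (-2 / frm J f f) * (-2 / frm J f f) * (-((2 : F)⁻¹ * frm J f f)), hne hf _, hiso hf,
      mul_ne_zero (mul_ne_zero (div_ne_zero (neg_ne_zero.2 h2) hσ) (div_ne_zero (neg_ne_zero.2 h2) hσ))
        (neg_ne_zero.2 (mul_ne_zero (inv_ne_zero h2) hσ)), ?_, ?_⟩
    all_goals
      simp only [EA, conj_op (Sl_le_Iso hd.sym hx), xa, op_smul_left, op_smul_right, smul_smul, mul_smul_comm,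
        smul_mul_assoc, op_mul hd.sym, frm_ab hd, frm_ba hd, one_smul, smul_mulVec, op_mulVec hd.sym, frm_smul_right,
        frm_smul_left, frm_add_left, frm_add_right, frm_aa hd, frm_bb hd, frm_au hd hf, frm_bu hd hf, frm_ua hd hf,
        frm_ub hd hf]
      ring
  · obtain ⟨x, hx, xa, -, xm⟩ := exists_flip hd hg hρ
    have hxg : x.val *ᵥ g = -g := by
      rw [xm g hg, mul_div_assoc, div_self hρ]; module
    obtain ⟨m, hm, hval⟩ : ∃ m ∈ mid F a b,
        (2 : F)⁻¹ * frm J f g * frm J m m - frm J m f * frm J m g ≠ 0 := by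
      by_cases hc : frm J f g = 0
      · refine ⟨f + g, add_mem hf hg, ?_⟩
        simp only [frm_add_left, hc, frm_comm hd.sym g f, mul_zero, zero_mul, add_zero, zero_add, zero_sub]
        exact neg_ne_zero.2 (mul_ne_zero hσ hρ)
      · refine ⟨f, hf, ?_⟩
        rw [show (2 : F)⁻¹ * frm J f g * frm J f f - frm J f f * frm J f g = -((2 : F)⁻¹ * frm J f g * frm J f f) by
          field_simp; ring]
        exact neg_ne_zero.2 (mul_ne_zero (mul_ne_zero (inv_ne_zero h2) hc) hσ)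
    have hc0 : -(-2 / frm J g g) ≠ 0 := neg_ne_zero.2 (div_ne_zero (neg_ne_zero.2 h2) hρ)
    have hfirst : frm J (Pi.single b 1 + m + (-((2 : F)⁻¹ * frm J m m)) • Pi.single a 1)
        ((Qm J (Pi.single a 1) f * conjMat x (Qm J (Pi.single a 1) g)) *ᵥ
          (Pi.single b 1 + m + (-((2 : F)⁻¹ * frm J m m)) • Pi.single a 1)) =
        -(-2 / frm J g g) * ((2 : F)⁻¹ * frm J f g * frm J m m - frm J m f * frm J m g) := by
      rw [conj_Qm (Sl_le_Iso hd.sym hx), xa, hxg]
      simp only [Qm, op_neg_left, op_neg_right, op_smul_left, op_smul_right, sub_mul, mul_sub, mul_smul_comm,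
        smul_mul_assoc, mul_neg, neg_mul, op_mul hd.sym, frm_ab hd, frm_au hd hg, frm_ub hd hf, zero_smul, smul_zero,
        neg_zero, one_smul, sub_mulVec, smul_mulVec, neg_mulVec, zero_mulVec, op_mulVec hd.sym, frm_sub_right,
        frm_smul_right, frm_neg_right, frm_zero_right, frm_add_left, frm_smul_left, frm_add_right, frm_aa hd, frm_bb hd,
        frm_ba hd, frm_au hd hm, frm_bu hd hm, frm_ua hd hm, frm_ub hd hm, frm_ua hd hf, frm_ua hd hg, frm_ub hd hg,
        frm_au hd hf, frm_bu hd hf, frm_bu hd hg, frm_comm hd.sym f m, frm_comm hd.sym g m]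
      field_simp
      ring
    refine ⟨x, hx, _, _, hne hm _, hiso hm, mul_ne_zero hc0 hval, hfirst, ?_⟩
    rw [val_swap_skew hd.sym (Qm_skew hd.sym _ _) (conj_skew (Sl_le_Iso hd.sym hx) (Qm_skew hd.sym _ _)), hfirst]

theorem mixed_val {g : Fin k → F} (hg : g ∈ mid F a b) (hρ : frm J g g ≠ 0) :
    ∃ x ∈ Sl hd.sym, ∃ (r : F), r ≠ 0 ∧
      EA J a * conjMat x (Qm J (Pi.single a 1) g) = r • op J (Pi.single a 1) g ∧
      conjMat x (Qm J (Pi.single a 1) g) * EA J a = (-r) • op J g (Pi.single a 1) ∧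
      ∃ (e : Fin k → F) (v : F), e ≠ 0 ∧ frm J e e = 0 ∧ v ≠ 0 ∧
        frm J e ((EA J a * conjMat x (Qm J (Pi.single a 1) g)) *ᵥ e) = v ∧
        frm J e ((conjMat x (Qm J (Pi.single a 1) g) * EA J a) *ᵥ e) = -v := by
  have h2 := hd.sym.two
  obtain ⟨x, hx, xa, -, xm⟩ := exists_flip hd hg hρ
  have hxg : x.val *ᵥ g = -g := by
    rw [xm g hg, mul_div_assoc, div_self hρ]; module
  set r := -(-2 / frm J g g) with hr
  have hr0 : r ≠ 0 := neg_ne_zero.2 (div_ne_zero (neg_ne_zero.2 h2) hρ)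
  have hc : conjMat x (Qm J (Pi.single a 1) g) = r • Qm J (Pi.single b 1) g := by
    rw [conj_Qm (Sl_le_Iso hd.sym hx), xa, hxg, ← neg_one_smul F g, Qm_smul_right, Qm_smul_left, smul_smul,
      neg_one_mul]
  have e1 : EA J a * conjMat x (Qm J (Pi.single a 1) g) = r • op J (Pi.single a 1) g := by
    rw [hc, mul_smul_comm, Qm, EA, mul_sub, op_mul hd.sym, op_mul hd.sym, frm_ab hd, frm_au hd hg, one_smul, zero_smul,
      sub_zero]
  have e2 : conjMat x (Qm J (Pi.single a 1) g) * EA J a = (-r) • op J g (Pi.single a 1) := by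
    rw [hc, smul_mul_assoc, Qm, EA, sub_mul, op_mul hd.sym, op_mul hd.sym, frm_ba hd, frm_ua hd hg, one_smul, zero_smul,
      zero_sub, smul_neg]
    module
  refine ⟨x, hx, r, hr0, e1, e2, Pi.single b 1 + g + (-((2 : F)⁻¹ * frm J g g)) • Pi.single a 1, r * frm J g g,
    fun e => one_ne_zero (by simpa [(mem_mid.1 hg).2, hd.hab.symm] using congrFun e b : (1 : F) = 0), ?_,
    mul_ne_zero hr0 hρ, ?_, ?_⟩
  · simp only [frm_add_left, frm_add_right, frm_smul_left, frm_smul_right, frm_aa hd, frm_bb hd, frm_ab hd,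
      frm_ba hd, frm_au hd hg, frm_bu hd hg, frm_ua hd hg, frm_ub hd hg]
    field_simp
    ring
  · rw [e1, smul_mulVec, op_mulVec hd.sym]
    simp only [frm_smul_right, frm_add_left, frm_add_right, frm_smul_left, frm_aa hd, frm_bb hd, frm_ab hd,
      frm_ba hd, frm_au hd hg, frm_bu hd hg, frm_ua hd hg, frm_ub hd hg]
    ring
  · rw [e2, smul_mulVec, op_mulVec hd.sym]
    simp only [frm_smul_right, frm_add_left, frm_add_right, frm_smul_left, frm_aa hd, frm_bb hd, frm_ab hd,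
      frm_ba hd, frm_au hd hg, frm_bu hd hg, frm_ua hd hg, frm_ub hd hg]
    ring

/-- the values at a singular vector in one slot of a combination of two pure tensors -/
theorem beta2 {W : Submodule F (Matrix (Fin t → Fin k) (Fin t → Fin k) F)} (hW : InvS hd.sym W) (j : Fin t)
    {T T' : Fin t → Matrix (Fin k) (Fin k) F} {s : F} (h : pureTensor T + s • pureTensor T' ∈ W)
    {e : Fin k → F} (he : e ≠ 0) (hQ : frm J e e = 0) :
    frm J e (T j *ᵥ e) • pureTensor (Function.update T j (EA J a)) +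
      (s * frm J e (T' j *ᵥ e)) • pureTensor (Function.update T' j (EA J a)) ∈ W := by
  let Φ : (Fin 2 → Matrix (Fin k) (Fin k) F) →ₗ[F] Matrix (Fin t → Fin k) (Fin t → Fin k) F :=
    (putL j T).comp (LinearMap.proj 0) + s • (putL j T').comp (LinearMap.proj 1)
  have hΦ : ∀ Y, Φ Y = putL j T (Y 0) + s • putL j T' (Y 1) := fun Y => rfl
  have hinv : Inv hd.sym (W.comap Φ) := fun x hx Y hY => by
    have := hW j x hx _ hY
    rw [Submodule.mem_comap, hΦ]
    rwa [hΦ, map_add, map_smul, conj_putL, conj_putL] at this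
  have hY : ![T j, T' j] ∈ W.comap Φ := by
    rw [Submodule.mem_comap, hΦ]
    simpa [putL_self] using h
  have h1 := beta_mem hd hinv hY he hQ
  rw [Submodule.mem_comap, hΦ] at h1
  simpa [smul_smul, putL_update] using h1

/-- the values in a set of slots -/
theorem collapse {W : Submodule F (Matrix (Fin t → Fin k) (Fin t → Fin k) F)} (hW : InvS hd.sym W)
    (T T' : Fin t → Matrix (Fin k) (Fin k) F) (ε : Fin t → F) (S : Finset (Fin t))
    (hS : ∀ i ∈ S, ∃ (e : Fin k → F) (v : F), e ≠ 0 ∧ frm J e e = 0 ∧ v ≠ 0 ∧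
      frm J e (T i *ᵥ e) = v ∧ frm J e (T' i *ᵥ e) = ε i * v) (s : F)
    (h : pureTensor T + s • pureTensor T' ∈ W) :
    pureTensor (fun i => if i ∈ S then EA J a else T i) +
      (s * ∏ i ∈ S, ε i) • pureTensor (fun i => if i ∈ S then EA J a else T' i) ∈ W := by
  classical
  induction S using Finset.induction with
  | empty => simpa using h
  | insert i S hi ih =>
    obtain ⟨e, v, he, hQ, hv, e1, e2⟩ := hS i (Finset.mem_insert_self _ _)
    have h1 := beta2 hd hW i (ih fun l hl => hS l (Finset.mem_insert_of_mem hl)) he hQ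
    simp only [hi, if_false, e1, e2] at h1
    have hu : ∀ U : Fin t → Matrix (Fin k) (Fin k) F,
        Function.update (fun l => if l ∈ S then EA J a else U l) i (EA J a) =
          fun l => if l ∈ insert i S then EA J a else U l := by
      intro U
      funext l
      rcases eq_or_ne l i with rfl | hl
      · simp
      · simp [Function.update_of_ne hl, hl]
    rw [hu, hu] at h1
    refine (Submodule.smul_mem_iff _ hv).1 ?_
    convert h1 using 1
    rw [smul_add, smul_smul, Finset.prod_insert hi]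
    congr 2
    ring

end Cfsg.Agent.TensorWreath.Or
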