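import Cfsg.Agent.Lib.Forms.Max.TensorWreath.Orth.Extract

/-!
# One corner element gives a space of corners
-/

set_option autoImplicit false
set_option linter.unusedSectionVars false
set_option linter.unusedSimpArgs false

namespace Cfsg.Agent.TensorWreath.Or

open Matrix Cfsg.Agent.Aschbacher

variable {F : Type*} [Field F] {k t : ℕ} {J : Matrix (Fin k) (Fin k) F} {a b : Fin k}

/-- replacing one slot of a pure tensor -/
def putL (j : Fin t) (T : Fin t → Matrix (Fin k) (Fin k) F) :
    Matrix (Fin k) (Fin k) F →ₗ[F] Matrix (Fin t → Fin k) (Fin t → Fin k) F where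
  toFun X := pureTensor (Function.update T j X)
  map_add' X Y := by
    classical
    ext p q
    simp only [pureTensor_apply, Matrix.add_apply]
    rw [← Finset.mul_prod_erase _ _ (Finset.mem_univ j), ← Finset.mul_prod_erase _ _ (Finset.mem_univ j),
      ← Finset.mul_prod_erase _ _ (Finset.mem_univ j), Function.update_self, Function.update_self, Function.update_self,
      Matrix.add_apply, add_mul]
    congr 1 <;> refine congrArg _ (Finset.prod_congr rfl fun i hi => ?_) <;>
      rw [Function.update_of_ne (Finset.ne_of_mem_erase hi), Function.update_of_ne (Finset.ne_of_mem_erase hi)]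
  map_smul' c X := by
    classical
    ext p q
    simp only [pureTensor_apply, Matrix.smul_apply, RingHom.id_apply, smul_eq_mul]
    rw [← Finset.mul_prod_erase _ _ (Finset.mem_univ j), ← Finset.mul_prod_erase _ _ (Finset.mem_univ j),
      Function.update_self, Function.update_self, Matrix.smul_apply, smul_eq_mul, mul_assoc]
    congr 2
    exact Finset.prod_congr rfl fun i hi => by
      rw [Function.update_of_ne (Finset.ne_of_mem_erase hi), Function.update_of_ne (Finset.ne_of_mem_erase hi)]

theorem putL_self (j : Fin t) (T : Fin t → Matrix (Fin k) (Fin k) F) : putL j T (T j) = pureTensor T :=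
  show pureTensor (Function.update T j (T j)) = _ by rw [Function.update_eq_self]

theorem S_mul_putL (j : Fin t) (T : Fin t → Matrix (Fin k) (Fin k) F) (z X : Matrix (Fin k) (Fin k) F) :
    S j z * putL j T X = putL j T (z * X) := by
  show S j z * pureTensor _ = pureTensor _
  rw [slotHom_apply, ← map_mul]
  congr 1
  funext i
  rcases eq_or_ne i j with rfl | hi
  · simp
  · simp [Pi.mulSingle_eq_of_ne hi, Function.update_of_ne hi]

theorem putL_mul_S (j : Fin t) (T : Fin t → Matrix (Fin k) (Fin k) F) (z X : Matrix (Fin k) (Fin k) F) :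
    putL j T X * S j z = putL j T (X * z) := by
  show pureTensor _ * S j z = pureTensor _
  rw [slotHom_apply, ← map_mul]
  congr 1
  funext i
  rcases eq_or_ne i j with rfl | hi
  · simp
  · simp [Pi.mulSingle_eq_of_ne hi, Function.update_of_ne hi]

theorem putL_ne_zero {j : Fin t} {T : Fin t → Matrix (Fin k) (Fin k) F} (hT : ∀ i, T i ≠ 0)
    {X : Matrix (Fin k) (Fin k) F} (hX : X ≠ 0) : putL j T X ≠ 0 := by
  classical
  have h' : ∀ i, ∃ p q, Function.update T j X i p q ≠ 0 := fun i => by
    by_contra hc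
    push Not at hc
    rcases eq_or_ne i j with rfl | hi
    · exact hX (by simpa using Matrix.ext (N := 0) hc)
    · exact hT i (by simpa [Function.update_of_ne hi] using Matrix.ext (N := 0) hc)
  choose p q hpq using h'
  intro e
  have := congrFun (congrFun e p) q
  rw [Matrix.zero_apply] at this
  change pureTensor (Function.update T j X) p q = 0 at this
  rw [pureTensor_apply] at this
  exact Finset.prod_ne_zero_iff.2 (fun i _ => hpq i) this

/-- the quadratic part of the conjugation by the Siegel elements along `u` -/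
noncomputable def sec (J : Matrix (Fin k) (Fin k) F) (a : Fin k) (j : Fin t) (u : Fin k → F) :
    Matrix (Fin t → Fin k) (Fin t → Fin k) F →ₗ[F] Matrix (Fin t → Fin k) (Fin t → Fin k) F :=
  (-((2 : F)⁻¹ * frm J u u)) • (LinearMap.mulLeft F (S j (EA J a)) + LinearMap.mulRight F (S j (EA J a))) -
    (LinearMap.mulLeft F (S j (Qm J u (Pi.single a 1)))).comp (LinearMap.mulRight F (S j (Qm J u (Pi.single a 1))))

theorem sec_apply (j : Fin t) (u : Fin k → F) (X : Matrix (Fin t → Fin k) (Fin t → Fin k) F) :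
    sec J a j u X = (-((2 : F)⁻¹ * frm J u u)) • (S j (EA J a) * X + X * S j (EA J a)) -
      S j (Qm J u (Pi.single a 1)) * (X * S j (Qm J u (Pi.single a 1))) := rfl

theorem sec_putL (j : Fin t) (u : Fin k → F) (T : Fin t → Matrix (Fin k) (Fin k) F) (X : Matrix (Fin k) (Fin k) F) :
    sec J a j u (putL j T X) = putL j T ((-((2 : F)⁻¹ * frm J u u)) • (EA J a * X + X * EA J a) -
      Qm J u (Pi.single a 1) * (X * Qm J u (Pi.single a 1))) := by
  rw [sec_apply, S_mul_putL, putL_mul_S, putL_mul_S, S_mul_putL, map_sub, map_smul, map_add]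

variable [Fintype F] (hd : Hyp J a b)
include hd

theorem sec_pat {X : Matrix (Fin k) (Fin k) F}
    (hX : X = EA J a ∨ ∃ f ∈ mid F a b, frm J f f ≠ 0 ∧ X = Qm J (Pi.single a 1) f) :
    ∃ x ∈ Sl hd.sym, ∃ u ∈ mid F a b, (-((2 : F)⁻¹ * frm J u u)) • (EA J a * conjMat x X + conjMat x X * EA J a) -
      Qm J u (Pi.single a 1) * (conjMat x X * Qm J u (Pi.single a 1)) ≠ 0 := by
  have h2 := hd.sym.two
  rcases hX with rfl | ⟨f, hf, hσ, rfl⟩
  · obtain ⟨f, hf, hσ⟩ := exists_aniso hd
    obtain ⟨x, hx, xa, -, -⟩ := exists_flip hd hf hσ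
    refine ⟨x, hx, f, hf, fun e => ?_⟩
    have hne : (-2 / frm J f f) ≠ 0 := div_ne_zero (neg_ne_zero.2 h2) hσ
    have hf0 : f ≠ 0 := fun e => hσ (by rw [e, frm_zero_left])
    rw [EA, conj_op (Sl_le_Iso hd.sym hx), xa] at e
    simp only [op_smul_left, op_smul_right, Qm, smul_mul_assoc, mul_smul_comm, mul_sub, sub_mul, neg_mul, mul_neg, neg_neg, op_mul hd.sym,
      frm_aa hd, frm_ab hd, frm_ba hd, frm_au hd hf, frm_ua hd hf, frm_bu hd hf, frm_ub hd hf, one_smul, zero_smul,
      smul_zero, sub_zero, zero_sub, smul_smul] at e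
    have h := congrArg (fun M => M *ᵥ f) e
    simp [sub_mulVec, add_mulVec, neg_mulVec, smul_mulVec, op_mulVec hd.sym, frm_aa hd, frm_au hd hf, frm_bu hd hf,
      hne, hσ, hf0] at h
  · obtain ⟨x, hx, xa, -, xm⟩ := exists_flip hd hf hσ
    refine ⟨x, hx, f, hf, fun e => ?_⟩
    have hne : (-2 / frm J f f) ≠ 0 := div_ne_zero (neg_ne_zero.2 h2) hσ
    have hxf : x.val *ᵥ f = -f := by
      rw [xm f hf, mul_div_assoc, div_self hσ]; module
    rw [conj_Qm (Sl_le_Iso hd.sym hx), xa, hxf] at e
    simp only [EA, Qm, op_neg_left, op_neg_right, op_smul_left, op_smul_right, smul_mul_assoc, mul_smul_comm, mul_sub,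
      sub_mul, neg_mul, mul_neg, op_mul hd.sym, frm_aa hd, frm_bb hd, frm_ab hd, frm_ba hd, frm_au hd hf, frm_ua hd hf,
      frm_bu hd hf, frm_ub hd hf, one_smul, zero_smul, smul_zero, sub_zero, zero_sub, smul_smul, neg_neg, neg_zero] at e
    have h := congrArg (fun M => frm J (M *ᵥ Pi.single b 1) f) e
    simp only [sub_mulVec, add_mulVec, neg_mulVec, smul_mulVec, op_mulVec hd.sym, zero_mulVec, frm_sub_left,
      frm_add_left, frm_neg_left, frm_smul_left, frm_zero_left, frm_aa hd, frm_bb hd, frm_ab hd, frm_au hd hf,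
      frm_bu hd hf, frm_ub hd hf, frm_ba hd, mul_zero, mul_one, sub_zero, zero_sub, add_zero, zero_add] at h
    field_simp at h
    ring_nf at h
    simp [hσ, h2] at h

variable {G : Subgroup (GL (Fin (t + 1) → Fin k) F)}

theorem IsCorner.neg {B : Matrix (Fin t → Fin k) (Fin t → Fin k) F} (h : IsCorner J a G B) : IsCorner J a G (-B) := by
  obtain ⟨g, hg, hgv⟩ := h
  refine ⟨g⁻¹, inv_mem hg, Units.inv_eq_of_mul_eq_one_right ?_⟩
  rw [hgv, map_neg, mul_neg, add_mul, one_mul, mul_add, mul_one, mul_neg, corner_sq hd]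
  abel

theorem IsCorner.quart (hG : Over J G) {B : Matrix (Fin t → Fin k) (Fin t → Fin k) F} (h : IsCorner J a G B)
    {l : F} (hl : l ≠ 0) : IsCorner J a G ((l * l * (l * l)) • B) := by
  obtain ⟨x, hx, xa, -, -⟩ := exists_torus hd hl
  obtain ⟨e, he, hev⟩ := h
  have h2 : 2 ≤ k := by have := hd.hk; omega
  refine ⟨sgl 0 x * e * (sgl 0 x)⁻¹, mul_mem (mul_mem (hG.slot h2 0 hx) he) (inv_mem (hG.slot h2 0 hx)), ?_⟩
  rw [← conjMat_units, hev, map_add, map_one, map_mul (conjMat (sgl 0 x)), conj_sgl_S0,
    show conjMat (sgl (0 : Fin (t + 1)) x) (lift B) = lift B from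
      (conjMat_eq_iff_mul ..).2 (by rw [sgl_coe]; exact S0_lift_comm _ _),
    EA, conj_op (Sl_le_Iso hd.sym hx), xa, op_smul_left, op_smul_right, smul_smul, map_smul, map_smul,
    smul_mul_assoc, mul_smul_comm]

/-- a non-zero corner element gives non-zero corners -/
theorem corners_of_raw (hG : Over J G) {B : Matrix (Fin t → Fin k) (Fin t → Fin k) F} (h : IsCorner J a G B)
    (hB0 : B ≠ 0) : ∃ C ∈ corners hd G, C ≠ 0 := by
  classical
  by_cases h4 : 4 ≤ k
  · exact ⟨B, corners_of_four hd hG h4 h, hB0⟩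
  have hk3 : k = 3 := by have := hd.hk; omega
  have hq : Nat.card F ≠ 3 := fun e => h4 (hd.big.resolve_left (not_not.2 e))
  have h5 := card_five hd hq
  have h2 := hd.sym.two
  obtain ⟨l, hl0, hl1⟩ : ∃ l : F, l ≠ 0 ∧ l * l ≠ 1 := by
    by_contra hc
    push Not at hc
    have hsub : (Finset.univ : Finset F) ⊆ {0, 1, -1} := fun c _ => by
      simp only [Finset.mem_insert, Finset.mem_singleton]
      by_cases h0 : c = 0
      · exact Or.inl h0
      · exact Or.inr (mul_self_eq_one_iff.1 (hc c h0))
    have := (Finset.card_le_card hsub).trans Finset.card_le_three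
    rw [Finset.card_univ] at this
    omega
  by_contra hC
  push Not at hC
  -- all quadratic parts vanish
  let W : Submodule F (Unit → Matrix (Fin t → Fin k) (Fin t → Fin k) F) :=
    ⨅ (j : Fin t), ⨅ (x : Sl hd.sym), ⨅ (u : mid F a b),
      LinearMap.ker ((sec J a j u.1).comp ((conjMat (sgl j x.1)).toLinearMap.comp (LinearMap.proj ())))
  have hW : ∀ {Y}, Y ∈ W ↔ ∀ j, ∀ x ∈ Sl hd.sym, ∀ u ∈ mid F a b, sec J a j u (conjMat (sgl j x) (Y ())) = 0 := by
    intro Y; simp [W]
  have hBW : (fun _ : Unit => B) ∈ W := by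
    refine hW.2 fun j x hx u hu => ?_
    have hX : IsCorner J a G (conjMat (sgl j x) B) := IsCorner.conj hd (slot_normal hd hG j hx) h
    set X := conjMat (sgl j x) B
    set M := sec J a j u X with hM
    set P := S j (EA J a) * X * S j (EA J a) with hP
    have hR : ∀ c : F, IsCorner J a G ((2 * (c * c)) • M +
        (2 * (c * c * (c * c)) * ((2 : F)⁻¹ * frm J u u) * ((2 : F)⁻¹ * frm J u u)) • P) := by
      intro c
      have hp := IsCorner.conj hd (slot_normal hd hG j (sg_mem_Sl hd.sym (frm_aa hd)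
        (frm_au hd (Submodule.smul_mem _ c hu)))) hX
      have hn := IsCorner.conj hd (slot_normal hd hG j (sg_mem_Sl hd.sym (frm_aa hd)
        (frm_au hd (Submodule.smul_mem _ (-c) hu)))) hX
      have := IsCorner.add hd (IsCorner.add hd hp hn) (IsCorner.neg hd (IsCorner.add hd hX hX))
      convert this using 1
      rw [conjMat_apply, conjMat_apply, ← map_inv, ← map_inv, sgl_coe, sgl_coe, sgl_coe, sgl_coe, sg_inv, sg_inv, sg_coe, sg_coe,
        sg_coe, sg_coe, hM, hP, sec_apply]
      simp only [sgN, Qm_smul_left, frm_smul_left, frm_smul_right, neg_smul, smul_smul, ← neg_smul, map_add, map_sub,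
        map_one, map_smul, mul_add, add_mul, one_mul, mul_one, mul_sub, sub_mul, smul_mul_assoc, mul_smul_comm,
        Matrix.mul_assoc, smul_sub, smul_add, frm_neg_left, frm_neg_right]
      match_scalars <;> ring
    have key : ∀ r : F, IsCorner J a G ((r * r * (2 * (l * l * (l * l) - l * l))) • M) := by
      intro r
      have := IsCorner.add hd (IsCorner.quart hd hG (hR r) hl0) (IsCorner.neg hd (hR (l * r)))
      convert this using 1
      rw [smul_add, smul_smul, smul_smul]
      match_scalars <;> ring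
    have hne : 2 * (l * l * (l * l) - l * l) ≠ 0 := by
      rw [show l * l * (l * l) - l * l = l * l * (l * l - 1) by ring]
      exact mul_ne_zero h2 (mul_ne_zero (mul_ne_zero hl0 hl0) (sub_ne_zero.2 hl1))
    exact hC M fun c => by
      obtain ⟨r, s, hrs⟩ := exists_sq_sub hd (c / (2 * (l * l * (l * l) - l * l)))
      have e := IsCorner.add hd (key r) (IsCorner.neg hd (key s))
      rwa [← neg_smul, ← add_smul, ← sub_eq_add_neg, ← sub_mul, ← hrs, div_mul_cancel₀ _ hne] at e
  have hWi : InvT hd.sym W := by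
    intro i y hy Y hY
    refine hW.2 fun j x hx u hu => ?_
    rw [cj_apply]
    rcases eq_or_ne i j with rfl | hij
    · rw [← conjMat_mul, ← map_mul]; exact hW.1 hY i _ (mul_mem hx hy) u hu
    · have hc : sgl j x * sgl i y = sgl i y * sgl j x := Units.ext (by
        rw [Units.val_mul, Units.val_mul, sgl_coe, sgl_coe]; exact S_comm (Ne.symm hij) _ _)
      rw [← conjMat_mul, hc, conjMat_mul]
      have hs : ∀ z, conjMat (sgl i y) (S j z) = S j z := fun z =>
        (conjMat_eq_iff_mul ..).2 (by rw [sgl_coe]; exact S_comm hij _ _)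
      have := congrArg (conjMat (sgl i y)) (hW.1 hY j x hx u hu)
      rwa [map_zero, sec_apply, map_sub, map_smul, map_add, map_mul (conjMat (sgl i y)), map_mul (conjMat (sgl i y)),
        map_mul (conjMat (sgl i y)), map_mul (conjMat (sgl i y)), hs, hs, ← sec_apply] at this
  have hns : ∀ c : F, B ≠ c • 1 := fun c e => hB0 (by
    obtain ⟨g, hg, hgv⟩ := h
    exact skew_slf_zero (gram_sym hd.sym) (corner_skew hd (hG.iso hg) hgv) (e ▸ (slf _).smul_mem c (one_slf (gram_sym hd.sym))))
  obtain ⟨lam, hlam, T, hT, ⟨j, hj⟩, hmem⟩ := extract hd t W hWi (Or.inl (by omega)) _ hBW ⟨(), hns⟩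
  obtain ⟨x, hx, u, hu, hne⟩ := sec_pat hd ((hT j).resolve_left hj)
  have hT0 : ∀ i, T i ≠ 0 := fun i => by
    intro e
    rcases hT i with h1 | h1 | ⟨f, hf, hσ, h1⟩ <;> rw [e] at h1
    · exact zero_ne_one (congrFun (congrFun h1 a) a |>.trans (Matrix.one_apply_eq a))
    · rw [EA_eq hd] at h1
      exact zero_ne_one (congrFun (congrFun h1 a) b |>.trans (Matrix.single_apply_same a b 1))
    · have h3 := Qa_inj hd hf h1.symm
      exact hσ (by rw [h3, frm_zero_left])
  have h3 := hW.1 hmem j x hx u hu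
  rw [map_smul, ← putL_self j T, show putL j T (T j) = pureTensor (Function.update T j (T j)) from rfl, conj_sgl_pure,
    Function.update_self, Function.update_idem, map_smul, ← show putL j T (conjMat x (T j)) = pureTensor _ from rfl,
    sec_putL, smul_eq_zero] at h3
  rcases h3 with h3 | h3
  · exact hlam (funext fun _ => h3)
  · exact putL_ne_zero hT0 hne h3

end Cfsg.Agent.TensorWreath.Or
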