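import Cfsg.Agent.Lib.Forms.Max.TensorWreath.Orth.Classify

/-!
# Similitudes carrying the slot groups into the wreath group
-/

set_option autoImplicit false
set_option linter.unusedSectionVars false
set_option linter.unusedSimpArgs false

namespace Cfsg.Agent.TensorWreath.Or

open Matrix Cfsg.Agent.Aschbacher

variable {F : Type*} [Field F] {k t : ℕ} {J : Matrix (Fin k) (Fin k) F} {a b : Fin k}

theorem sim_inv {ι : Type} [Fintype ι] [DecidableEq ι] {G : Matrix ι ι F} {g : GL ι F} {m : F} (hm : m ≠ 0)
    (hg : g.valᵀ * G * g.val = m • G) : (g⁻¹).valᵀ * G * (g⁻¹).val = m⁻¹ • G := by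
  have h1 : G = m⁻¹ • (g.valᵀ * G * g.val) := by rw [hg, smul_smul, inv_mul_cancel₀ hm, one_smul]
  conv_lhs => rw [h1]
  rw [mul_smul_comm, smul_mul_assoc]
  congr 1
  calc (g⁻¹).valᵀ * (g.valᵀ * G * g.val) * (g⁻¹).val
      = ((g⁻¹).valᵀ * g.valᵀ) * G * (g.val * (g⁻¹).val) := by simp only [Matrix.mul_assoc]
    _ = G := by
      rw [← transpose_mul, ← Units.val_mul, mul_inv_cancel, Units.val_one, transpose_one, Matrix.one_mul,
        Matrix.mul_one]

theorem sim_iso_mul {ι : Type} [Fintype ι] [DecidableEq ι] {G : Matrix ι ι F} {g h : GL ι F} {m : F}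
    (hg : g.valᵀ * G * g.val = m • G) (hh : h ∈ Iso G) : (h * g).valᵀ * G * (h * g).val = m • G := by
  rw [Units.val_mul, transpose_mul]
  calc g.valᵀ * h.valᵀ * G * (h.val * g.val) = g.valᵀ * (h.valᵀ * G * h.val) * g.val := by
        simp only [Matrix.mul_assoc]
    _ = _ := by rw [mem_Iso.1 hh, hg]

/-- operators of nonorthogonal singular vectors do not commute -/
theorem op_comm_frm (hS : Sym J) {e f : Fin k → F} (he : frm J e e = 0) (hne : frm J e f ≠ 0) :
    op J e e * op J f f ≠ op J f f * op J e e := by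
  intro h
  have h1 := congrArg (fun M => M *ᵥ e) h
  simp only [← mulVec_mulVec, op_mulVec hS, he, zero_smul, mulVec_zero, mulVec_smul, smul_smul, frm_smul_right,
    frm_zero_right, smul_eq_zero] at h1
  rcases h1 with h1 | h1
  · exact mul_ne_zero (by rwa [frm_comm hS]) hne h1
  · exact hne (by rw [h1, frm_zero_left])

variable [Fintype F]

/-- similitudes carrying the slot groups into the wreath group are wreath elements -/
theorem mem_of_conj_roots (hd : Hyp J a b) (ht : 0 < t) {g : GL (Fin t → Fin k) F} {m : F} (hm : m ≠ 0)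
    (hg : g.valᵀ * gram t J * g.val = m • gram t J)
    (h : ∀ j, ∀ x ∈ Sl hd.sym, g * sgl j x * g⁻¹ ∈ Wr F k t) : g ∈ Wr F k t := by
  classical
  haveI : Nonempty (Fin t → Fin k) := ⟨fun _ => a⟩
  have hS := hd.sym
  let A0 : Fin k → F := Pi.single a 1
  let B0 : Fin k → F := Pi.single b 1
  have hA0 : A0 ≠ 0 := fun e => by simpa [A0] using congrFun e a
  have himg : ∀ (i : Fin t) (e : Fin k → F), frm J e e = 0 → e ≠ 0 →
      ∃ (l : Fin t) (z : Matrix (Fin k) (Fin k) F), conjMat g (S i (op J e e)) = S l z := by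
    intro i e he he0
    obtain ⟨x, hx, c, hc, hxe⟩ := exists_moveS hd he0 he
    obtain ⟨pf, pg, hp⟩ := exists_pln hd
    have hxI : x ∈ Iso J := Sl_le_Iso hS hx
    obtain ⟨l, f, d, -, -, -, hl⟩ := conj_root hd hp (g := sgl i x * g⁻¹) (inv_ne_zero hm)
      (sim_iso_mul (sim_inv hm hg) (sgl_iso i hxI)) i (fun u hu => by
        have := h i (x⁻¹ * sg hS A0 u (frm_aa hd) (frm_au hd (hp.mem_mid hu)) * x)
          (mul_mem (mul_mem (inv_mem hx) (sg_mem_Sl _ _ _)) hx)
        rw [map_mul, map_mul, map_inv] at this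
        simpa [A0, mul_assoc] using this)
    refine ⟨l, (c * c) • (d • op J f f), ?_⟩
    have hxA : (x⁻¹).val *ᵥ A0 = c⁻¹ • e := by
      have h1 := congrArg (fun v => c⁻¹ • ((x⁻¹).val *ᵥ v)) hxe
      simp only [cancelV, mulVec_smul, smul_smul, inv_mul_cancel₀ hc, one_smul] at h1
      exact h1.symm
    rw [_root_.mul_inv_rev, inv_inv, ← map_inv, conjMat_mul, sgl_eq, conj_pure_S, Pi.mulSingle_eq_same, EA,
      conj_op (inv_mem hxI), hxA, op_smul_left, op_smul_right] at hl
    rw [smul_smul, map_smul (S i), map_smul (conjMat g)] at hl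
    rw [map_smul (S l), ← hl, smul_smul, show c * c * (c⁻¹ * c⁻¹) = 1 by field_simp, one_smul]
  choose π za hza using fun i => himg i A0 (frm_aa hd) hA0
  have hsame : ∀ i (e : Fin k → F), frm J e e = 0 → frm J e A0 ≠ 0 →
      ∃ z, conjMat g (S i (op J e e)) = S (π i) z := by
    intro i e he hea
    obtain ⟨l, z, hz⟩ := himg i e he fun e0 => hea (by rw [e0, frm_zero_left])
    rcases eq_or_ne l (π i) with rfl | hl
    · exact ⟨z, hz⟩
    exfalso
    refine op_comm_frm hS he hea ?_
    refine algHom_matrix_injective (S (F := F) (m := k) i) ((conjMat g).injective ?_)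
    rw [map_mul, map_mul, map_mul, map_mul, hz, hza, S_comm hl]
  let T : Fin t → Subalgebra F (Matrix (Fin k) (Fin k) F) := fun i =>
    (S (F := F) (m := k) (π i)).range.comap ((conjMat g).toAlgHom.comp (S i))
  have hT : ∀ i z, z ∈ T i ↔ ∃ y, conjMat g (S i z) = S (π i) y := fun i z => by
    simp only [T, Subalgebra.mem_comap, AlgHom.mem_range, AlgHom.comp_apply]
    exact ⟨fun ⟨y, h⟩ => ⟨y, h.symm⟩, fun ⟨y, h⟩ => ⟨y, h.symm⟩⟩
  have hall : ∀ i z, z ∈ T i := by
    intro i
    let es : (Fin k → F) → (Fin k → F) := fun u => B0 + u - ((2 : F)⁻¹ * frm J u u) • A0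
    have h2 := hS.two
    have hes : ∀ u ∈ mid F a b, frm J (es u) (es u) = 0 ∧ frm J (es u) A0 = 1 ∧ frm J A0 (es u) = 1 := by
      intro u hu
      simp only [es, A0, B0, frm_add_left, frm_add_right, frm_sub_left, frm_sub_right, frm_smul_left, frm_smul_right,
        frm_aa hd, frm_bb hd, frm_ab hd, frm_ba hd, frm_au hd hu, frm_bu hd hu, frm_ua hd hu, frm_ub hd hu]
      refine ⟨?_, ?_, ?_⟩ <;> field_simp <;> ring
    have hAA : op J A0 A0 ∈ T i := (hT i _).2 ⟨_, hza i⟩
    have hee : ∀ u ∈ mid F a b, op J (es u) (es u) ∈ T i := fun u hu =>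
      (hT i _).2 (hsame i _ (hes u hu).1 (by rw [(hes u hu).2.1]; exact one_ne_zero))
    have hL : ∀ x, op J x A0 ∈ T i := by
      let P : Submodule F (Fin k → F) :=
        { carrier := {x | op J x A0 ∈ T i}
          zero_mem' := by rw [Set.mem_setOf_eq, op_zero_left]; exact zero_mem _
          add_mem' := fun {x y} hx hy => by rw [Set.mem_setOf_eq, op_add_left]; exact add_mem hx hy
          smul_mem' := fun r x hx => by rw [Set.mem_setOf_eq, op_smul_left]; exact Subalgebra.smul_mem _ hx r }
      intro x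
      have hP : P = ⊤ := span_iso_off hd fun u hu => by
        have := mul_mem (hee u hu) hAA
        rw [op_mul hS, (hes u hu).2.1, one_smul] at this
        exact this
      exact (hP ▸ Submodule.mem_top : x ∈ P)
    have hR : ∀ x, op J A0 x ∈ T i := by
      let P : Submodule F (Fin k → F) :=
        { carrier := {x | op J A0 x ∈ T i}
          zero_mem' := by rw [Set.mem_setOf_eq, op_zero_right]; exact zero_mem _
          add_mem' := fun {x y} hx hy => by rw [Set.mem_setOf_eq, op_add_right]; exact add_mem hx hy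
          smul_mem' := fun r x hx => by rw [Set.mem_setOf_eq, op_smul_right]; exact Subalgebra.smul_mem _ hx r }
      intro x
      have hP : P = ⊤ := span_iso_off hd fun u hu => by
        have := mul_mem hAA (hee u hu)
        rw [op_mul hS, (hes u hu).2.2, one_smul] at this
        exact this
      exact (hP ▸ Submodule.mem_top : x ∈ P)
    have hB : op J B0 B0 ∈ T i := by simpa [es, frm_zero_left] using hee 0 (zero_mem _)
    have hone : ∀ x y, op J x y ∈ T i := fun x y => by
      have := mul_mem (mul_mem (hL x) hB) (hR y)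
      rwa [op_mul hS, frm_ab hd, one_smul, op_mul hS, frm_ba hd, one_smul] at this
    intro z
    rw [Matrix.matrix_eq_sum_single z]
    refine sum_mem fun p _ => sum_mem fun q _ => ?_
    have e : Matrix.single p q (z p q) =
        z p q • op J (Pi.single p 1) ((hS.unit.unit⁻¹).val *ᵥ Pi.single q 1) := by
      rw [op, mulVec_mulVec, show J * (hS.unit.unit⁻¹).val = 1 from hS.unit.mul_val_inv, one_mulVec,
        ← single_eq_single_vecMulVec_single, Matrix.smul_single, smul_eq_mul, mul_one]
    rw [e]
    exact Subalgebra.smul_mem _ (hone _ _) _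
  choose y hy using fun i z => (hT i z).1 (hall i z)
  have hinj : Function.Injective π := by
    intro i i' hii
    by_contra hne
    let L : Matrix (Fin k) (Fin k) F →ₗ[F] Matrix (Fin k) (Fin k) F :=
      { toFun := y i
        map_add' := fun u v => algHom_matrix_injective (S (F := F) (m := k) (π i)) (by
          rw [← hy, map_add, map_add, hy, hy, map_add])
        map_smul' := fun r u => algHom_matrix_injective (S (F := F) (m := k) (π i)) (by
          rw [← hy, map_smul, map_smul, hy, RingHom.id_apply, map_smul]) }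
    have hLi : Function.Injective L := fun u v h => algHom_matrix_injective (S (F := F) (m := k) i)
      ((conjMat g).injective (by rw [hy, hy]; exact congrArg _ h))
    obtain ⟨z, hz⟩ := (LinearMap.injective_iff_surjective.1 hLi) (y i' (op J A0 A0))
    have e : S i z = S i' (op J A0 A0) := (conjMat g).injective (by
      rw [hy, hy]
      show S (π i) (L z) = _
      rw [hz, hii])
    refine op_comm_frm hS (e := A0) (f := B0) (frm_aa hd) (by rw [frm_ab hd]; exact one_ne_zero) ?_
    refine algHom_matrix_injective (S (F := F) (m := k) i') ?_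
    rw [map_mul, map_mul, ← e, S_comm hne]
  exact mem_of_slots (Fin.pos a) ht (Equiv.ofBijective π (Finite.injective_iff_bijective.1 hinj))
    fun i z => ⟨y i z, hy i z⟩

end Cfsg.Agent.TensorWreath.Or
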