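import Cfsg.Agent.Lib.Forms.Max.TensorWreath.Orth.Raw

/-!
# Rows of shaped elements
-/

set_option autoImplicit false
set_option linter.unusedSectionVars false
set_option linter.unusedSimpArgs false

namespace Cfsg.Agent.TensorWreath.Or

open Matrix Cfsg.Agent.Aschbacher

variable {F : Type*} [Field F] {k t : ℕ} {J : Matrix (Fin k) (Fin k) F} {a b : Fin k}

variable (hd : Hyp J a b)
include hd

/-- a column vanishing at the pair and killed by the middle rows of `J` vanishes -/
theorem col_zero {V : Fin k → Matrix (Fin t → Fin k) (Fin t → Fin k) F} (ha : V a = 0) (hb : V b = 0)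
    (h : ∀ m, m ≠ a → m ≠ b → ∑ q, J m q • V q = 0) : V = 0 := by
  classical
  funext q
  ext u v
  have hz : J *ᵥ (fun q => V q u v) = 0 := by
    funext m
    show ∑ q, J m q * V q u v = 0
    by_cases hma : m = a
    · rw [hma, Finset.sum_eq_single b (fun q _ hq => by
        rw [show J a q = 0 by rw [← congrFun (congrFun hd.sym.symm a) q, transpose_apply, hd.ja, if_neg hq], zero_mul]) (by simp),
        hb, Matrix.zero_apply, mul_zero]
    by_cases hmb : m = b
    · rw [hmb, Finset.sum_eq_single a (fun q _ hq => by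
        rw [show J b q = 0 by rw [← congrFun (congrFun hd.sym.symm b) q, transpose_apply, hd.jb, if_neg hq], zero_mul]) (by simp),
        ha, Matrix.zero_apply, mul_zero]
    have := congrFun (congrFun (h m hma hmb) u) v
    simpa [Matrix.sum_apply] using this
  have := Matrix.mulVec_injective_of_isUnit hd.sym.unit (hz.trans (mulVec_zero J).symm)
  exact congrFun this q

variable [Fintype F] {G : Subgroup (GL (Fin (t + 1) → Fin k) F)}

/-- rows proportional to one self-adjoint operator -/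
theorem rows_form (hG : Over J G) {w : Fin k → F} (hw : w ∈ mid F a b) {T : Matrix (Fin t → Fin k) (Fin t → Fin k) F}
    (hT : T ∈ slf (gram t J)) (h : (fun p => (J *ᵥ w) p • T) ∈ rowsp hd hG) :
    ∃ z ∈ G, Shp a b (blk z.val - 1) ∧ ∀ p, p ≠ a → p ≠ b →
      (blk z.val - 1) a p = (J *ᵥ w) p • T ∧ (blk z.val - 1) p b = -(w p • T) := by
  classical
  obtain ⟨-, -, -, z, hz, hs, hv⟩ := h
  set X := blk z.val - 1 with hX
  have hrow : ∀ p, p ≠ a → p ≠ b → X a p = (J *ᵥ w) p • T := fun p ha hb => by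
    rw [hX, Matrix.sub_apply, Matrix.one_apply_ne (Ne.symm ha), sub_zero, hv p ha hb]
  obtain ⟨hwa, hwb⟩ := mem_mid.1 hw
  set V : Fin k → Matrix (Fin t → Fin k) (Fin t → Fin k) F :=
    fun q => if q = a ∨ q = b then 0 else X q b + w q • T with hV
  have hV0 : V = 0 := by
    refine col_zero hd (by simp [hV]) (by simp [hV]) fun m ha hb => ?_
    obtain ⟨hma, hmb, -, -⟩ := J_entries hd ha hb
    have e : ∑ q, J m q • V q = (∑ q, J m q • X q b) + (J *ᵥ w) m • T := by
      rw [show (J *ᵥ w) m = ∑ q, J m q * w q from rfl, Finset.sum_smul, ← Finset.sum_add_distrib]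
      refine Finset.sum_congr rfl fun q _ => ?_
      simp only [hV]
      split_ifs with hq
      · rcases hq with rfl | rfl
        · rw [hma]; simp
        · rw [hmb]; simp
      · rw [smul_add, smul_smul]
    refine (gram_sym hd.sym).unit.mul_left_cancel ?_
    rw [e, mul_add, mul_zero, mul_smul_comm]
    have h1 := shp_rel hd (hG.iso hz) hs ha hb
    rw [← hX, hrow m ha hb, transpose_smul, smul_mul_assoc] at h1
    have h2 := mem_slf.1 hT
    rw [transpose_mul, (gram_sym hd.sym).symm] at h2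
    rw [← h2, add_comm]
    exact h1
  refine ⟨z, hz, hs, fun p ha hb => ⟨hrow p ha hb, ?_⟩⟩
  have := congrFun hV0 p
  simp only [hV, ha, hb, or_self, if_false, Pi.zero_apply] at this
  exact eq_neg_of_add_eq_zero_left this

/-- two proportional row systems give corners -/
theorem corner_of_pair (hG : Over J G) {w w' : Fin k → F} (hw : w ∈ mid F a b) (hw' : w' ∈ mid F a b)
    {T T' : Matrix (Fin t → Fin k) (Fin t → Fin k) F} (hT : T ∈ slf (gram t J)) (hT' : T' ∈ slf (gram t J))
    (h : (fun p => (J *ᵥ w) p • T) ∈ rowsp hd hG) (h' : (fun p => (J *ᵥ w') p • T') ∈ rowsp hd hG) :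
    frm J w w' • (T' * T - T * T') ∈ corners hd G := by
  classical
  intro c
  have h'' : (fun p => (J *ᵥ (c • w')) p • T') ∈ rowsp hd hG := by
    convert Submodule.smul_mem _ c h' using 1
    funext p
    rw [mulVec_smul, Pi.smul_apply, Pi.smul_apply, smul_smul, smul_eq_mul]
  obtain ⟨z, hz, hs, hv⟩ := rows_form hd hG hw hT h
  obtain ⟨z', hz', hs', hv'⟩ := rows_form hd hG (Submodule.smul_mem _ c hw') hT' h''
  set X := blk z.val - 1 with hX
  set X' := blk z'.val - 1 with hX'
  have eX : blk z.val = 1 + X := by rw [hX]; abel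
  have eX' : blk z'.val = 1 + X' := by rw [hX']; abel
  refine ⟨z * z' * z⁻¹ * z'⁻¹, mul_mem (mul_mem (mul_mem hz hz') (inv_mem hz)) (inv_mem hz'), (corner_blk hd).2 ?_⟩
  have hD : (X * X') a b - (X' * X) a b = c • (frm J w w' • (T' * T - T * T')) := by
    rw [Matrix.mul_apply, Matrix.mul_apply, ← Finset.sum_sub_distrib, smul_smul]
    have e : c * frm J w w' = ∑ p, (J *ᵥ w) p * (c • w') p := by
      rw [← frm_smul_right, frm_comm hd.sym, frm, dotProduct]
      exact Finset.sum_congr rfl fun p _ => mul_comm _ _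
    have e' : c * frm J w w' = ∑ p, (J *ᵥ (c • w')) p * w p := by
      rw [← frm_smul_right, frm, dotProduct]
      exact Finset.sum_congr rfl fun p _ => mul_comm _ _
    rw [smul_sub]
    nth_rewrite 1 [e']
    rw [e, Finset.sum_smul, Finset.sum_smul, ← Finset.sum_sub_distrib]
    refine Finset.sum_congr rfl fun p _ => ?_
    obtain ⟨hwa, hwb⟩ := mem_mid.1 hw
    obtain ⟨hwa', hwb'⟩ := mem_mid.1 (Submodule.smul_mem _ c hw')
    by_cases hpa : p = a
    · rw [hpa, (shp_aa hd.hab hs).1, (shp_aa hd.hab hs').1, hwa, hwa']; simp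
    by_cases hpb : p = b
    · rw [hpb, (shp_aa hd.hab hs).2, (shp_aa hd.hab hs').2, hwb, hwb']; simp
    rw [(hv p hpa hpb).1, (hv' p hpa hpb).2, (hv' p hpa hpb).1, (hv p hpa hpb).2]
    simp only [mul_neg, smul_mul_assoc, mul_smul_comm, smul_smul]
    module
  rw [← hD]
  refine (Units.isUnit (z' * z)).map (blk (F := F) (m := k) (t := t)) |>.mul_right_cancel ?_
  rw [Units.val_mul z' z, map_mul, eX, eX', shp_comm hd.hab hs hs', ← eX, ← eX', ← map_mul, ← map_mul, ← map_mul]
  simp only [← Units.val_mul]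
  congr 2
  group

/-- moving rows by elements fixing both lines of the pair -/
theorem rows_levi (hG : Over J G) {x : GL (Fin k) F} (hx : x ∈ Sl hd.sym) {r s : F}
    (xa : x.val *ᵥ Pi.single a 1 = r • Pi.single a 1) (xb : x.val *ᵥ Pi.single b 1 = s • Pi.single b 1)
    (xm : ∀ m ∈ mid F a b, x.val *ᵥ m ∈ mid F a b) {w : Fin k → F} (hw : w ∈ mid F a b)
    {T : Matrix (Fin t → Fin k) (Fin t → Fin k) F} (h : (fun p => (J *ᵥ w) p • T) ∈ rowsp hd hG) :
    (fun p => (J *ᵥ (r • (x.val *ᵥ w))) p • T) ∈ rowsp hd hG := by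
  classical
  obtain ⟨h1, -, -, z, hz, hs, hv⟩ := h
  have hxi := Sl_le_Iso hd.sym hx
  have col : ∀ p q, x.val p q = (x.val *ᵥ Pi.single q 1) p := fun p q => by simp
  have hmid : ∀ q, q ≠ a → q ≠ b → (Pi.single q 1 : Fin k → F) ∈ mid F a b := fun q ha hb =>
    mem_mid.2 ⟨Pi.single_eq_of_ne (Ne.symm ha) _, Pi.single_eq_of_ne (Ne.symm hb) _⟩
  have haa : x.val a a = r := by rw [col, xa]; simp
  have colA : ∀ p, p ≠ a → x.val p a = 0 := fun p hp => by rw [col, xa]; simp [hp]
  have colB : ∀ p, p ≠ b → x.val p b = 0 := fun p hp => by rw [col, xb]; simp [hp]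
  have rowA : ∀ q, q ≠ a → x.val a q = 0 := fun q hq => by
    rcases eq_or_ne q b with rfl | hb
    · exact colB a hd.hab
    · rw [col]; exact (mem_mid.1 (xm _ (hmid q hq hb))).1
  have rowB : ∀ q, q ≠ b → x.val b q = 0 := fun q hq => by
    rcases eq_or_ne q a with rfl | ha
    · exact colA b hd.hab.symm
    · rw [col]; exact (mem_mid.1 (xm _ (hmid q ha hq))).2
  have hinv : (x⁻¹).valᵀ * J = J * x.val := by
    conv_lhs => rw [show J = x.valᵀ * J * x.val from (mem_Iso.1 hxi).symm]
    rw [← Matrix.mul_assoc, ← Matrix.mul_assoc, ← transpose_mul, ← Units.val_mul, mul_inv_cancel, Units.val_one,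
      transpose_one, Matrix.one_mul]
  have hinvA : ∀ q, q ≠ a → (x⁻¹).val q a = 0 := by
    intro q hq
    have hr : r ≠ 0 := fun e => mulVec_ne_zero x (x := Pi.single a 1)
      (fun e => one_ne_zero (by simpa using congrFun e a : (1 : F) = 0)) (by rw [xa, e, zero_smul])
    have e : (x⁻¹).val *ᵥ Pi.single a 1 = r⁻¹ • Pi.single a 1 := by
      have h := congrArg ((x⁻¹).val *ᵥ ·) xa
      simp only [cancelV, mulVec_smul] at h
      conv_rhs => rw [h, smul_smul, inv_mul_cancel₀ hr, one_smul]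
    have := congrFun e q
    simpa [hq] using this
  have hinvB : ∀ y, y ≠ b → (x⁻¹).val b y = 0 := by
    intro y hy
    have e : ((x⁻¹).valᵀ * J) y a = (J * x.val) y a := by rw [hinv]
    rw [Matrix.mul_apply, Matrix.mul_apply, Finset.sum_eq_single b (fun q _ hq => by rw [hd.ja, if_neg hq, mul_zero]) (by simp),
      hd.ja, if_pos rfl, mul_one, transpose_apply, Finset.sum_eq_single a (fun q _ hq => by rw [colA q hq, mul_zero]) (by simp),
      hd.ja, if_neg hy, zero_mul] at e
    exact e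
  have hm : x.val *ᵥ w ∈ mid F a b := xm w hw
  refine ⟨fun p => ?_, ?_, ?_, sgl 0 x * z * (sgl 0 x)⁻¹, ?_, ?_⟩
  · by_cases hTw : (J *ᵥ w) = 0
    · have : w = 0 := Matrix.mulVec_injective_of_isUnit hd.sym.unit (hTw.trans (mulVec_zero J).symm)
      simp [this]
    obtain ⟨q, hq⟩ := Function.ne_iff.1 hTw
    exact Submodule.smul_mem _ _ ((Submodule.smul_mem_iff _ hq).1 (h1 q))
  · simp [mulVec_smul, (Ju_mid hd hm).1, -mulVec_mulVec]
  · simp [mulVec_smul, (Ju_mid hd hm).2, -mulVec_mulVec]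
  · have h0 := hG.slot (by have := hd.hk; omega) 0 hx
    exact mul_mem (mul_mem h0 hz) (inv_mem h0)
  have key : ∀ p y, blk (sgl (0 : Fin (t + 1)) x * z * (sgl 0 x)⁻¹).val p y - (1 : Matrix (Fin k) (Fin k) _) p y =
      ∑ q, ∑ q', (x.val p q * (x⁻¹).val q' y) • (blk z.val - 1) q q' := by
    intro p y
    have e2 : blk (sgl (0 : Fin (t + 1)) x * z * (sgl 0 x)⁻¹).val - 1 =
        blk (S 0 x.val) * (blk z.val - 1) * blk (S 0 (x⁻¹).val) := by
      rw [mul_sub, sub_mul, mul_one, ← map_mul blk (S 0 x.val) (S 0 (x⁻¹).val), ← map_mul (S (0 : Fin (t + 1))),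
        ← Units.val_mul, mul_inv_cancel, Units.val_one, map_one, map_one, ← map_mul, ← map_mul, ← sgl_coe, ← sgl_coe,
        map_inv, Units.val_mul, Units.val_mul]
    rw [← Matrix.sub_apply, e2, Matrix.mul_apply, Finset.sum_comm]
    refine Finset.sum_congr rfl fun q' _ => ?_
    rw [Matrix.mul_apply, Finset.sum_mul]
    refine Finset.sum_congr rfl fun q _ => ?_
    rw [blk_S_zero, blk_S_zero, Matrix.map_apply, Matrix.map_apply, ← Algebra.commutes, ← Algebra.smul_def,
      ← Algebra.smul_def, smul_smul, mul_comm]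
  refine ⟨fun p y hpy => ?_, fun p ha hb => ?_⟩
  · rw [Matrix.sub_apply, key]
    refine Finset.sum_eq_zero fun q _ => Finset.sum_eq_zero fun q' _ => ?_
    by_cases h0 : x.val p q * (x⁻¹).val q' y = 0
    · rw [h0, zero_smul]
    rw [hs q q', smul_zero]
    rintro (⟨hq, hq'⟩ | ⟨hq', hq⟩)
    · have hp : p = a := by by_contra hp; exact h0 (by rw [hq, colA p hp, zero_mul])
      refine hpy (Or.inl ⟨hp, fun hy => h0 ?_⟩)
      rw [hy, hinvA q' hq', mul_zero]
    · have hy : y = b := by by_contra hy; exact h0 (by rw [hq', hinvB y hy, mul_zero])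
      refine hpy (Or.inr ⟨hy, fun hp => h0 ?_⟩)
      rw [hp, rowB q hq, zero_mul]
  · have e := key a p
    rw [Matrix.one_apply_ne (Ne.symm ha), sub_zero] at e
    rw [e, Finset.sum_eq_single a (fun q _ hq => Finset.sum_eq_zero fun q' _ => by
      rw [rowA q hq, zero_mul, zero_smul]) (by simp)]
    have e3 : ∀ q', (x.val a a * (x⁻¹).val q' p) • (blk z.val - 1) a q' = (r * ((x⁻¹).val q' p * (J *ᵥ w) q')) • T := by
      intro q'
      by_cases hqa : q' = a
      · rw [hqa, (shp_aa hd.hab hs).1, (Ju_mid hd hw).1, mul_zero, mul_zero, zero_smul, smul_zero]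
      by_cases hqb : q' = b
      · rw [hqb, hinvB p hb, mul_zero, zero_mul, mul_zero, zero_smul, zero_smul]
      rw [Matrix.sub_apply, Matrix.one_apply_ne (Ne.symm hqa), sub_zero, hv q' hqa hqb, haa, smul_smul, mul_assoc]
    simp only [e3]
    rw [← Finset.sum_smul, ← Finset.mul_sum]
    show (r * ∑ q', (x⁻¹).val q' p * (J *ᵥ w) q') • T = (J *ᵥ (r • (x.val *ᵥ w))) p • T
    rw [mulVec_smul, Pi.smul_apply, smul_eq_mul, mulVec_mulVec, ← hinv, ← mulVec_mulVec]
    rfl

end Cfsg.Agent.TensorWreath.Or
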