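import Cfsg.Agent.Lib.Forms.Max.TensorWreath.Orth.Step

/-!
# Tensor powers of an orthogonal space
-/

set_option autoImplicit false
set_option linter.unusedSectionVars false
set_option linter.unusedSimpArgs false

namespace Cfsg.Agent.TensorWreath.Or

open Matrix Cfsg.Agent.Aschbacher

variable {F : Type*} [Field F] {k t : ℕ} {J : Matrix (Fin k) (Fin k) F} {a b : Fin k}

/-- the Gram matrix of the tensor power -/
def gram (t : ℕ) (J : Matrix (Fin k) (Fin k) F) : Matrix (Fin t → Fin k) (Fin t → Fin k) F :=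
  pureTensor fun _ => J

theorem pure_transpose (X : Fin t → Matrix (Fin k) (Fin k) F) : (pureTensor X)ᵀ = pureTensor fun i => (X i)ᵀ := by
  ext x y; simp [pureTensor_apply]

theorem gram_sym (hS : Sym J) : Sym (gram t J) where
  symm := by rw [gram, pure_transpose]; simp [hS.symm]
  unit := (Pi.isUnit_iff.2 fun _ => hS.unit).map (pureTensor (F := F) (m := k) (t := t))
  two := hS.two

theorem gram_mul_pure (X : Fin t → Matrix (Fin k) (Fin k) F) :
    gram t J * pureTensor X = pureTensor fun i => J * X i := by rw [gram, ← map_mul]; rfl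

theorem pure_sign' (S : Finset (Fin t)) (X : Fin t → Matrix (Fin k) (Fin k) F) :
    pureTensor (fun i => if i ∈ S then -X i else X i) = (-1 : F) ^ S.card • pureTensor X := by
  rw [show (fun i => if i ∈ S then -X i else X i) = fun i => (if i ∈ S then (-1 : F) else 1) • X i from
    funext fun i => by split_ifs <;> simp, pureTensor_smul]
  congr 1
  rw [Finset.prod_ite_mem, Finset.univ_inter, Finset.prod_const]

theorem pure_parity (S : Finset (Fin t)) {X : Fin t → Matrix (Fin k) (Fin k) F}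
    (hs : ∀ i ∈ S, X i ∈ skew J) (hn : ∀ i, i ∉ S → X i ∈ slf J) :
    (gram t J * pureTensor X)ᵀ = (-1 : F) ^ S.card • (gram t J * pureTensor X) := by
  classical
  rw [gram_mul_pure, pure_transpose, ← pure_sign']
  congr 1
  funext i
  split_ifs with h
  · exact mem_skew.1 (hs i h)
  · exact mem_slf.1 (hn i h)

/-- a pure vector -/
def pvec (f : Fin t → Fin k → F) : (Fin t → Fin k) → F := fun x => ∏ i, f i (x i)

theorem pure_mulVec_pvec (X : Fin t → Matrix (Fin k) (Fin k) F) (f : Fin t → Fin k → F) :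
    pureTensor X *ᵥ pvec f = pvec fun i => X i *ᵥ f i := by
  funext x
  simp only [pvec, mulVec, dotProduct, pureTensor_apply, ← Finset.prod_mul_distrib]
  rw [Fintype.prod_sum]

theorem pvec_dot (ψ f : Fin t → Fin k → F) : pvec ψ ⬝ᵥ pvec f = ∏ i, ψ i ⬝ᵥ f i := by
  simp only [pvec, dotProduct, ← Finset.prod_mul_distrib]
  rw [Fintype.prod_sum]

theorem frm_pvec (u w : Fin t → Fin k → F) : frm (gram t J) (pvec u) (pvec w) = ∏ i, frm J (u i) (w i) := by
  rw [frm, gram, pure_mulVec_pvec, pvec_dot]; rfl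

theorem op_pvec (u w : Fin t → Fin k → F) :
    op (gram t J) (pvec u) (pvec w) = pureTensor fun i => op J (u i) (w i) := by
  rw [op, gram, pure_mulVec_pvec]
  ext x y
  simp [vecMulVec_apply, pvec, pureTensor_apply, op, Finset.prod_mul_distrib]

theorem pvec_single (y : Fin t → Fin k) : (Pi.single y 1 : (Fin t → Fin k) → F) = pvec fun i => Pi.single (y i) 1 := by
  funext x
  by_cases h : x = y
  · subst h; simp [pvec]
  · obtain ⟨i, hi⟩ := Function.ne_iff.1 h
    rw [Pi.single_eq_of_ne h, pvec]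
    exact (Finset.prod_eq_zero (Finset.mem_univ i) (Pi.single_eq_of_ne hi _)).symm

theorem nf_mulVec_pvec (σ : Equiv.Perm (Fin t)) (c : Fin t → GL (Fin k) F) (f : Fin t → Fin k → F) :
    (permGL σ * pureGL c).val *ᵥ pvec f = pvec fun i => (c (σ.symm i)).val *ᵥ f (σ.symm i) := by
  rw [Units.val_mul, ← mulVec_mulVec, pureGL_coe, pure_mulVec_pvec]
  funext x
  simp only [mulVec, dotProduct, permGL_apply, ite_mul, one_mul, zero_mul, Finset.sum_ite_eq', Finset.mem_univ, if_true]
  exact Fintype.prod_equiv σ _ _ fun i => by simp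

theorem slot_iso {h : GL (Fin k) F} (hh : h ∈ Iso J) : h.valᵀ * J * h.val = J := hh

theorem pureGL_iso {c : Fin t → GL (Fin k) F} (hc : ∀ i, c i ∈ Iso J) : pureGL c ∈ Iso (gram t J) := by
  rw [mem_Iso, pureGL_coe, pure_transpose, gram, ← map_mul, ← map_mul]
  congr 1
  funext i
  exact slot_iso (hc i)

theorem sgl_iso (j : Fin t) {h : GL (Fin k) F} (hh : h ∈ Iso J) : sgl j h ∈ Iso (gram t J) := by
  classical
  rw [sgl_eq]
  refine pureGL_iso fun i => ?_
  rcases eq_or_ne i j with rfl | hi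
  · rwa [Pi.mulSingle_eq_same]
  · rw [Pi.mulSingle_eq_of_ne hi]; exact one_mem _

theorem perm_iso (π : Equiv.Perm (Fin t)) : (permGL π : GL (Fin t → Fin k) F) ∈ Iso (gram t J) := by
  have h2 : (permGL π : GL (Fin t → Fin k) F).valᵀ = (permGL π.symm : GL (Fin t → Fin k) F).val := by
    ext x y
    rw [transpose_apply, permGL_apply, permGL_apply]
    refine if_congr ⟨fun h => ?_, fun h => ?_⟩ rfl rfl
    · rw [h, Function.comp_assoc, Equiv.self_comp_symm, Function.comp_id]
    · rw [h, Function.comp_assoc, Equiv.symm_comp_self, Function.comp_id]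
  have h3 : (permGL π : GL (Fin t → Fin k) F).val * pureTensor (fun _ : Fin t => J) =
      pureTensor (fun _ : Fin t => J) * (permGL π : GL (Fin t → Fin k) F).val := perm_pure π fun _ => J
  rw [mem_Iso, h2, gram, Matrix.mul_assoc, ← h3, ← Matrix.mul_assoc, ← Units.val_mul, permGL_mul]
  rw [show (π.symm * π : Equiv.Perm (Fin t)) = 1 from Equiv.self_trans_symm π, permGL_one, Units.val_one, Matrix.one_mul]

theorem conj_perm_pureT (π : Equiv.Perm (Fin t)) (X : Fin t → Matrix (Fin k) (Fin k) F) :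
    conjMat (permGL π) (pureTensor X) = pureTensor (X ∘ π.symm) := by
  rw [conjMat_eq_iff_mul]
  exact perm_pure π X

theorem conj_pure_pureT (c : Fin t → GL (Fin k) F) (X : Fin t → Matrix (Fin k) (Fin k) F) :
    conjMat (pureGL c) (pureTensor X) = pureTensor fun i => conjMat (c i) (X i) := by
  rw [conjMat_eq_iff_mul, pureGL_coe, ← map_mul, ← map_mul]
  congr 1
  funext i
  exact ((conjMat_eq_iff_mul ..).1 rfl)

theorem conj_sgl_pure (j : Fin t) (x : GL (Fin k) F) (X : Fin t → Matrix (Fin k) (Fin k) F) :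
    conjMat (sgl j x) (pureTensor X) = pureTensor (Function.update X j (conjMat x (X j))) := by
  rw [sgl_eq, conj_pure_pureT]
  congr 1
  funext i
  rcases eq_or_ne i j with rfl | hi
  · simp
  · rw [Function.update_of_ne hi, Pi.mulSingle_eq_of_ne hi]
    simp [conjMat_apply]

theorem conj_sgl_S0 (x : GL (Fin k) F) (z : Matrix (Fin k) (Fin k) F) :
    conjMat (sgl (0 : Fin (t + 1)) x) (S 0 z) = S 0 (conjMat x z) := by
  rw [conjMat_apply, ← map_inv, sgl_coe, sgl_coe, ← map_mul, ← map_mul, ← conjMat_apply]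

/-! ### blocks and lifts -/

theorem blk_gram (x y : Fin k) : blk (gram (t + 1) J) x y = J x y • gram t J := by
  ext u v
  rw [blk_apply, gram, pureTensor_apply, Fin.prod_univ_succ, Matrix.smul_apply, gram, pureTensor_apply, smul_eq_mul]
  simp

theorem blk_transpose (M : Matrix (Fin (t + 1) → Fin k) (Fin (t + 1) → Fin k) F) (x y : Fin k) :
    blk Mᵀ x y = (blk M y x)ᵀ := rfl

/-- the block equations of an isometry -/
theorem iso_blk {g : GL (Fin (t + 1) → Fin k) F} (hg : g ∈ Iso (gram (t + 1) J)) (x y : Fin k) :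
    ∑ p, ∑ q, J p q • ((blk g.val p x)ᵀ * gram t J * (blk g.val q y)) = J x y • gram t J := by
  rw [← blk_gram, ← show _ = gram (t + 1) J from hg, map_mul, map_mul, Matrix.mul_apply, Finset.sum_comm]
  refine Finset.sum_congr rfl fun q _ => ?_
  rw [Matrix.mul_apply, Finset.sum_mul]
  refine Finset.sum_congr rfl fun p _ => ?_
  rw [blk_transpose, blk_gram, mul_smul_comm, smul_mul_assoc]

theorem blk_S0_lift (z : Matrix (Fin k) (Fin k) F) (M : Matrix (Fin t → Fin k) (Fin t → Fin k) F) (x y : Fin k) :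
    blk (S (0 : Fin (t + 1)) z * lift M) x y = z x y • M := by
  rw [map_mul, blk_S_zero, blk_lift, Matrix.mul_diagonal, Matrix.map_apply, ← Algebra.smul_def]

theorem S0_lift_comm (z : Matrix (Fin k) (Fin k) F) (M : Matrix (Fin t → Fin k) (Fin t → Fin k) F) :
    S (0 : Fin (t + 1)) z * lift M = lift M * S (0 : Fin (t + 1)) z := by
  refine (blk (F := F) (m := k) (t := t)).injective (Matrix.ext fun x y => ?_)
  rw [map_mul, map_mul, blk_S_zero, blk_lift, Matrix.mul_diagonal, Matrix.diagonal_mul, Matrix.map_apply]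
  exact Algebra.commutes _ _

theorem S0_lift_mul (z z' : Matrix (Fin k) (Fin k) F) (M M' : Matrix (Fin t → Fin k) (Fin t → Fin k) F) :
    S (0 : Fin (t + 1)) z * lift M * (S 0 z' * lift M') = S 0 (z * z') * lift (M * M') := by
  rw [map_mul, map_mul, mul_assoc, ← mul_assoc (lift M), ← S0_lift_comm]
  simp only [mul_assoc]

theorem S0_lift_pure (z : Matrix (Fin k) (Fin k) F) (X : Fin t → Matrix (Fin k) (Fin k) F) :
    S (0 : Fin (t + 1)) z * lift (pureTensor X) = pureTensor (Fin.cons z X) := by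
  rw [lift_pure, slotHom_apply, ← map_mul]
  congr 1
  funext i
  induction i using Fin.cases with
  | zero => simp
  | succ i => simp [Pi.mulSingle_eq_of_ne (Fin.succ_ne_zero i)]

theorem liftW_iso {v : GL (Fin t → Fin k) F} (h : v ∈ Iso (gram t J)) : liftW v ∈ Iso (gram (t + 1) J) := by
  rw [mem_Iso]
  refine (blk (F := F) (m := k) (t := t)).injective (Matrix.ext fun x y => ?_)
  rw [map_mul, map_mul, Matrix.mul_apply, Finset.sum_eq_single_of_mem y (Finset.mem_univ y) fun q _ hq => ?_,
    Matrix.mul_apply, Finset.sum_eq_single_of_mem x (Finset.mem_univ x) fun p _ hp => ?_, blk_transpose,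
    blk_gram, liftW_coe, blk_lift, Matrix.diagonal_apply_eq, Matrix.diagonal_apply_eq, mul_smul_comm, smul_mul_assoc,
    mem_Iso.1 h]
  · rw [blk_transpose, liftW_coe, blk_lift, Matrix.diagonal_apply_ne _ hp, transpose_zero, zero_mul]
  · rw [liftW_coe, blk_lift, Matrix.diagonal_apply_ne _ hq, mul_zero]

theorem liftW_Om {v : GL (Fin t → Fin k) F} (h : v ∈ Om (gram t J)) : liftW v ∈ Om (gram (t + 1) J) := by
  have hle : (Iso (gram t J)).map liftW ≤ Iso (gram (t + 1) J) := by
    rintro _ ⟨x, hx, rfl⟩; exact liftW_iso hx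
  have h1 : liftW v ∈ (Om (gram t J)).map liftW := ⟨v, h, rfl⟩
  rw [Om, Subgroup.map_commutator] at h1
  exact Subgroup.commutator_mono hle hle h1

/-! ### the groups -/

/-- the group generated by the slot groups and the permutations of slots -/
def W0 (hS : Sym J) (t : ℕ) : Subgroup (GL (Fin t → Fin k) F) :=
  Subgroup.closure ({g | ∃ j, ∃ h ∈ Sl hS, g = sgl j h} ∪ Set.range (permGL (F := F) (m := k) (t := t)))

theorem sgl_mem_W0 {hS : Sym J} (j : Fin t) {h : GL (Fin k) F} (hh : h ∈ Sl hS) : sgl j h ∈ W0 hS t :=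
  Subgroup.subset_closure (Or.inl ⟨j, h, hh, rfl⟩)

theorem perm_mem_W0 {hS : Sym J} (π : Equiv.Perm (Fin t)) : (permGL π : GL (Fin t → Fin k) F) ∈ W0 hS t :=
  Subgroup.subset_closure (Or.inr ⟨π, rfl⟩)

theorem W0_le_iso {hS : Sym J} : W0 hS t ≤ Iso (gram t J) := by
  refine (Subgroup.closure_le _).2 ?_
  rintro _ (⟨j, h, hh, rfl⟩ | ⟨π, rfl⟩)
  · exact sgl_iso j (Sl_le_Iso hS hh)
  · exact perm_iso π

theorem W0_le_wr {hS : Sym J} : W0 hS t ≤ Wr F k t := by
  refine (Subgroup.closure_le _).2 ?_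
  rintro _ (⟨j, h, -, rfl⟩ | ⟨π, rfl⟩)
  · exact sgl_mem j h
  · exact permGL_mem π

theorem liftW_W0 {hS : Sym J} {w : GL (Fin t → Fin k) F} (hw : w ∈ W0 hS t) : liftW w ∈ W0 hS (t + 1) := by
  induction hw using Subgroup.closure_induction with
  | mem x hx =>
    rcases hx with ⟨j, h, hh, rfl⟩ | ⟨π, rfl⟩
    · rw [liftW_sgl]; exact sgl_mem_W0 _ hh
    · convert perm_mem_W0 (hS := hS) (Equiv.Perm.decomposeFin.symm (0, π)) using 1
      refine Units.ext (Matrix.ext fun x y => ?_)
      rw [liftW_coe, lift_apply, permGL_apply, permGL_apply]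
      have e : (x ∘ Equiv.Perm.decomposeFin.symm (0, π)) = Fin.cons (x 0) (Fin.tail x ∘ π) := by
        funext i
        induction i using Fin.cases with
        | zero => simp
        | succ i => simp [Fin.tail]
      rw [e]
      by_cases h : x 0 = y 0
      · rw [if_pos h]
        refine if_congr ⟨fun h' => ?_, fun h' => ?_⟩ rfl rfl
        · rw [← Fin.cons_self_tail y, h', h]
        · rw [h', Fin.tail_cons]
      · rw [if_neg h, if_neg]
        rintro rfl
        simp at h
  | one => rw [map_one]; exact one_mem _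
  | mul x y _ _ hx hy => rw [map_mul]; exact mul_mem hx hy
  | inv x _ hx => rw [map_inv]; exact inv_mem hx

/-- three cycles are commutators -/
theorem cyc_mem_Om {d l x : Fin t} (hdl : d ≠ l) (hlx : l ≠ x) (hdx : d ≠ x) :
    ∃ π : Equiv.Perm (Fin t), π d = l ∧ π l = x ∧ π x = d ∧ (∀ i, i ≠ d → i ≠ l → i ≠ x → π i = i) ∧
      (permGL π : GL (Fin t → Fin k) F) ∈ Om (gram t J) := by
  classical
  set s := Equiv.swap d x
  set r := Equiv.swap d l
  refine ⟨r * s * r⁻¹ * s⁻¹, ?_, ?_, ?_, fun i h1 h2 h3 => ?_, ?_⟩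
  · simp [s, r, Equiv.swap_apply_def, hdl, hlx, hdx, hdl.symm, hlx.symm, hdx.symm]
  · simp [s, r, Equiv.swap_apply_def, hdl, hlx, hdx, hdl.symm, hlx.symm, hdx.symm]
  · simp [s, r, Equiv.swap_apply_def, hdl, hlx, hdx, hdl.symm, hlx.symm, hdx.symm]
  · simp [s, r, Equiv.swap_apply_of_ne_of_ne, h1, h2, h3]
  · rw [← permGL_mul, ← permGL_mul, ← permGL_mul, ← permGL_inv, ← permGL_inv]
    exact Om_comm (perm_iso r) (perm_iso s)

theorem two_le_card (hk : 2 ≤ k) (ht : 0 < t) : 2 ≤ Fintype.card (Fin t → Fin k) := by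
  rw [Fintype.card_fun, Fintype.card_fin, Fintype.card_fin]
  exact le_trans hk (Nat.le_self_pow (by omega) k)

/-- between the wreath elements of `Ω` and `Ω` -/
structure Over (J : Matrix (Fin k) (Fin k) F) (G : Subgroup (GL (Fin t → Fin k) F)) : Prop where
  le : G ≤ Om (gram t J)
  ge : Wr F k t ⊓ Om (gram t J) ≤ G

variable {G : Subgroup (GL (Fin t → Fin k) F)}

theorem Over.iso (hG : Over J G) : G ≤ Iso (gram t J) := hG.le.trans Om_le_Iso

theorem Over.conjSub {hS : Sym J} (hG : Over J G) {w : GL (Fin t → Fin k) F} (hw : w ∈ W0 hS t) :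
    Over J (TensorWreath.conjSub w G) := by
  refine ⟨fun x hx => ?_, fun x hx => ?_⟩
  · have h := Om_normal (W0_le_iso hw) (hG.le (mem_conjSub.1 hx))
    simpa [mul_assoc] using h
  · refine mem_conjSub.2 (hG.ge ⟨Subgroup.mul_mem _ (Subgroup.mul_mem _ (Subgroup.inv_mem _ (W0_le_wr hw)) hx.1) (W0_le_wr hw), ?_⟩)
    have h := Om_normal (inv_mem (W0_le_iso hw)) hx.2
    rwa [inv_inv] at h

variable [Fintype F]

theorem sgl_Sl_Om {hS : Sym J} (hk : 2 ≤ k) (j : Fin t) {x : GL (Fin k) F} (hx : x ∈ Sl hS) :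
    sgl j x ∈ Om (gram t J) := by
  suffices h : Sl hS ≤ (Om (gram t J)).comap (sgl j) from h hx
  refine (Subgroup.closure_le _).2 ?_
  rintro _ ⟨e, u, he, hu, rfl⟩
  have h : frm J e ((2 : F)⁻¹ • u) = 0 := by rw [frm_smul_right, hu, mul_zero]
  have e1 := sg_mul hS he h h
  rw [sg_congr hS rfl (show (2 : F)⁻¹ • u + (2 : F)⁻¹ • u = u by
    rw [← add_smul, ← two_mul, mul_inv_cancel₀ hS.two, one_smul]) he] at e1
  show sgl j _ ∈ Om _
  rw [← e1, map_mul]
  exact sq_mem_Om (gram_sym hS) (two_le_card hk (Fin.pos j)) (sgl_iso j (sg_iso hS he h))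

theorem Over.slot {hS : Sym J} (hk : 2 ≤ k) (hG : Over J G) (j : Fin t) {x : GL (Fin k) F} (hx : x ∈ Sl hS) :
    sgl j x ∈ G :=
  hG.ge ⟨sgl_mem j x, sgl_Sl_Om hk j hx⟩

theorem Over.pure {hS : Sym J} (hk : 2 ≤ k) (hG : Over J G) {c : Fin t → GL (Fin k) F} (hc : ∀ i, c i ∈ Sl hS) :
    pureGL c ∈ G := by
  classical
  suffices h : ∀ s : Finset (Fin t), pureGL (fun i => if i ∈ s then c i else 1) ∈ G by
    have := h Finset.univ
    simpa using this
  intro s
  induction s using Finset.induction with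
  | empty =>
    convert one_mem G using 1
    simp only [Finset.notMem_empty, if_false]
    exact pureGL_one
  | insert i s hi ih =>
    have e : (fun l => if l ∈ insert i s then c l else 1) = Pi.mulSingle i (c i) * fun l => if l ∈ s then c l else 1 := by
      funext l
      rcases eq_or_ne l i with rfl | hl
      · simp [hi]
      · simp [hl, Pi.mulSingle_eq_of_ne hl]
    rw [e, ← pureGL_mul, ← sgl_eq]
    exact mul_mem (hG.slot hk i (hc i)) ih

/-- supported in the first row and the last column of the pair -/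
def Shp {R : Type*} [Zero R] (a b : Fin k) (X : Matrix (Fin k) (Fin k) R) : Prop :=
  ∀ x y, ¬((x = a ∧ y ≠ a) ∨ (y = b ∧ x ≠ b)) → X x y = 0

/-- radical elements of the conjugates have scalar blocks -/
def TameU (hS : Sym J) (a b : Fin k) (G : Subgroup (GL (Fin (t + 1) → Fin k) F)) : Prop :=
  ∀ w ∈ W0 hS (t + 1), ∀ z ∈ G, Shp a b (blk (w * z * w⁻¹).val - 1) → ∀ y, y ≠ a → ∃ c : F,
    blk (w * z * w⁻¹).val a y = c • 1

theorem TameU.self {hS : Sym J} {G : Subgroup (GL (Fin (t + 1) → Fin k) F)} (hG : TameU hS a b G)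
    {z : GL (Fin (t + 1) → Fin k) F} (hz : z ∈ G) (hs : Shp a b (blk z.val - 1)) (y : Fin k) (hy : y ≠ a) :
    ∃ c : F, blk z.val a y = c • 1 := by
  simpa using hG 1 (one_mem _) z hz (by simpa using hs) y hy

theorem TameU.conjSub {hS : Sym J} {G : Subgroup (GL (Fin (t + 1) → Fin k) F)} (hG : TameU hS a b G)
    {w : GL (Fin (t + 1) → Fin k) F} (hw : w ∈ W0 hS (t + 1)) : TameU hS a b (TensorWreath.conjSub w G) := by
  intro v hv z hz hr y hy
  have e : v * z * v⁻¹ = v * w * (w⁻¹ * z * w) * (v * w)⁻¹ := by group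
  rw [e] at hr ⊢
  exact hG _ (mul_mem hv hw) _ (mem_conjSub.1 hz) hr y hy

theorem pure_sum (X : Fin t → Fin k → Matrix (Fin k) (Fin k) F) :
    pureTensor (fun i => ∑ c, X i c) = ∑ y : Fin t → Fin k, pureTensor fun i => X i (y i) := by
  ext p q
  simp only [Matrix.sum_apply, pureTensor_apply, Fintype.prod_sum]

/-- slot reflections lie in `Ω` when there are two further slots -/
theorem refl_slot_Om (hd : Hyp J a b) (hke : Even k) (ht : 2 ≤ t) {h : Fin k → F} (hσ : frm J h h ≠ 0)
    (j : Fin (t + 1)) : sgl j (rfl' hd.sym h hσ) ∈ Om (gram (t + 1) J) := by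
  classical
  haveI : Invertible (2 : F) := invertibleOfNonzero hd.sym.two
  suffices h0 : sgl (0 : Fin (t + 1)) (rfl' hd.sym h hσ) ∈ Om (gram (t + 1) J) by
    have e : permGL (Equiv.swap 0 j) * sgl 0 (rfl' hd.sym h hσ) * (permGL (Equiv.swap 0 j))⁻¹ =
        sgl j (rfl' hd.sym h hσ) :=
      Units.ext (by rw [← conjMat_units, sgl_coe, conj_perm_S, Equiv.swap_apply_left, sgl_coe])
    rw [← e]
    exact Om_normal (perm_iso _) h0
  have hS' := gram_sym (t := t + 1) hd.sym
  set Q := qf (gram (t + 1) J) with hQ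
  obtain ⟨v, hv⟩ := LinearMap.BilinForm.exists_orthogonal_basis (B := Matrix.toLinearMap₂' F J)
    ⟨fun x y => by
      simp only [Matrix.toLinearMap₂'_apply', RingHom.id_apply]
      exact frm_comm hd.sym x y⟩
  let e := v.reindex (finCongr (Module.finrank_fin_fun F))
  have horth : ∀ c l, c ≠ l → frm J (e c) (e l) = 0 := fun c l hcl => by
    have := hv (i := (finCongr (Module.finrank_fin_fun F)).symm c) (j := (finCongr (Module.finrank_fin_fun F)).symm l)
      fun h => hcl ((finCongr (Module.finrank_fin_fun F)).symm.injective h)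
    simpa [e, frm, LinearMap.IsOrtho, Function.onFun, Matrix.toLinearMap₂'_apply'] using this
  have hδ : ∀ c, frm J (e c) (e c) ≠ 0 := fun c h0 => e.ne_zero c (frm_nd hd.sym fun y => by
    rw [← e.sum_repr y]
    show frm J (e c) (∑ l, e.repr y l • e l) = 0
    rw [frm, mulVec_sum, dotProduct_sum]
    refine Finset.sum_eq_zero fun l _ => ?_
    rw [← frm, frm_smul_right]
    rcases eq_or_ne c l with rfl | hcl
    · rw [h0, mul_zero]
    · rw [horth c l hcl, mul_zero])
  have hone : ∑ c, (frm J (e c) (e c))⁻¹ • op J (e c) (e c) = 1 := by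
    refine Matrix.toLin'.injective (e.ext fun l => ?_)
    rw [Matrix.toLin'_apply, Matrix.toLin'_apply, one_mulVec, Matrix.sum_mulVec,
      Finset.sum_eq_single l (fun c _ hc => by rw [smul_mulVec, op_mulVec hd.sym, horth c l hc, zero_smul, smul_zero])
        (by simp), smul_mulVec, op_mulVec hd.sym, smul_smul, inv_mul_cancel₀ (hδ l), one_smul]
  let w : (Fin t → Fin k) → (Fin (t + 1) → Fin k) → F := fun y => pvec (Fin.cons h fun i => e (y i))
  let N : (Fin t → Fin k) → F := fun y => frm (gram (t + 1) J) (w y) (w y)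
  have hN : ∀ y, N y = frm J h h * ∏ i, frm J (e (y i)) (e (y i)) := fun y => by
    simp only [N, w, frm_pvec, Fin.prod_univ_succ, Fin.cons_zero, Fin.cons_succ]
  have hN0 : ∀ y, N y ≠ 0 := fun y => by
    rw [hN]; exact mul_ne_zero hσ (Finset.prod_ne_zero_iff.2 fun i _ => hδ _)
  have hQw : ∀ y, Q (w y) = (2 : F)⁻¹ * N y := fun y => qf_apply _
  have hQ0 : ∀ y, Q (w y) ≠ 0 := fun y => by rw [hQw]; exact mul_ne_zero (inv_ne_zero hS'.two) (hN0 y)
  let M : (Fin t → Fin k) → Matrix (Fin (t + 1) → Fin k) (Fin (t + 1) → Fin k) F :=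
    fun y => (2 / N y) • op (gram (t + 1) J) (w y) (w y)
  have hMsum : ∑ y, M y = S 0 ((2 / frm J h h) • op J h h) := by
    conv_rhs => rw [← mul_one (S (0 : Fin (t + 1)) _), ← map_one (lift (F := F) (m := k) (t := t)),
      ← map_one (pureTensor (F := F) (m := k) (t := t)),
      show (1 : Fin t → Matrix (Fin k) (Fin k) F) = fun _ => ∑ c, (frm J (e c) (e c))⁻¹ • op J (e c) (e c) from
        funext fun _ => hone.symm, pure_sum, map_sum, Finset.mul_sum]
    refine Finset.sum_congr rfl fun y _ => ?_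
    rw [S0_lift_pure]
    simp only [M, w, op_pvec, hN]
    rw [show (Fin.cons ((2 / frm J h h) • op J h h) fun i => (frm J (e (y i)) (e (y i)))⁻¹ • op J (e (y i)) (e (y i)) :
        Fin (t + 1) → _) = fun i => (Fin.cons (2 / frm J h h) (fun i => (frm J (e (y i)) (e (y i)))⁻¹) : Fin (t + 1) → F) i •
          op J ((Fin.cons h (fun i => e (y i)) : Fin (t + 1) → Fin k → F) i)
            ((Fin.cons h (fun i => e (y i)) : Fin (t + 1) → Fin k → F) i) from
      funext fun i => by induction i using Fin.cases <;> simp, pureTensor_smul]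
    congr 1
    rw [Fin.prod_univ_succ, Fin.cons_zero, div_mul_eq_div_div, div_eq_mul_inv (2 / _), ← Finset.prod_inv_distrib]
    simp
  have key : ∀ s : Finset (Fin t → Fin k), ∃ g : Cfsg.isometryGroup F ⇑Q,
      (g : GL (Fin (t + 1) → Fin k) F).val = 1 - ∑ y ∈ s, M y ∧
      Forms.Spinor.pairHom (qf_nd hS') hS'.two g =
        ∏ y ∈ s, ((-1, if IsSquare (Q (w y)) then -1 else 1) : ℤˣ × ℤˣ) := by
    intro s
    induction s using Finset.induction with
    | empty => exact ⟨1, by simp, by simp⟩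
    | insert y s hy ih =>
      obtain ⟨g, hg, hgp⟩ := ih
      refine ⟨Forms.QuadStd.reflect Q (w y) * g, ?_, ?_⟩
      · have hr : (Forms.QuadStd.reflect Q (w y) : GL (Fin (t + 1) → Fin k) F).val = 1 - M y := by
          refine Matrix.ext_of_mulVec_single fun i => ?_
          rw [← Forms.Reflections.act_apply, Forms.Reflections.act_reflect, sub_mulVec, one_mulVec]
          simp only [M, smul_mulVec, op_mulVec hS', smul_smul, hQw, polar_qf hS']
          congr 2
          have := hS'.two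
          rw [hQ, polar_qf hS']
          field_simp
        rw [Subgroup.coe_mul, Units.val_mul, hr, hg, Finset.sum_insert hy, sub_mul, one_mul, mul_sub, mul_one,
          Finset.mul_sum, Finset.sum_eq_zero (s := s) (f := fun z => M y * M z) fun z hz => ?_]
        · abel
        · obtain ⟨i, hi⟩ := Function.ne_iff.1 (fun h' => hy (h' ▸ hz) : y ≠ z)
          simp only [M, w, smul_mul_smul_comm, op_mul hS', frm_pvec, Fin.prod_univ_succ, Fin.cons_succ]
          rw [Finset.prod_eq_zero (Finset.mem_univ i) (horth _ _ hi), mul_zero, zero_smul, smul_zero]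
      · rw [map_mul, Finset.prod_insert hy, hgp, Forms.Spinor.pairHom_reflect (qf_nd hS') hS'.two (hQ0 y)]
  obtain ⟨g, hg, hgp⟩ := key Finset.univ
  have hcard : Even (Fintype.card (Fin t → Fin k)) := by
    rw [Fintype.card_fun, Fintype.card_fin, Fintype.card_fin]
    exact Nat.even_pow.2 ⟨hke, by omega⟩
  have hker : g ∈ (Forms.Spinor.pairHom (qf_nd hS') hS'.two).ker := by
    rw [MonoidHom.mem_ker, hgp]
    refine Prod.ext ?_ ?_
    · rw [Prod.fst_prod, Prod.fst_one]
      exact (Finset.prod_const _).trans hcard.neg_one_pow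
    rw [Prod.snd_prod, Prod.snd_one]
    refine Units.ext ?_
    rw [Units.coe_prod, Units.val_one]
    have hs : ∀ y, (((if IsSquare (Q (w y)) then -1 else 1 : ℤˣ)) : ℤ) = -1 * quadraticChar F (Q (w y)) := by
      intro y
      have hne : ringChar F ≠ 2 := fun h => hd.sym.two (by
        have : CharP F 2 := h ▸ ringChar.charP F
        exact CharTwo.two_eq_zero)
      split_ifs with hsq
      · rw [(quadraticChar_one_iff_isSquare (hQ0 y)).2 hsq]; simp
      · rw [quadraticChar_neg_one_iff_not_isSquare.2 hsq]; simp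
    simp only [hs, Finset.prod_mul_distrib, Finset.prod_const, Finset.card_univ, hcard.neg_one_pow, one_mul, ← map_prod]
    rw [quadraticChar_one_iff_isSquare (Finset.prod_ne_zero_iff.2 fun y _ => hQ0 y)]
    simp only [hQw, hN, Finset.prod_mul_distrib, Finset.prod_const, Finset.card_univ]
    refine ((hcard.isSquare_pow _).mul ((hcard.isSquare_pow _).mul ?_))
    rw [Finset.prod_comm]
    refine Finset.isSquare_prod _ fun i _ => ?_
    rw [← (Equiv.funSplitAt i (Fin k)).symm.prod_comp, Fintype.prod_prod_type]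
    simp only [Equiv.funSplitAt, Equiv.piSplitAt_symm_apply, dite_true, Finset.prod_const, Finset.card_univ]
    refine Finset.isSquare_prod _ fun c _ => ?_
    refine Even.isSquare_pow ?_ _
    rw [Fintype.card_fun, Fintype.card_subtype_compl, Fintype.card_fin, Fintype.card_subtype_eq, Fintype.card_fin]
    exact Nat.even_pow.2 ⟨hke, by omega⟩
  rw [Forms.Spinor.ker_pairHom (qf_nd hS') hS'.two (two_le_card (by have := hd.hk; omega) (Nat.succ_pos t))] at hker
  rw [Om_eq hS']
  refine ⟨g, hker, Units.ext ?_⟩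
  show (g : GL (Fin (t + 1) → Fin k) F).val = _
  rw [hg, hMsum, sgl_coe]
  show _ = S 0 (1 - (2 / frm J h h) • op J h h)
  rw [map_sub, map_one]

end Cfsg.Agent.TensorWreath.Or
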