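import Cfsg.Agent.Lib.Forms.Max.TensorWreath.Orth.Rows
import Cfsg.Agent.Lib.Forms.Max.TensorWreath.Orth.Comp

/-!
# Shaped unipotent isometries and Levi elements of the slot group
-/

set_option autoImplicit false
set_option linter.unusedSectionVars false
set_option linter.unusedSimpArgs false

namespace Cfsg.Agent.TensorWreath.Or

open Matrix Cfsg.Agent.Aschbacher

variable {F : Type*} [Field F] {k t : ℕ} {J : Matrix (Fin k) (Fin k) F} {a b : Fin k}

/-- products of shaped unipotent elements -/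
theorem shp_mul_val (hab : a ≠ b) {U V : GL (Fin (t + 1) → Fin k) F} (hU : Shp a b (blk U.val - 1))
    (hV : Shp a b (blk V.val - 1)) :
    Shp a b (blk (U * V).val - 1) ∧ ∀ p, p ≠ b → blk (U * V).val a p - (1 : Matrix (Fin k) (Fin k) _) a p =
      (blk U.val - 1) a p + (blk V.val - 1) a p := by
  have e : blk (U * V).val - 1 = (blk U.val - 1) + (blk V.val - 1) +
      Matrix.single a b (((blk U.val - 1) * (blk V.val - 1)) a b) := by
    have h := shp_prod hab hU hV
    rw [add_sub_cancel, add_sub_cancel, ← map_mul, ← Units.val_mul] at h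
    rw [h, add_sub_cancel_left]
  refine ⟨e ▸ shp_add (shp_add hU hV) (shp_single hab _), fun p hp => ?_⟩
  rw [← Matrix.sub_apply, e, Matrix.add_apply, Matrix.add_apply, Matrix.single_apply, if_neg (fun h => hp h.2.symm),
    add_zero]

/-- inverses of shaped unipotent elements -/
theorem shp_inv_val (hab : a ≠ b) {U : GL (Fin (t + 1) → Fin k) F} (hU : Shp a b (blk U.val - 1)) :
    Shp a b (blk (U⁻¹).val - 1) ∧ ∀ p, p ≠ b → (blk (U⁻¹).val - 1) a p = -((blk U.val - 1) a p) := by
  have e : blk (U⁻¹).val = 1 + (-(blk U.val - 1) + Matrix.single a b (((blk U.val - 1) * (blk U.val - 1)) a b)) := by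
    refine (U.isUnit.map (blk (F := F) (m := k) (t := t))).mul_left_cancel ?_
    rw [← map_mul, ← Units.val_mul, mul_inv_cancel, Units.val_one, map_one]
    have h := shp_inv hab hU
    rw [add_sub_cancel] at h
    exact h.symm
  rw [e, add_sub_cancel_left]
  refine ⟨shp_add (shp_neg hU) (shp_single hab _), fun p hp => ?_⟩
  rw [Matrix.add_apply, Matrix.neg_apply, Matrix.single_apply, if_neg (fun h => hp h.2.symm), add_zero]

/-- lifts normalise the shaped elements -/
theorem shp_liftW_conj {U : GL (Fin (t + 1) → Fin k) F} (hU : Shp a b (blk U.val - 1)) (v : GL (Fin t → Fin k) F) :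
    Shp a b (blk (liftW v * U * (liftW v)⁻¹).val - 1) := fun x y h => by
  have h0 := hU x y h
  rw [Matrix.sub_apply, sub_eq_zero] at h0
  rw [← conjMat_units, Matrix.sub_apply, blk_liftW_conj, h0, Matrix.one_apply]
  split_ifs <;> simp

variable (hd : Hyp J a b)
include hd

/-- the last column of a shaped isometry with scalar first row -/
theorem col_scalar {z : GL (Fin (t + 1) → Fin k) F} (hz : z ∈ Iso (gram (t + 1) J)) (hs : Shp a b (blk z.val - 1))
    {r : Fin k → F} (hr : ∀ m, m ≠ a → m ≠ b → blk z.val a m = r m • 1) :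
    (∀ q, q ≠ a → q ≠ b → ∃ c : F, blk z.val q b = c • 1) ∧
      ((∀ m, m ≠ a → m ≠ b → r m = 0) → ∀ q, q ≠ a → q ≠ b → blk z.val q b = 0) := by
  classical
  set X := blk z.val - 1 with hX
  have hXq : ∀ q, q ≠ b → blk z.val q b = X q b := fun q hq => by
    rw [hX, Matrix.sub_apply, Matrix.one_apply_ne hq, sub_zero]
  have rel : ∀ m, m ≠ a → m ≠ b → ∑ q, J m q • X q b = -(r m) • (1 : Matrix (Fin t → Fin k) (Fin t → Fin k) F) := by
    intro m ha hb
    have h := shp_rel hd hz hs ha hb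
    rw [Matrix.sub_apply, hr m ha hb, Matrix.one_apply_ne (Ne.symm ha), sub_zero, transpose_smul, transpose_one,
      smul_mul_assoc, one_mul, ← mul_one (gram t J), mul_assoc, one_mul, ← mul_smul_comm, ← mul_add] at h
    have h2 := (gram_sym hd.sym).unit.mul_left_cancel (h.trans (mul_zero _).symm)
    rw [neg_smul]
    exact eq_neg_of_add_eq_zero_right h2
  obtain ⟨u₀⟩ : Nonempty (Fin t → Fin k) := ⟨fun _ => a⟩
  obtain ⟨c, hc⟩ : ∃ c : Fin k → F, ∀ q, c q = X q b u₀ u₀ := ⟨_, fun _ => rfl⟩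
  obtain ⟨V, hV⟩ : ∃ V : Fin k → Matrix (Fin t → Fin k) (Fin t → Fin k) F,
      ∀ q, V q = if q = a ∨ q = b then 0 else X q b - c q • 1 := ⟨_, fun _ => rfl⟩
  have hV0 : V = 0 := by
    refine col_zero hd (by rw [hV, if_pos (Or.inl rfl)]) (by rw [hV, if_pos (Or.inr rfl)]) fun m ha hb => ?_
    obtain ⟨hma, hmb, -, -⟩ := J_entries hd ha hb
    have e : ∑ q, J m q • V q = ∑ q, J m q • X q b - (∑ q, J m q * c q) • (1 : Matrix (Fin t → Fin k) (Fin t → Fin k) F) := by
      rw [Finset.sum_smul, ← Finset.sum_sub_distrib]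
      refine Finset.sum_congr rfl fun q _ => ?_
      rw [hV]
      split_ifs with h
      · rcases h with rfl | rfl <;> simp [hma, hmb]
      · rw [smul_sub, smul_smul]
    have e2 := congrFun (congrFun (rel m ha hb) u₀) u₀
    simp only [Matrix.sum_apply, Matrix.smul_apply, smul_eq_mul, Matrix.one_apply_eq, mul_one, ← hc] at e2
    rw [e, rel m ha hb, e2, sub_self]
  have hq : ∀ q, q ≠ a → q ≠ b → X q b = c q • 1 := fun q ha hb => by
    have := congrFun hV0 q
    rw [hV, if_neg (not_or.2 ⟨ha, hb⟩)] at this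
    exact sub_eq_zero.1 this
  refine ⟨fun q ha hb => ⟨c q, by rw [hXq q hb, hq q ha hb]⟩, fun h0 => ?_⟩
  obtain ⟨W, hW⟩ : ∃ W : Fin k → Matrix (Fin t → Fin k) (Fin t → Fin k) F,
      ∀ q, W q = if q = a ∨ q = b then 0 else X q b := ⟨_, fun _ => rfl⟩
  have hW0 : W = 0 := by
    refine col_zero hd (by rw [hW, if_pos (Or.inl rfl)]) (by rw [hW, if_pos (Or.inr rfl)]) fun m ha hb => ?_
    obtain ⟨hma, hmb, -, -⟩ := J_entries hd ha hb
    rw [Finset.sum_congr rfl (g := fun q => J m q • X q b) fun q _ => ?_, rel m ha hb, h0 m ha hb, neg_zero, zero_smul]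
    rw [hW]
    split_ifs with h
    · rcases h with rfl | rfl <;> simp [hma, hmb]
    · rfl
  intro q ha hb
  have := congrFun hW0 q
  rw [hW, if_neg (not_or.2 ⟨ha, hb⟩)] at this
  rw [hXq q hb]
  exact this

/-- in a tame group shaped elements live in the first slot -/
theorem shaped_slot [Fintype F] {G : Subgroup (GL (Fin (t + 1) → Fin k) F)} (hG : Over J G) (hT : TameU hd.sym a b G)
    {z : GL (Fin (t + 1) → Fin k) F} (hz : z ∈ G) (hs : Shp a b (blk z.val - 1)) :
    ∃ Z : Matrix (Fin k) (Fin k) F, z.val = S 0 Z := by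
  classical
  choose! r hr using fun y (hy : y ≠ a) => hT.self hz hs y hy
  obtain ⟨hcol, -⟩ := col_scalar hd (hG.iso hz) hs fun m ha _ => hr m ha
  obtain ⟨u₀⟩ : Nonempty (Fin t → Fin k) := ⟨fun _ => a⟩
  have hsc : ∀ x y, ∃ c : F, blk z.val x y = c • 1 := by
    intro x y
    by_cases h : (x = a ∧ y ≠ a) ∨ (y = b ∧ x ≠ b)
    · rcases h with ⟨rfl, hy⟩ | ⟨rfl, hx⟩
      · exact ⟨r y, hr y hy⟩
      · rcases eq_or_ne x a with rfl | hxa
        · exact ⟨r y, hr y hd.hab.symm⟩
        · exact hcol x hxa hx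
    · have h0 := hs x y h
      rw [Matrix.sub_apply, sub_eq_zero] at h0
      refine ⟨(1 : Matrix (Fin k) (Fin k) F) x y, ?_⟩
      rw [h0, Matrix.one_apply, Matrix.one_apply, ite_smul, one_smul, zero_smul]
  refine ⟨Matrix.of fun x y => blk z.val x y u₀ u₀, (blk (F := F) (m := k) (t := t)).injective
    (Matrix.ext fun x y => ?_)⟩
  obtain ⟨c, hc⟩ := hsc x y
  rw [blk_S_zero, Matrix.map_apply, Matrix.of_apply, Algebra.algebraMap_eq_smul_one, hc, Matrix.smul_apply,
    Matrix.one_apply_eq, smul_eq_mul, mul_one]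

/-- the pair coordinates of a Levi element -/
theorem levi_entries {x : GL (Fin k) F} (hx : x ∈ Iso J) {r s : F} (hrs : r * s = 1)
    (ha : x.val *ᵥ Pi.single a 1 = r • Pi.single a 1) (hb : x.val *ᵥ Pi.single b 1 = s • Pi.single b 1) :
    (∀ p, x.val p a = if p = a then r else 0) ∧ (∀ q, x.val a q = if q = a then r else 0) ∧
      (∀ p, x.val p b = if p = b then s else 0) ∧ ∀ q, x.val b q = if q = b then s else 0 := by
  have hr0 : r ≠ 0 := fun h => one_ne_zero (hrs.symm.trans (by rw [h, zero_mul]))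
  have hs0 : s ≠ 0 := fun h => one_ne_zero (hrs.symm.trans (by rw [h, mul_zero]))
  refine ⟨fun p => ?_, fun q => ?_, fun p => ?_, fun q => ?_⟩
  · have := congrFun ha p
    simp [Pi.single_apply] at this
    exact this
  · have h := iso_frm hx (Pi.single b 1) (Pi.single q 1)
    rw [hb, frm_smul_left, frm_b hd, frm_b hd, mulVec_single_one, Matrix.col_apply] at h
    rcases eq_or_ne q a with rfl | hq
    · rw [if_pos rfl]
      rw [Pi.single_eq_same] at h
      calc x.val q q = r * s * x.val q q := by rw [hrs, one_mul]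
        _ = r := by rw [mul_assoc, h, mul_one]
    · rw [if_neg hq]
      rw [Pi.single_eq_of_ne hq.symm] at h
      exact (mul_eq_zero.1 h).resolve_left hs0
  · have := congrFun hb p
    simp [Pi.single_apply] at this
    exact this
  · have h := iso_frm hx (Pi.single a 1) (Pi.single q 1)
    rw [ha, frm_smul_left, frm_a hd, frm_a hd, mulVec_single_one, Matrix.col_apply] at h
    rcases eq_or_ne q b with rfl | hq
    · rw [if_pos rfl]
      rw [Pi.single_eq_same] at h
      calc x.val q q = r * s * x.val q q := by rw [hrs, one_mul]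
        _ = r * x.val q q * s := by ring
        _ = s := by rw [h, one_mul]
    · rw [if_neg hq]
      rw [Pi.single_eq_of_ne hq.symm] at h
      exact (mul_eq_zero.1 h).resolve_left hr0

theorem inv_levi {x : GL (Fin k) F} {r s : F} (hrs : r * s = 1)
    (ha : x.val *ᵥ Pi.single a 1 = r • Pi.single a 1) (hb : x.val *ᵥ Pi.single b 1 = s • Pi.single b 1) :
    (x⁻¹).val *ᵥ Pi.single a 1 = s • Pi.single a 1 ∧ (x⁻¹).val *ᵥ Pi.single b 1 = r • Pi.single b 1 := by
  constructor
  · have h := congrArg (fun v => s • ((x⁻¹).val *ᵥ v)) ha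
    simp only [cancelV, mulVec_smul, smul_smul] at h
    rw [mul_comm s r, hrs, one_smul] at h
    exact h.symm
  · have h := congrArg (fun v => r • ((x⁻¹).val *ᵥ v)) hb
    simp only [cancelV, mulVec_smul, smul_smul] at h
    rw [hrs, one_smul] at h
    exact h.symm

/-- Levi elements normalise the shaped elements -/
theorem shp_levi_conj {x : GL (Fin k) F} (hx : x ∈ Iso J) {r s : F} (hrs : r * s = 1)
    (ha : x.val *ᵥ Pi.single a 1 = r • Pi.single a 1) (hb : x.val *ᵥ Pi.single b 1 = s • Pi.single b 1)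
    {U : GL (Fin (t + 1) → Fin k) F} (hU : Shp a b (blk U.val - 1)) :
    Shp a b (blk (sgl 0 x * U * (sgl 0 x)⁻¹).val - 1) ∧
      ∀ p, (blk (sgl 0 x * U * (sgl 0 x)⁻¹).val - 1) a p = r • ∑ q, (x⁻¹).val q p • (blk U.val - 1) a q := by
  obtain ⟨c1, r1, -, r2⟩ := levi_entries hd hx hrs ha hb
  obtain ⟨ha', hb'⟩ := inv_levi hd hrs ha hb
  obtain ⟨c1', -, -, r2'⟩ := levi_entries hd (inv_mem hx) (by rw [mul_comm, hrs]) ha' hb'
  have e : ∀ p q, (blk (sgl 0 x * U * (sgl 0 x)⁻¹).val - 1) p q =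
      ∑ i, ∑ j, (x.val p i * (x⁻¹).val j q) • (blk U.val - 1) i j := by
    intro p q
    rw [← map_one (blk (F := F) (m := k) (t := t)), ← map_sub, ← map_sub,
      ← conjMat_units, show conjMat (sgl (0 : Fin (t + 1)) x) U.val - 1 = conjMat (sgl 0 x) (U.val - 1) by
        rw [map_sub, map_one], conjMat_apply, ← map_inv, sgl_coe, sgl_coe, map_mul, map_mul, Matrix.mul_apply,
      Finset.sum_comm]
    refine Finset.sum_congr rfl fun j _ => ?_
    rw [Matrix.mul_apply, Finset.sum_mul]
    refine Finset.sum_congr rfl fun i _ => ?_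
    rw [blk_S_zero, blk_S_zero, Matrix.map_apply, Matrix.map_apply, ← Algebra.commutes, ← Algebra.smul_def,
      ← Algebra.smul_def, smul_smul, mul_comm]
  refine ⟨fun p q hpq => ?_, fun p => ?_⟩
  · rw [e]
    refine Finset.sum_eq_zero fun i _ => Finset.sum_eq_zero fun j _ => ?_
    rcases shp_cases hU i j with h | ⟨hi, hj⟩ | ⟨hj, hi⟩
    · rw [h, smul_zero]
    · by_cases hp : p = a
      · have hq : q = a := by by_contra hq; exact hpq (Or.inl ⟨hp, hq⟩)
        rw [hq, c1' j, if_neg hj, mul_zero, zero_smul]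
      · rw [hi, c1 p, if_neg hp, zero_mul, zero_smul]
    · by_cases hq : q = b
      · have hp : p = b := by by_contra hp; exact hpq (Or.inr ⟨hq, hp⟩)
        rw [hp, r2 i, if_neg hi, zero_mul, zero_smul]
      · rw [hj, r2' q, if_neg hq, mul_zero, zero_smul]
  · rw [e, Finset.sum_eq_single a (fun i _ hi => Finset.sum_eq_zero fun j _ => by
      rw [r1 i, if_neg hi, zero_mul, zero_smul]) (by simp), r1 a, if_pos rfl, Finset.smul_sum]
    exact Finset.sum_congr rfl fun j _ => (smul_smul r _ _).symm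

/-- middle vectors with prescribed coordinates against the middle -/
theorem exists_mid_of_coord (φ : Fin k → F) : ∃ u ∈ mid F a b, ∀ q, q ≠ a → q ≠ b → (J *ᵥ u) q = φ q := by
  classical
  obtain ⟨Ju, hJu⟩ := hd.sym.unit
  obtain ⟨ψ, hψ⟩ : ∃ ψ : Fin k → F, ∀ q, ψ q = if q = a ∨ q = b then 0 else φ q := ⟨_, fun _ => rfl⟩
  obtain ⟨u, hu⟩ : ∃ u, u = (Ju⁻¹).val *ᵥ ψ := ⟨_, rfl⟩
  have hJ : J *ᵥ u = ψ := by rw [hu, ← hJu, cancelV']
  refine ⟨u, mem_mid.2 ⟨?_, ?_⟩, fun q ha hb => ?_⟩
  · rw [← frm_b hd u, single_dot, hJ, hψ, if_pos (Or.inr rfl)]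
  · rw [← frm_a hd u, single_dot, hJ, hψ, if_pos (Or.inl rfl)]
  · rw [hJ, hψ, if_neg (not_or.2 ⟨ha, hb⟩)]

variable [Fintype F]

/-- a Levi element acting on an anisotropic vector with the wrong weight -/
theorem exists_neg_weight {f : Fin k → F} (hf : f ∈ mid F a b) (hσ : frm J f f ≠ 0) :
    ∃ x ∈ Sl hd.sym, ∃ r c : F, r ≠ 0 ∧ c ≠ 0 ∧ r ≠ c ∧ x.val *ᵥ Pi.single a 1 = r • Pi.single a 1 ∧
      x.val *ᵥ Pi.single b 1 = r⁻¹ • Pi.single b 1 ∧ x.val *ᵥ f = c • f ∧
      ∀ m ∈ mid F a b, x.val *ᵥ m ∈ mid F a b := by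
  classical
  have h2 := hd.sym.two
  rcases eq_or_ne (Nat.card F) 3 with hq | hq
  · have h4 : 4 ≤ k := hd.big.resolve_left (not_not.2 hq)
    obtain ⟨g, hg, hgf, hρ⟩ : ∃ g ∈ mid F a b, frm J g f = 0 ∧ frm J g g = frm J f f := by
      rcases (show k = 4 ∨ 5 ≤ k by omega) with h | h5
      · obtain ⟨g, hg, hgf, hρ⟩ := exists_perp1 hd h4 hf hσ
        refine ⟨g, hg, hgf, ?_⟩
        by_contra hne
        have h01 : ∀ x : F, x = 0 ∨ x = 1 ∨ x = -1 := by
          intro x
          rw [Nat.card_eq_fintype_card] at hq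
          by_cases hx : x = 0
          · exact Or.inl hx
          have e := FiniteField.pow_card_sub_one_eq_one x hx
          rw [hq, show 3 - 1 = 2 from rfl] at e
          exact Or.inr (sq_eq_one_iff.1 e)
        have hsum : frm J (f + g) (f + g) = 0 := by
          simp only [frm_add_left, frm_add_right, hgf, frm_comm hd.sym f g, add_zero, zero_add]
          rcases h01 (frm J f f) with e | e | e
          · exact absurd e hσ
          all_goals
            rcases h01 (frm J g g) with e' | e' | e'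
            · exact absurd e' hρ
            all_goals
              rw [e, e'] at hne ⊢
              first
                | exact absurd rfl hne
                | ring
        have hm := mem_mid.1 (add_mem hf hg)
        have h0 := hd.minus h (f + g) hm.1 hm.2 hsum
        have := congrArg (fun x => frm J x f) h0
        simp only [frm_add_left, hgf, add_zero, frm_zero_left] at this
        exact hσ this
      · obtain ⟨g, hg, hgf, hv⟩ := exists_perp_value hd h5 hf hσ (frm J f f)
        exact ⟨g, hg, hgf, hv⟩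
    obtain ⟨x, hx, xa, xb, xm⟩ := exists_levi hd hf hσ hg (hρ ▸ hσ)
    rw [hρ, div_self hσ] at xa xb
    refine ⟨x, hx, 1, -1, one_ne_zero, neg_ne_zero.2 one_ne_zero,
      fun h => h2 (by rw [← one_add_one_eq_two]; nth_rewrite 1 [h]; exact neg_add_cancel 1), xa,
      by rw [inv_one]; exact xb, ?_, fun m hm => ?_⟩
    · rw [xm f hf, refl, refl, hgf, mul_zero, zero_div, zero_smul, sub_zero,
        show 2 * frm J f f / frm J f f = 2 by field_simp]
      module
    · rw [xm m hm, refl, refl]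
      exact sub_mem (sub_mem hm (Submodule.smul_mem _ _ hg)) (Submodule.smul_mem _ _ hf)
  · have h5 := card_five hd hq
    obtain ⟨l, hl0, hl⟩ : ∃ l : F, l ≠ 0 ∧ l * l ≠ 1 := by
      obtain ⟨l, -, hl⟩ := Finset.exists_mem_notMem_of_card_lt_card
        (s := ({0, 1, -1} : Finset F)) (t := Finset.univ) (by
          rw [Finset.card_univ]; exact lt_of_le_of_lt Finset.card_le_three (by omega))
      simp only [Finset.mem_insert, Finset.mem_singleton, not_or] at hl
      refine ⟨l, hl.1, fun e => ?_⟩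
      rcases mul_self_eq_one_iff.1 e with e | e
      exacts [hl.2.1 e, hl.2.2 e]
    obtain ⟨x, hx, xa, xb, xm⟩ := exists_torus hd hl0
    exact ⟨x, hx, l * l, 1, mul_ne_zero hl0 hl0, one_ne_zero, hl, xa, xb, by rw [xm f hf, one_smul],
      fun m hm => by rw [xm m hm]; exact hm⟩

omit [Fintype F] in
/-- centralised root elements -/
theorem comm_of_sg {Z : Matrix (Fin k) (Fin k) F}
    (h : ∀ u (hu : u ∈ mid F a b), conjMat (sg hd.sym (Pi.single a 1) u (frm_aa hd) (frm_au hd hu)) Z = Z)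
    {f : Fin k → F} (hf : f ∈ mid F a b) (hσ : frm J f f ≠ 0) :
    EA J a * Z = Z * EA J a ∧
      ∀ u ∈ mid F a b, Qm J u (Pi.single a 1) * Z = Z * Qm J u (Pi.single a 1) := by
  have h2 := hd.sym.two
  have key : ∀ u ∈ mid F a b, Qm J u (Pi.single a 1) * Z - Z * Qm J u (Pi.single a 1) =
      ((2 : F)⁻¹ * frm J u u) • (EA J a * Z - Z * EA J a) := by
    intro u hu
    have e := (conjMat_eq_iff_mul ..).1 (h u hu)
    rw [sg_coe, sgN, add_mul, mul_add, one_mul, mul_one, add_right_inj, sub_mul, mul_sub, smul_mul_assoc,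
      mul_smul_comm, sub_eq_sub_iff_sub_eq_sub, ← smul_sub] at e
    exact e
  have hE : EA J a * Z = Z * EA J a := by
    have e1 := key f hf
    have e2 := key (-f) (neg_mem hf)
    rw [frm_neg_left, frm_neg_right, neg_neg, show Qm J (-f) (Pi.single a 1) = -Qm J f (Pi.single a 1) by
      rw [← neg_one_smul F f, Qm_smul_left, neg_one_smul], neg_mul, mul_neg, sub_neg_eq_add, neg_add_eq_sub] at e2
    have e3 : ((2 : F)⁻¹ * frm J f f) • (EA J a * Z - Z * EA J a) +
        ((2 : F)⁻¹ * frm J f f) • (EA J a * Z - Z * EA J a) = 0 := by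
      nth_rewrite 1 [← e1]
      rw [← e2]; abel
    rw [← add_smul, show (2 : F)⁻¹ * frm J f f + (2 : F)⁻¹ * frm J f f = frm J f f by field_simp; ring] at e3
    exact sub_eq_zero.1 ((smul_eq_zero.1 e3).resolve_left hσ)
  refine ⟨hE, fun u hu => sub_eq_zero.1 ?_⟩
  rw [key u hu, hE, sub_self, smul_zero]

end Cfsg.Agent.TensorWreath.Or
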