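import Cfsg.Agent.Lib.Forms.Max.TensorWreath.Orth.Ops

/-!
# The values of one slot in a space invariant under the slot group
-/

set_option autoImplicit false
set_option linter.unusedSectionVars false
set_option linter.unusedSimpArgs false

namespace Cfsg.Agent.TensorWreath.Or

open Matrix Cfsg.Agent.Aschbacher

section Gen
variable {F : Type*} [Field F] {ι : Type} [Fintype ι] [DecidableEq ι] {J : Matrix ι ι F}

theorem Qm_add_right (x y z : ι → F) : Qm J x (y + z) = Qm J x y + Qm J x z := by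
  simp only [Qm, op_add_left, op_add_right]; abel

theorem Qm_sub_right (x y z : ι → F) : Qm J x (y - z) = Qm J x y - Qm J x z := by
  simp only [Qm, op_sub_left, op_sub_right]; abel

theorem Qm_smul_right (c : F) (x y : ι → F) : Qm J x (c • y) = c • Qm J x y := by
  rw [Qm, op_smul_left, op_smul_right, ← smul_sub]; rfl

theorem Qm_swap (x y : ι → F) : Qm J x y = -Qm J y x := (neg_sub _ _).symm

theorem Qm_add_left (x y z : ι → F) : Qm J (x + y) z = Qm J x z + Qm J y z := by
  simp only [Qm, op_add_left, op_add_right]; abel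

theorem Qm_smul_left (c : F) (x y : ι → F) : Qm J (c • x) y = c • Qm J x y := by
  rw [Qm, op_smul_left, op_smul_right, ← smul_sub]; rfl

theorem Qm_self (x : ι → F) : Qm J x x = 0 := sub_self _

theorem Qm_sub_left (x y z : ι → F) : Qm J (x - y) z = Qm J x z - Qm J y z := by
  simp only [Qm, op_sub_left, op_sub_right]; abel

/-- skew operators are spanned by the pair operators -/
theorem skew_mem_span (hS : Sym J) {X : Matrix ι ι F} (hX : X ∈ skew J) {T : Submodule F (Matrix ι ι F)}
    (hT : ∀ x y, Qm J x y ∈ T) : X ∈ T := by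
  classical
  obtain ⟨U, hU⟩ := hS.unit
  let d : ι → ι → F := fun q => (U⁻¹).val *ᵥ Pi.single q 1
  have hJd : ∀ q, J *ᵥ d q = Pi.single q 1 := fun q => by
    simp only [d]; rw [← hU, cancelV']
  have h1 : X = ∑ q, op J (X *ᵥ Pi.single q 1) (d q) := by
    ext i j
    rw [Matrix.sum_apply, Finset.sum_eq_single j (fun q _ hq => by rw [op_apply, hJd, Pi.single_eq_of_ne (Ne.symm hq), mul_zero])
      (by simp), op_apply, hJd, Pi.single_eq_same, mul_one, mulVec_single_one]
    rfl
  have h2 : -X = ∑ q, op J (d q) (X *ᵥ Pi.single q 1) := by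
    refine hS.unit.mul_left_cancel ?_
    rw [mul_neg, ← mem_skew.1 hX]
    conv_lhs => rw [h1, Finset.mul_sum, transpose_sum]
    rw [Finset.mul_sum]
    exact Finset.sum_congr rfl fun q _ => J_op_transpose hS _ _
  have h3 : (2 : F) • X = ∑ q, Qm J (X *ᵥ Pi.single q 1) (d q) := by
    simp only [Qm, Finset.sum_sub_distrib, ← h1, ← h2, two_smul, sub_neg_eq_add]
  exact (Submodule.smul_mem_iff _ hS.two).1 (h3 ▸ T.sum_mem fun q _ => hT _ _)

end Gen

variable {F : Type*} [Field F] {k : ℕ} {J : Matrix (Fin k) (Fin k) F} {a b : Fin k} {μ : Type}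

/-- two odd operators in succession -/
noncomputable def T2 (hd : Hyp J a b) {u w : Fin k → F} (hu : u ∈ mid F a b) (hw : w ∈ mid F a b) :
    Matrix (Fin k) (Fin k) F →ₗ[F] Matrix (Fin k) (Fin k) F :=
  (odd hd.sym _ u (frm_aa hd) (frm_au hd hu)).comp (odd hd.sym _ w (frm_bb hd) (frm_bu hd hw))

theorem Inv.T2_mem {hd : Hyp J a b} {W : Submodule F (μ → Matrix (Fin k) (Fin k) F)} (hW : Inv hd.sym W)
    {u w : Fin k → F} (hu : u ∈ mid F a b) (hw : w ∈ mid F a b) {Y : μ → Matrix (Fin k) (Fin k) F} (hY : Y ∈ W) :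
    (fun m => T2 hd hu hw (Y m)) ∈ W :=
  hW.odd_mem (frm_aa hd) (frm_au hd hu) (hW.odd_mem (frm_bb hd) (frm_bu hd hw) hY)

theorem T2_one (hd : Hyp J a b) {u w : Fin k → F} (hu : u ∈ mid F a b) (hw : w ∈ mid F a b) : T2 hd hu hw 1 = 0 := by
  rw [T2, LinearMap.comp_apply, odd_one, map_zero]

variable (hd : Hyp J a b)
include hd

theorem oddB_Qm {w g : Fin k → F} (hw : w ∈ mid F a b) (hg : g ∈ mid F a b) :
    odd hd.sym _ w (frm_bb hd) (frm_bu hd hw) (Qm J (Pi.single a 1) g) =
      Qm J w g - frm J w g • Qm J (Pi.single a 1) (Pi.single b 1) := by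
  rw [odd_Qm, frm_ba hd, frm_bu hd hg, frm_ua hd hw]
  simp only [one_smul, zero_smul, sub_zero, zero_sub, mul_zero, mul_one, Qm, op_sub_left, op_sub_right, op_smul_left,
    op_smul_right, op_neg_left, op_neg_right]
  module

theorem oddA_Qm {u w g : Fin k → F} (hu : u ∈ mid F a b) (hw : w ∈ mid F a b) (hg : g ∈ mid F a b) :
    odd hd.sym _ u (frm_aa hd) (frm_au hd hu) (Qm J w g) =
      Qm J (Pi.single a 1) (frm J u g • w - frm J u w • g) := by
  rw [odd_Qm, frm_au hd hg, frm_au hd hw]
  simp only [zero_smul, sub_zero, zero_sub, mul_zero, Qm, op_sub_left, op_sub_right, op_smul_left, op_smul_right,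
    op_neg_left, op_neg_right]
  module

theorem oddA_D0 {u : Fin k → F} (hu : u ∈ mid F a b) :
    odd hd.sym _ u (frm_aa hd) (frm_au hd hu) (Qm J (Pi.single a 1) (Pi.single b 1)) = Qm J (Pi.single a 1) u := by
  rw [odd_Qm, frm_aa hd, frm_ab hd, frm_ua hd hu, frm_ub hd hu]
  simp only [one_smul, zero_smul, sub_zero, mul_zero, mul_one, Qm, op_sub_left, op_sub_right, op_smul_left,
    op_smul_right, op_zero_left, op_zero_right]
  module

theorem oddB_D0 {w : Fin k → F} (hw : w ∈ mid F a b) :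
    odd hd.sym _ w (frm_bb hd) (frm_bu hd hw) (Qm J (Pi.single a 1) (Pi.single b 1)) = Qm J w (Pi.single b 1) := by
  rw [odd_Qm, frm_ba hd, frm_bb hd, frm_ua hd hw, frm_ub hd hw]
  simp only [one_smul, zero_smul, sub_zero, mul_zero, mul_one, Qm, op_sub_left, op_sub_right, op_smul_left,
    op_smul_right, op_zero_left, op_zero_right]
  module

theorem T2_Qm {u w g : Fin k → F} (hu : u ∈ mid F a b) (hw : w ∈ mid F a b) (hg : g ∈ mid F a b) :
    T2 hd hu hw (Qm J (Pi.single a 1) g) =
      Qm J (Pi.single a 1) (frm J u g • w - frm J u w • g - frm J w g • u) := by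
  rw [T2, LinearMap.comp_apply, oddB_Qm hd hw hg, map_sub, map_smul, oddA_Qm hd hu hw hg, oddA_D0 hd hu,
    ← Qm_smul_right, ← Qm_sub_right]

theorem Qa_inj {g : Fin k → F} (hg : g ∈ mid F a b) (h : Qm J (Pi.single a 1) g = 0) : g = 0 := by
  have := congrArg (fun M => M *ᵥ Pi.single b 1) h
  simpa [Qm_mulVec hd.sym, frm_ub hd hg, frm_ab hd, -mulVec_single_one, -mulVec_single] using this

variable [Fintype F] [Finite μ] {W : Submodule F (μ → Matrix (Fin k) (Fin k) F)} (hW : Inv hd.sym W)
include hW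

/-- a non-zero element fixed by the root group -/
theorem exists_fixed {Y : μ → Matrix (Fin k) (Fin k) F} (hY : Y ∈ W) (hY0 : Y ≠ 0) (hs : ∀ m, Y m ∈ skew J) :
    ∃ Z ∈ W, Z ≠ 0 ∧ (∀ m, Z m ∈ skew J) ∧
      ∀ (u : Fin k → F) (hu : u ∈ mid F a b), cj (sg hd.sym _ u (frm_aa hd) (frm_au hd hu)) Z = Z := by
  classical
  obtain ⟨p, hp⟩ := CharP.exists F
  haveI : Fact p.Prime := ⟨(CharP.char_is_prime_or_zero F p).resolve_right (CharP.char_ne_zero_of_finite F p)⟩
  let W' : Submodule F (μ → Matrix (Fin k) (Fin k) F) := W ⊓ Submodule.pi Set.univ fun _ => skew J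
  have hmem : ∀ {Z}, Z ∈ W' ↔ Z ∈ W ∧ ∀ m, Z m ∈ skew J := fun {Z} => by simp [W', Submodule.mem_pi]
  let U : ↥(mid F a b) → GL (Fin k) F := fun u => sg hd.sym _ u.1 (frm_aa hd) (frm_au hd u.2)
  have hU : ∀ u v, U (u + v) = U u * U v := fun u v => (sg_mul hd.sym (frm_aa hd) _ _).symm
  have hU0 : U 0 = 1 := sg_zero hd.sym (frm_aa hd)
  have hclosed : ∀ u, ∀ Z ∈ W', cj (U u) Z ∈ W' := fun u Z hZ =>
    hmem.2 ⟨hW _ (sg_mem_Sl _ _ _) _ (hmem.1 hZ).1, fun m =>
      conj_skew (sg_iso _ _ _) ((hmem.1 hZ).2 m)⟩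
  letI : MulAction (Multiplicative ↥(mid F a b)) ↥W' :=
    { smul := fun u Z => ⟨cj (U u.toAdd) Z.1, hclosed _ _ Z.2⟩
      one_smul := fun Z => Subtype.ext (funext fun m => by
        show conjMat (U 0) _ = _
        rw [hU0]; simp [conjMat_apply])
      mul_smul := fun u v Z => Subtype.ext (funext fun m => by
        show conjMat (U (u.toAdd + v.toAdd)) _ = conjMat (U _) (conjMat (U _) _)
        rw [hU, conjMat_mul]) }
  have hP : IsPGroup p (Multiplicative ↥(mid F a b)) := fun g => ⟨1, by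
    rw [pow_one]
    refine Multiplicative.toAdd.injective ?_
    rw [toAdd_pow, toAdd_one, ← Nat.cast_smul_eq_nsmul F, CharP.cast_eq_zero, zero_smul]⟩
  haveI : Fintype μ := Fintype.ofFinite μ
  have h0 : (0 : ↥W') ∈ MulAction.fixedPoints (Multiplicative ↥(mid F a b)) ↥W' := fun u =>
    Subtype.ext (map_zero (cj (U u.toAdd)))
  have hdvd : p ∣ Nat.card ↥W' := by
    rw [Nat.card_eq_fintype_card, Module.card_eq_pow_finrank (K := F) (V := ↥W')]
    refine dvd_pow ?_ (fun e => hY0 ?_)
    · obtain ⟨n, -, hn⟩ := FiniteField.card F p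
      exact hn ▸ dvd_pow_self p n.ne_zero
    · have h := Submodule.finrank_eq_zero.1 e
      exact (Submodule.mem_bot F).1 (h ▸ hmem.2 ⟨hY, hs⟩)
  obtain ⟨Z, hZ, hne⟩ := hP.exists_fixed_point_of_prime_dvd_card_of_fixed_point _ hdvd h0
  refine ⟨Z.1, (hmem.1 Z.2).1, fun e => hne (Subtype.ext e.symm), (hmem.1 Z.2).2, fun u hu => ?_⟩
  exact congrArg Subtype.val (hZ (Multiplicative.ofAdd ⟨u, hu⟩))

/-- a non-zero element gives a root, a pair operator, or is scalar -/
theorem step {Y : μ → Matrix (Fin k) (Fin k) F} (hY : Y ∈ W) :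
    (∃ h : μ → F, h ≠ 0 ∧ (fun m => h m • EA J a) ∈ W) ∨
      (∃ g : μ → Fin k → F, (∀ m, g m ∈ mid F a b) ∧ g ≠ 0 ∧ (fun m => Qm J (Pi.single a 1) (g m)) ∈ W) ∨
      ∃ h : μ → F, Y = fun m => h m • 1 := by
  classical
  have h2 := hd.sym.two
  by_cases hbeta : ∃ e, e ≠ 0 ∧ frm J e e = 0 ∧ ∃ m, frm J e (Y m *ᵥ e) ≠ 0
  · obtain ⟨e, he, hQ, m, hm⟩ := hbeta
    exact Or.inl ⟨_, fun h => hm (congrFun h m), beta_mem hd hW hY he hQ⟩
  push Not at hbeta
  choose c hc using fun m => skew_of_beta hd (X := Y m) fun e he hQ => hbeta e he hQ m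
  by_cases hK : ∀ m, Y m - c m • 1 = 0
  · exact Or.inr (Or.inr ⟨c, funext fun m => sub_eq_zero.1 (hK m)⟩)
  refine Or.inr (Or.inl ?_)
  -- an element `c + Qm a g`
  obtain ⟨c', g, hg, hg0, hmem⟩ : ∃ (c' : μ → F) (g : μ → Fin k → F), (∀ m, g m ∈ mid F a b) ∧ g ≠ 0 ∧
      (fun m => c' m • 1 + Qm J (Pi.single a 1) (g m)) ∈ W := by
    have fix_to : ∀ (Z : μ → Matrix (Fin k) (Fin k) F), (∀ m, Z m ∈ skew J) →
        (∀ (u : Fin k → F) (hu : u ∈ mid F a b), cj (sg hd.sym _ u (frm_aa hd) (frm_au hd hu)) Z = Z) →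
        ∀ m, ∃ g ∈ mid F a b, Z m = Qm J (Pi.single a 1) g := by
      intro Z hZs hZf m
      have hcomm : ∀ (u : Fin k → F), u ∈ mid F a b → ∀ s : F,
          (s • Qm J u (Pi.single a 1) - ((2 : F)⁻¹ * (s * (s * frm J u u))) • EA J a) * Z m =
            Z m * (s • Qm J u (Pi.single a 1) - ((2 : F)⁻¹ * (s * (s * frm J u u))) • EA J a) := by
        intro u hu s
        have h := congrFun (hZf (s • u) (Submodule.smul_mem _ _ hu)) m
        rw [cj_apply, conjMat_eq_iff_mul, sg_coe, sgN, Qm_smul_left, frm_smul_left, frm_smul_right, add_mul, mul_add,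
          one_mul, mul_one, add_right_inj] at h
        exact h
      have hN : ∀ u ∈ mid F a b, Qm J u (Pi.single a 1) * Z m = Z m * Qm J u (Pi.single a 1) := by
        intro u hu
        have e1 := hcomm u hu 1
        have e2 := hcomm u hu (-1)
        simp only [one_smul, neg_smul, mul_neg, neg_mul, one_mul, mul_one, neg_neg, sub_mul, mul_sub] at e1 e2
        refine smul_right_injective _ h2 ?_
        rw [← sub_eq_zero] at e1 e2
        have e3 := congrArg₂ (· - ·) e1 e2
        simp only [sub_zero] at e3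
        show (2 : F) • _ = (2 : F) • _
        rw [← sub_eq_zero, ← e3, two_smul, two_smul]
        abel
      refine skew_fixed hd (hZs m) ?_ hN
      obtain ⟨f, hf, hσ⟩ := exists_aniso hd
      have e1 := hcomm f hf 1
      simp only [one_smul, mul_one, one_mul, sub_mul, mul_sub, hN f hf, sub_right_inj, smul_mul_assoc, mul_smul_comm] at e1
      exact smul_right_injective _ (mul_ne_zero (inv_ne_zero h2) hσ) e1
    by_cases hfix : ∀ (u : Fin k → F) (hu : u ∈ mid F a b), cj (sg hd.sym _ u (frm_aa hd) (frm_au hd hu)) Y = Y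
    · choose g hg hgv using fix_to (fun m => Y m - c m • 1) hc fun u hu => funext fun m => by
        rw [cj_apply, map_sub, map_smul, map_one, ← cj_apply, hfix u hu]
      refine ⟨c, g, hg, fun h => hK fun m => by rw [hgv, h]; simp [Qm, op_zero_left, op_zero_right], ?_⟩
      convert hY using 1
      funext m
      rw [← hgv, add_sub_cancel]
    · push Not at hfix
      obtain ⟨u, hu, hne⟩ := hfix
      set Z0 := cj (sg hd.sym _ u (frm_aa hd) (frm_au hd hu)) Y - Y
      obtain ⟨Z, hZ, hZ0, hZs, hZf⟩ := exists_fixed hd hW (Y := Z0) (W.sub_mem (hW _ (sg_mem_Sl _ _ _) _ hY) hY)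
        (sub_ne_zero.2 hne) fun m => by
          have e : Z0 m = conjMat (sg hd.sym _ u (frm_aa hd) (frm_au hd hu)) (Y m - c m • 1) - (Y m - c m • 1) := by
            simp only [Z0, Pi.sub_apply, cj_apply, map_sub, map_smul, map_one]; abel
          rw [e]
          exact (skew J).sub_mem (conj_skew (sg_iso _ _ _) (hc m)) (hc m)
      choose g hg hgv using fix_to Z hZs hZf
      refine ⟨0, g, hg, fun h => hZ0 (funext fun m => by rw [hgv, h]; simp [Qm, op_zero_left, op_zero_right]), ?_⟩
      convert hZ using 1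
      funext m
      simp [← hgv]
  -- removing the scalar
  obtain ⟨f, hf, hσ⟩ := exists_aniso hd
  refine ⟨g, hg, hg0, (Submodule.smul_mem_iff _ (neg_ne_zero.2 hσ)).1 ?_⟩
  convert hW.T2_mem hf hf hmem using 1
  funext m
  rw [Pi.smul_apply, map_add, map_smul, T2_one, smul_zero, zero_add, T2_Qm hd hf hf (hg m), ← Qm_smul_right]
  congr 1
  module

omit hW

/-- conditions separating the middle values -/
def Sep (J : Matrix (Fin k) (Fin k) F) (a b : Fin k) (hS : Sym J)
    (W : Submodule F (μ → Matrix (Fin k) (Fin k) F)) : Prop :=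
  k ≠ 4 ∨ (∀ (h : Fin k → F) (hne : frm J h h ≠ 0), h ∈ mid F a b → ∀ Y ∈ W, cj (rfl' hS h hne) Y ∈ W) ∨
    Subsingleton μ ∨ ∀ Y ∈ W, ∀ m, Y m ∈ slf J

include hW

/-- a single anisotropic middle value -/
theorem sep (hsep : Sep J a b hd.sym W) {g : μ → Fin k → F} (hg : ∀ m, g m ∈ mid F a b) (hg0 : g ≠ 0)
    (hmem : (fun m => Qm J (Pi.single a 1) (g m)) ∈ W) :
    ∃ f ∈ mid F a b, frm J f f ≠ 0 ∧ ∃ h : μ → F, h ≠ 0 ∧ (fun m => h m • Qm J (Pi.single a 1) f) ∈ W := by
  classical
  have h2 := hd.sym.two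
  obtain ⟨m0, hm0⟩ : ∃ m, g m ≠ 0 := by
    by_contra h; push Not at h; exact hg0 (funext h)
  obtain ⟨f, hf, hσ, hgf⟩ := exists_aniso_pairing hd (hg m0) hm0
  by_cases h4 : 4 ≤ k
  swap
  · -- the middle is a line
    have hline : ∀ w ∈ mid F a b, w = (frm J w f / frm J f f) • f := by
      intro w hw
      by_contra hne
      have hf0 : f ≠ 0 := fun e => hσ (by rw [e, frm_zero_left])
      have hli : LinearIndependent F ![f, w - (frm J w f / frm J f f) • f] := LinearIndependent.pair_iff.2 fun x y h => by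
        have h1 := congrArg (fun z => frm J z f) h
        simp only [frm_add_left, frm_smul_left, frm_sub_left, div_mul_cancel₀ _ hσ, sub_self, mul_zero, add_zero,
          frm_zero_left, mul_eq_zero, hσ, or_false] at h1
        subst h1
        rw [zero_smul, zero_add, smul_eq_zero, sub_eq_zero] at h
        exact ⟨rfl, h.resolve_right hne⟩
      have h1 : Submodule.span F (Set.range ![f, w - (frm J w f / frm J f f) • f]) ≤ mid F a b := Submodule.span_le.2 (by
        rintro _ ⟨i, rfl⟩
        fin_cases i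
        exacts [hf, sub_mem hw (Submodule.smul_mem _ _ hf)])
      have h2 := Submodule.finrank_mono h1
      rw [finrank_span_eq_card hli, Fintype.card_fin] at h2
      have h3 : Module.finrank F (mid F a b) + 2 ≤ k := by
        have hd' : Disjoint (mid F a b) (Submodule.span F (Set.range ![(Pi.single a 1 : Fin k → F), Pi.single b 1])) := by
          refine Submodule.disjoint_def.2 fun z hz1 hz2 => ?_
          obtain ⟨c, rfl⟩ := (Submodule.mem_span_range_iff_exists_fun F).1 hz2
          obtain ⟨e1, e2⟩ := mem_mid.1 hz1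
          simp [Fin.sum_univ_two, hd.hab, hd.hab.symm] at e1 e2
          simp [Fin.sum_univ_two, e1, e2]
        have hli2 : LinearIndependent F ![(Pi.single a 1 : Fin k → F), Pi.single b 1] :=
          LinearIndependent.pair_iff.2 fun x y h => ⟨by simpa [hd.hab] using congrFun h a,
            by simpa [hd.hab.symm] using congrFun h b⟩
        have h4 := Submodule.finrank_add_finrank_le_of_disjoint hd'
        rw [finrank_span_eq_card hli2, Fintype.card_fin, Module.finrank_fintype_fun_eq_card, Fintype.card_fin] at h4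
        exact h4
      omega
    refine ⟨f, hf, hσ, fun m => frm J (g m) f / frm J f f, fun h => ?_, ?_⟩
    · exact div_ne_zero hgf hσ (congrFun h m0)
    · convert hmem using 1
      funext m
      rw [← Qm_smul_right, ← hline _ (hg m)]
  rcases (show 5 ≤ k ∨ k = 4 by omega) with h5 | hk4
  · obtain ⟨f', hf', hf'f, hρ⟩ := exists_perp1 hd h4 hf hσ
    obtain ⟨f'', hf'', hf''f, hf''f', hτ⟩ := exists_perp2 hd h5 hf hσ hf' hρ hf'f
    have hR : ∀ {x y : Fin k → F}, x ∈ mid F a b → y ∈ mid F a b → ∀ {z : μ → Fin k → F}, (∀ m, z m ∈ mid F a b) →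
        (fun m => Qm J (Pi.single a 1) (z m)) ∈ W →
        (fun m => Qm J (Pi.single a 1) (frm J x (z m) • y - frm J y (z m) • x)) ∈ W := by
      intro x y hx hy z hz hzW
      convert W.smul_mem (2 : F)⁻¹ (W.sub_mem (hW.T2_mem hx hy hzW) (hW.T2_mem hy hx hzW)) using 1
      funext m
      rw [Pi.smul_apply, Pi.sub_apply, T2_Qm hd hx hy (hz m), T2_Qm hd hy hx (hz m), ← Qm_sub_right, ← Qm_smul_right,
        frm_comm hd.sym y x]
      congr 1
      match_scalars <;> field_simp <;> ring
    have h1 := hR hf hf' hg hmem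
    have h3 := hR hf' hf'' (fun m => sub_mem (Submodule.smul_mem _ _ hf') (Submodule.smul_mem _ _ hf)) h1
    refine ⟨f'', hf'', hτ, fun m => frm J f (g m) * frm J f' f', fun h => ?_, ?_⟩
    · have := congrFun h m0
      rw [frm_comm hd.sym f] at this
      exact mul_ne_zero hgf hρ this
    · convert h3 using 1
      funext m
      rw [← Qm_smul_right]
      congr 1
      simp only [frm_sub_right, frm_smul_right, hf'f, hf''f, hf''f', mul_zero, sub_zero, zero_smul]
  rcases hsep with h | h | h | h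
  · exact absurd hk4 h
  · obtain ⟨f', hf', hf'f, hρ⟩ := exists_perp1 hd h4 hf hσ
    have hdec : ∀ w ∈ mid F a b, w = (frm J w f / frm J f f) • f + (frm J w f' / frm J f' f') • f' := by
      intro w hw
      set r := w - ((frm J w f / frm J f f) • f + (frm J w f' / frm J f' f') • f') with hr
      have hrm : r ∈ mid F a b := sub_mem hw (add_mem (Submodule.smul_mem _ _ hf) (Submodule.smul_mem _ _ hf'))
      have hrf : frm J r f = 0 := by
        simp only [hr, frm_sub_left, frm_add_left, frm_smul_left, hf'f, div_mul_cancel₀ _ hσ, mul_zero, add_zero, sub_self]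
      have hrf' : frm J r f' = 0 := by
        simp only [hr, frm_sub_left, frm_add_left, frm_smul_left, frm_comm hd.sym f f', hf'f, div_mul_cancel₀ _ hρ,
          mul_zero, zero_add, sub_self]
      refine sub_eq_zero.1 (show r = 0 from ?_)
      by_contra hr0
      have hrr : frm J r r ≠ 0 := fun e => hr0 (hd.minus hk4 r (mem_mid.1 hrm).1 (mem_mid.1 hrm).2 e)
      have hli : LinearIndependent F ![(Pi.single a 1 : Fin k → F), Pi.single b 1, f, f', r] := by
        refine Fintype.linearIndependent_iff.2 fun c hc => ?_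
        simp only [Fin.sum_univ_five, Matrix.cons_val_zero, Matrix.cons_val_one, Matrix.cons_val] at hc
        have t1 := congrArg (fun z => frm J z (Pi.single b 1)) hc
        have t2 := congrArg (fun z => frm J z (Pi.single a 1)) hc
        have t3 := congrArg (fun z => frm J z f) hc
        have t4 := congrArg (fun z => frm J z f') hc
        have t5 := congrArg (fun z => frm J z r) hc
        simp only [frm_add_left, frm_smul_left, frm_zero_left, frm_ab hd, frm_aa hd, frm_bb hd, frm_ba hd, frm_au hd hf,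
          frm_au hd hf', frm_au hd hrm, frm_bu hd hf, frm_bu hd hf', frm_bu hd hrm, frm_ub hd hf, frm_ub hd hf',
          frm_ub hd hrm, frm_ua hd hf, frm_ua hd hf', frm_ua hd hrm, hf'f, frm_comm hd.sym f f', hrf, hrf',
          frm_comm hd.sym f r, frm_comm hd.sym f' r, mul_zero, mul_one, add_zero, zero_add, mul_eq_zero, hσ, hρ, hrr,
          or_false] at t1 t2 t3 t4 t5
        intro i
        fin_cases i <;> assumption
      have := hli.fintype_card_le_finrank
      rw [Module.finrank_fintype_fun_eq_card, Fintype.card_fin, Fintype.card_fin] at this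
      omega
    refine ⟨f, hf, hσ, fun m => 2 * (frm J (g m) f / frm J f f), fun e => ?_, ?_⟩
    · exact mul_ne_zero h2 (div_ne_zero hgf hσ) (congrFun e m0)
    · convert W.add_mem hmem (h f' hρ hf' _ hmem) using 1
      funext m
      rw [Pi.add_apply, cj_apply, conj_Qm (rfl'_iso _ _ _), rfl'_mulVec, rfl'_mulVec, ← Qm_smul_right]
      rw [show refl J f' (Pi.single a 1) = Pi.single a 1 by simp [refl, frm_ua hd hf'], ← Qm_add_right]
      congr 1
      rw [refl, frm_comm hd.sym f' (g m)]
      conv_rhs => arg 1; rw [hdec _ (hg m)]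
      conv_rhs => arg 2; arg 1; rw [hdec _ (hg m)]
      module
  · refine ⟨g m0, hg m0, fun e => hm0 (hd.minus hk4 _ (mem_mid.1 (hg m0)).1 (mem_mid.1 (hg m0)).2 e), fun _ => 1,
      fun e => one_ne_zero (congrFun e m0), ?_⟩
    convert hmem using 1
    funext m
    rw [one_smul, Subsingleton.elim m m0]
  · exact absurd (skew_slf_zero hd.sym (Qm_skew hd.sym _ _) (h _ hmem m0)) fun e => hm0 (Qa_inj hd (hg m0) e)

omit hW

/-- the slot group acts irreducibly on the skew operators -/
theorem skew_top {V : Submodule F (Matrix (Fin k) (Fin k) F)}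
    (hV : ∀ x ∈ Sl hd.sym, ∀ X ∈ V, conjMat x X ∈ V) (hle : V ≤ skew J) (hne : V ≠ ⊥) : skew J ≤ V := by
  obtain ⟨X, hX, hX0⟩ := Submodule.exists_mem_ne_zero_of_ne_bot hne
  let V' : Submodule F (Unit → Matrix (Fin k) (Fin k) F) := V.comap (LinearMap.proj ())
  have hinv : Inv hd.sym V' := fun x hx Y hY => hV x hx _ hY
  rcases step (μ := Unit) hd hinv (Y := fun _ => X) hX with ⟨h, hh, hmem⟩ | ⟨g, hg, hg0, hmem⟩ | ⟨h, e⟩
  · have h1 := skew_slf_zero hd.sym (hle hmem) ((slf J).smul_mem _ (op_slf hd.sym _))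
    refine absurd ((smul_eq_zero.1 h1).resolve_right fun e => ?_) fun e => hh (funext fun _ => e)
    rw [EA_eq hd] at e
    simpa using congrFun (congrFun e a) b
  swap
  · have e1 : X = h () • 1 := congrFun e ()
    exact absurd (skew_slf_zero hd.sym (hle hX) (e1 ▸ (slf J).smul_mem _ (one_slf hd.sym))) hX0
  obtain ⟨f, hf, hσ, c, hc, hmem⟩ := sep (μ := Unit) hd hinv (Or.inr (Or.inr (Or.inl inferInstance))) hg hg0 hmem
  have hQf : Qm J (Pi.single a 1) f ∈ V :=
    (Submodule.smul_mem_iff _ fun e => hc (funext fun _ => e)).1 hmem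
  have hodd : ∀ {e u : Fin k → F} (he : frm J e e = 0) (hu : frm J e u = 0), ∀ Y ∈ V, odd hd.sym e u he hu Y ∈ V :=
    fun he hu Y hY => hinv.odd_mem he hu (Y := fun _ => Y) hY
  have hD : Qm J (Pi.single a 1) (Pi.single b 1) ∈ V := by
    have := hodd (frm_bb hd) (frm_bu hd hf) _ hQf
    rw [oddB_Qm hd hf hf, Qm_self, zero_sub, neg_mem_iff] at this
    exact (Submodule.smul_mem_iff _ hσ).1 this
  have hA : ∀ u ∈ mid F a b, Qm J (Pi.single a 1) u ∈ V := fun u hu => by
    rw [← oddA_D0 hd hu]; exact hodd _ _ _ hD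
  have hB : ∀ u ∈ mid F a b, Qm J u (Pi.single b 1) ∈ V := fun u hu => by
    rw [← oddB_D0 hd hu]; exact hodd _ _ _ hD
  have hM : ∀ u ∈ mid F a b, ∀ w ∈ mid F a b, Qm J u w ∈ V := fun u hu w hw => by
    have := hodd (frm_bb hd) (frm_bu hd hu) _ (hA w hw)
    rw [oddB_Qm hd hu hw] at this
    simpa using V.add_mem this (V.smul_mem (frm J u w) hD)
  intro Z hZ
  refine skew_mem_span hd.sym hZ fun x y => ?_
  rw [show x = x - x a • Pi.single a 1 - x b • Pi.single b 1 + x a • Pi.single a 1 + x b • Pi.single b 1 by abel,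
    show y = y - y a • Pi.single a 1 - y b • Pi.single b 1 + y a • Pi.single a 1 + y b • Pi.single b 1 by abel]
  have hx := sub_pair_mem hd x
  have hy := sub_pair_mem hd y
  simp only [Qm_add_left, Qm_add_right, Qm_smul_left, Qm_smul_right, Qm_self, smul_zero, add_zero, zero_add]
  repeat' first | apply V.add_mem | apply V.smul_mem
  all_goals first
    | exact hM _ hx _ hy
    | exact hA _ hy
    | exact hB _ hx
    | exact hD
    | (rw [Qm_swap]; exact neg_mem (hA _ hx))
    | (rw [Qm_swap]; exact neg_mem (hB _ hy))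
    | (rw [Qm_swap]; exact neg_mem hD)

end Cfsg.Agent.TensorWreath.Or
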